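import Groth.Agent.Surf.K463.HilbF
import Mathlib.Data.Sym.Card

/-!
# The Hilbert function of the intersection of two quadrics

`hf_ci_two : χ(O_X(m)) = c(m) - 2 c(m-2) + c(m-4)` for `X = V(G_0, G_1) ⊂ P^N` of codimension two.
-/

set_option autoImplicit false
set_option linter.unusedSectionVars false
universe u
open CategoryTheory CategoryTheory.Limits AlgebraicGeometry TopologicalSpace

namespace K463.CI2

open Groth.Agent Groth.Agent.VarietyB.EulerBinom K463.HilbF LefPen Groth.Agent.Lefpen.H718.Chart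
open Groth.Agent.Sga5 Groth.Agent.Lefpen.H121.ChartLift Groth.Agent.Coherent.K51.CIStep

local notation "Sp" k:max => Spec (CommRingCat.of k)

theorem N_eq (n d : ℕ) : N n d = (n + d).choose d := by
  unfold N
  have e : {m : Fin (n + 1) →₀ ℕ | m.degree = d} ≃ Sym (Fin (n + 1)) d :=
    Equiv.subtypeEquiv Multiset.toFinsupp.symm.toEquiv (fun m => by
      change m.degree = d ↔ Multiset.card (Finsupp.toMultiset m) = d
      rw [Finsupp.card_toMultiset]
      rfl)
  rw [Nat.card_congr e, Nat.card_eq_fintype_card, Sym.card_sym_eq_choose, Fintype.card_fin]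
  congr 1
  omega

variable {k : Type u} [Field k] {n : ℕ}

theorem hreg_nil {a : Fin 0 → ℕ} (G : ∀ j : Fin 0, Form n k (a j)) {b : ℕ} (H : Form n k b) (hH : H.1 ≠ 0)
    (i : Fin (n + 1)) : fn G i H.1 ∈ nonZeroDivisors Γ(Y G, ychart G i) := by
  have hker : RingHom.ker (toY G i) = ⊥ := by
    rw [ker_toY, Set.range_eq_empty, Ideal.span_empty]
  have hinj : Function.Injective (toY G i) := (RingHom.injective_iff_ker_eq_bot _).mpr hker
  have hd : ProjChart.dehom n k i H.1 ≠ 0 := by
    intro h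
    apply hH
    refine dehom_injOn i H.2 (MvPolynomial.isHomogeneous_zero (Fin (n + 1)) k b) ?_
    rw [h, map_zero]
  rw [mem_nonZeroDivisors_iff_right]
  intro z hz
  obtain ⟨x, rfl⟩ := toY_surjective G i z
  have h1 : toY G i (x * ProjChart.dehom n k i H.1) = 0 := by
    rw [map_mul]; exact hz
  rw [map_eq_zero_iff _ hinj] at h1
  rcases mul_eq_zero.mp h1 with h | h
  · rw [h, map_zero]
  · exact absurd h hd

theorem ciIdeal_succ {r : ℕ} {a : Fin (r + 1) → ℕ} (G : ∀ j : Fin (r + 1), Form n k (a j)) :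
    ciIdeal (fun j : Fin r => G j.castSucc) ⊔ hypIdeal (G (Fin.last r)) = ciIdeal G := by
  apply le_antisymm
  · exact sup_le (iSup_le fun j => le_iSup (fun j => hypIdeal (G j)) j.castSucc)
      (le_iSup (fun j => hypIdeal (G j)) (Fin.last r))
  · refine iSup_le fun j => ?_
    refine Fin.lastCases ?_ (fun j => ?_) j
    · exact le_sup_right
    · exact (le_iSup (fun j : Fin r => hypIdeal (G j.castSucc)) j).trans le_sup_left

/-- One more equation. -/
theorem hf_succ {r : ℕ} {a : Fin (r + 1) → ℕ} (G : ∀ j : Fin (r + 1), Form n k (a j))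
    (hreg : ∀ i, fn (fun j : Fin r => G j.castSucc) i (G (Fin.last r)).1 ∈
      nonZeroDivisors Γ(Y (fun j : Fin r => G j.castSucc), ychart (fun j : Fin r => G j.castSucc) i)) (m : ℤ) :
    hf k n (ciIdeal G) m = hf k n (ciIdeal (fun j : Fin r => G j.castSucc)) m -
      hf k n (ciIdeal (fun j : Fin r => G j.castSucc)) (m - a (Fin.last r)) := by
  letI : (Y (fun j : Fin r => G j.castSucc)).Over (Sp k) := ⟨yStr _⟩
  have : IsProper ((Y (fun j : Fin r => G j.castSucc)) ↘ (Sp k)) := by
    have := isProper_over k n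
    exact inferInstanceAs (IsProper (yι _ ≫ (CohB1.ProjSpace n k ↘ Spec (CommRingCat.of k))))
  have h := hf_step k n (yι (fun j : Fin r => G j.castSucc)) rfl
    ((hypIdeal (G (Fin.last r))).comap (yι (fun j : Fin r => G j.castSucc))) (a (Fin.last r)) (nonempty_iso _ _ hreg) m
  rw [Lefpen.H879.Ker.map_comap_eq, Scheme.IdealSheafData.ker_subschemeι, ciIdeal_succ] at h
  exact h

theorem hf_nil {a : Fin 0 → ℕ} (G : ∀ j : Fin 0, Form n k (a j)) (m : ℤ) : hf k n (ciIdeal G) m = c n m := by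
  have h1 : ciIdeal G = (𝟙 (CohB1.ProjSpace n k) : CohB1.ProjSpace n k ⟶ _).ker := by
    rw [ciIdeal, iSup_of_empty]
    symm
    rw [Scheme.Hom.ker_eq_bot_of_isIso]
  rw [h1, ← hf_eq k n (𝟙 (CohB1.ProjSpace n k)) (Category.id_comp _) m, ← euler_twist k n m]
  exact CurvesC.DegIso.euler_congr k ((Scheme.Modules.pullbackId _).app _)

variable (G : Fin 2 → Form n k 2) (hn : 2 ≤ n)
  (hdim : topologicalKrullDim (ciIdeal (a := fun _ => 2) G).subscheme = ((n - 2 : ℕ) : WithBot ℕ∞))

include hn hdim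

theorem ne_zero : (G 0).1 ≠ 0 := by
  intro h0
  have hswap : ciIdeal (a := fun _ : Fin 2 => 2) ![G 1, G 0] = ciIdeal (a := fun _ => 2) G := by
    apply le_antisymm
    · refine iSup_le fun j => ?_
      fin_cases j
      · exact le_iSup (fun j => hypIdeal (G j)) 1
      · exact le_iSup (fun j => hypIdeal (G j)) 0
    · refine iSup_le fun j => ?_
      fin_cases j
      · exact le_iSup (fun j => hypIdeal ((![G 1, G 0] : Fin 2 → Form n k 2) j)) 1
      · exact le_iSup (fun j => hypIdeal ((![G 1, G 0] : Fin 2 → Form n k 2) j)) 0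
  have h1 := nonZeroDivisors_of_dim (r := 1) (a := fun _ : Fin 2 => 2) ![G 1, G 0] hn (by rw [hswap]; exact hdim)
  have h2 : ∀ i, Subsingleton Γ(Y (fun j : Fin 1 => (![G 1, G 0] : Fin 2 → Form n k 2) j.castSucc),
      ychart (fun j : Fin 1 => (![G 1, G 0] : Fin 2 → Form n k 2) j.castSucc) i) := by
    intro i
    have h3 := h1 i
    have h4 : ((![G 1, G 0] : Fin 2 → Form n k 2) (Fin.last 1)).1 = 0 := h0
    rw [h4, map_zero] at h3
    exact subsingleton_of_zero_eq_one (by
      have := (mem_nonZeroDivisors_iff_right.mp h3) 1 (by simp)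
      exact this.symm)
  have h3 : IsEmpty (Y (fun j : Fin 1 => (![G 1, G 0] : Fin 2 → Form n k 2) j.castSucc)) := by
    refine ⟨fun y => ?_⟩
    have hy : y ∈ ⨆ j : Fin (n + 1), ychart (fun j : Fin 1 => (![G 1, G 0] : Fin 2 → Form n k 2) j.castSucc) j := by
      rw [Groth.Agent.Lefpen.H708.Geo.iSup_preimage_chart]; trivial
    obtain ⟨i, hi⟩ := Opens.mem_iSup.1 hy
    have := h2 i
    have h5 := (isAffineOpen_ychart (fun j : Fin 1 => (![G 1, G 0] : Fin 2 → Form n k 2) j.castSucc) i)
    have h6 : Nontrivial Γ(Y (fun j : Fin 1 => (![G 1, G 0] : Fin 2 → Form n k 2) j.castSucc),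
      ychart (fun j : Fin 1 => (![G 1, G 0] : Fin 2 → Form n k 2) j.castSucc) i) := by
      have : Nonempty (ychart (fun j : Fin 1 => (![G 1, G 0] : Fin 2 → Form n k 2) j.castSucc) i) := ⟨⟨y, hi⟩⟩
      infer_instance
    exact not_subsingleton _ (h2 i)
  have h4 : IsEmpty (ciIdeal (a := fun _ => 2) G).subscheme := by
    refine ⟨fun y => ?_⟩
    have hle : ciIdeal (fun j : Fin 1 => (![G 1, G 0] : Fin 2 → Form n k 2) j.castSucc) ≤ ciIdeal (a := fun _ => 2) G := by
      rw [← hswap]
      exact iSup_le fun j => le_iSup (fun j => hypIdeal ((![G 1, G 0] : Fin 2 → Form n k 2) j)) j.castSucc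
    exact h3.false ((Scheme.IdealSheafData.inclusion hle) y)
  have h5 : topologicalKrullDim (ciIdeal (a := fun _ => 2) G).subscheme = ⊥ := by
    have : IsEmpty (IrreducibleCloseds (ciIdeal (a := fun _ => 2) G).subscheme) :=
      ⟨fun Z => h4.false Z.isIrreducible.nonempty.some⟩
    exact Order.krullDim_eq_bot
  rw [h5] at hdim
  exact absurd hdim (by simp)

theorem hf_ci_two (m : ℤ) :
    hf k n (ciIdeal (a := fun _ => 2) G) m = c n m - 2 * c n (m - 2) + c n (m - 4) := by
  have h1 := hf_succ (r := 1) (a := fun _ : Fin 2 => 2) G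
    (nonZeroDivisors_of_dim (r := 1) (a := fun _ : Fin 2 => 2) G hn hdim)
  have h2 := hf_succ (r := 0) (a := fun _ : Fin 1 => 2) (fun j : Fin 1 => G j.castSucc)
    (hreg_nil (fun j : Fin 0 => (fun j : Fin 1 => G j.castSucc) j.castSucc) (G 0) (ne_zero G hn hdim))
  rw [h1, h2, h2, hf_nil, hf_nil, hf_nil]
  push_cast
  have h3 : m - 2 - 2 = m - 4 := by ring
  rw [h3]
  ring

end K463.CI2
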