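import Groth.Agent.Surf.K463.HC
import Groth.Agent.Surf.K455.SmoothRR
import Groth.Agent.Krr.H495.Rank
import Groth.Agent.Sga67.LocBasisOps
import Groth.Agent.Dual.H339.OmegaRank
import Groth.Agent.Picfga.CurveRelDim
import Groth.Agent.Dual.H366.ExtQCoh
import Groth.Agent.VarietyB.PullSec
import Groth.Agent.PerfA.IdealModule

/-!
# Riemann–Roch, duality and adjunction on the Picard group of a smooth proper surface

`w` is the class of the canonical module `W`.
* `rr : 2 χ(a) = a·a - a·w + 2 χ(O)`; `hc_dual : h^p(a) = h^m(w a⁻¹)` for `m + p = 2`;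
* `adj : I·I - I·w = -2 χ(O_C)`.
-/

set_option autoImplicit false
set_option linter.unusedSectionVars false
universe u
open CategoryTheory CategoryTheory.Limits AlgebraicGeometry TopologicalSpace

namespace K463.RRd

open Groth.Agent Groth.Agent.Grpsch.PicGrp K464.Base K464.Curves K464.Comp K463.HC

local notation "Sp" k:max => Spec (CommRingCat.of k)

variable (k : Type u) [Field k] {X : Scheme.{u}} [X.Over (Sp k)] [IsProper (X ↘ (Sp k))] [Smooth (X ↘ (Sp k))]
  [IsIntegral X] (hdim : topologicalKrullDim X = 2)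

omit [X.Over (Sp k)] [IsProper (X ↘ (Sp k))] [Smooth (X ↘ (Sp k))] [IsIntegral X] in
theorem isInvertible_extPow {m : ℕ} {E L : X.Modules} (hE : FlatMod.IsFinLocFreeOfRank m E)
    (hL : ExtPow.IsExtPow m E L) : PicF.IsInvertible L := by
  rw [← Ega2.QCohLocal.isFinLocFreeOfRank_one_iff, Krr.H495.Rank.isFinLocFreeOfRank_iff]
  have hE' := Krr.H495.Rank.isFinLocFree_of_rank hE
  refine ⟨Sga67.LocBasis.isFinLocFree_of_isExtPow hE' hL, fun x => ?_⟩
  rw [Krr.H495.Rank.rk_extPow hE' hL, Krr.H495.Rank.rk_of_rank hE, Nat.choose_self]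

include hdim in
theorem relDim : SmoothOfRelativeDimension 2 (X ↘ (Sp k)) :=
  Picfga.CurveRelDim.smoothOfRelativeDimension_of_topologicalKrullDim_eq k X (X ↘ (Sp k)) 2 hdim

omit [IsProper (X ↘ (Sp k))] [Smooth (X ↘ (Sp k))] [IsIntegral X] in
theorem exists_W : ∃ W : X.Modules, ExtPow.IsExtPow 2 (Omega.sheaf (X ↘ (Sp k))) W :=
  Dual.H366.ExtQCoh.exists_isExtPow 2 (VarietyB.PullSec.isQCoh_pullback _ _ (PerfA.IdealModule.isQCoh_idealMod _))

variable {W : X.Modules} (hW : ExtPow.IsExtPow 2 (Omega.sheaf (X ↘ (Sp k))) W)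

include hdim hW in
theorem isInvertible_W : PicF.IsInvertible W := by
  have := relDim k hdim
  exact isInvertible_extPow (Dual.H339.OmegaRank.isFinLocFreeOfRank_omega 2 (X ↘ (Sp k))) hW

variable (hWi : PicF.IsInvertible W)

include hdim hW in
theorem hc_dual (a : Pic X) (m p : ℕ) (h : m + p = 2) : hc k X p a = hc k X m (mk W hWi * a⁻¹) := by
  have := relDim k hdim
  obtain ⟨L, hL, rfl⟩ := exists_mk a
  obtain ⟨L', hL', ⟨e⟩⟩ := exists_inverse hL
  have h1 : (mk L hL)⁻¹ = mk L' hL' := by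
    rw [inv_eq_iff_mul_eq_one, mk_mul_mk, mk_eq_one_iff]
    exact ⟨e⟩
  rw [h1, mk_mul_mk, hc_mk, hc_mk]
  exact K455.SmoothRR.finrank_dual k hW hL ⟨e⟩ m p h

include hdim hW in
/-- **Riemann–Roch.** -/
theorem rr (a : Pic X) : 2 * chi k X a = dot k X a a - dot k X a (mk W hWi) + 2 * chi k X 1 := by
  have := relDim k hdim
  obtain ⟨L, hL, rfl⟩ := exists_mk a
  have h := K455.SmoothRR.rr k hW hdim.le hL
  rw [Fga.IntAdd.eulerCharLE_eq k X 2 hdim.le, Fga.IntAdd.eulerCharLE_eq k X 2 hdim.le, intNum_eq_dot k X hdim.le hL hL,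
    intNum_eq_dot k X hdim.le hL hWi] at h
  rw [chi_mk, chi_one]
  exact h

include hdim hW in
/-- **Adjunction.** -/
theorem adj {C : X.IdealSheafData} (hC : BlowUp.IsEffCartierIdeal C) :
    dot k X (ic C hC) (ic C hC) - dot k X (ic C hC) (mk W hWi) = -2 * Curv2.euler k X (ClSub.quotMod C) := by
  have h := rr k hdim hW hWi (ic C hC)
  rw [euler_quotMod_eq k X hC]
  linarith

include hdim hW in
theorem chi_w : chi k X (mk W hWi) = chi k X 1 := by
  have := relDim k hdim
  rw [chi_mk, chi_one, ← Fga.IntAdd.eulerCharLE_eq k X 2 hdim.le, ← Fga.IntAdd.eulerCharLE_eq k X 2 hdim.le,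
    K455.SmoothRR.euler_W k hW]

/-- `h⁰(O_X) = 1`. -/
theorem hc_zero_one [IsAlgClosed k] : hc k X 0 1 = 1 := VarietyA.CurveFin.finrank_h0_structure k X

include hdim in
/-- An ample class has positive product with the inverse ideal class of a curve. -/
theorem dot_ic_neg_of_ample {C : X.IdealSheafData} (hC : IsCurve C) (hE : BlowUp.IsEffCartierIdeal C) {L : X.Modules}
    (hL : PicF.IsInvertible L) (hamp : CohB1.IsAmple L) : dot k X (ic C hE) (mk L hL) < 0 := by
  rw [dot_ic_eq]
  have := degOn_pos_of_ample k hC hL hamp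
  linarith

omit [X.Over (Sp k)] [IsProper (X ↘ (Sp k))] [Smooth (X ↘ (Sp k))] [IsIntegral X] in
theorem mk_eq_inv_of_isInverseOf {D W : X.Modules} (h : ClSub.IsInverseOf D W) (hD : PicF.IsInvertible D)
    (hWi : PicF.IsInvertible W) : mk D hD = (mk W hWi)⁻¹ := by
  rw [eq_inv_iff_mul_eq_one, mk_mul_mk, mk_eq_one_iff]
  exact h

theorem subsingleton_of_finrank {M : X.Modules} (hM : Coh.IsCoh M) (i : ℕ)
    (h : Module.finrank k (Coh.HH X M i) = 0) : Subsingleton (Coh.HH X M i) := by
  have := K464.Cohom.finite_HH k hM i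
  rw [Module.finrank_eq_zero_iff] at h
  refine ⟨fun a b => ?_⟩
  obtain ⟨c, hc, h1⟩ := h (a - b)
  have := (smul_eq_zero_iff_right hc).mp h1
  exact sub_eq_zero.mp this

include hdim in
/-- The product of an ample class with the ideal class of a nonzero effective divisor is negative. -/
theorem dot_ic_neg_of_ample_eff {E : X.IdealSheafData} (hE : BlowUp.IsEffCartierIdeal E) (hne : E ≠ ⊤)
    {L : X.Modules} (hL : PicF.IsInvertible L) (hamp : CohB1.IsAmple L) : dot k X (ic E hE) (mk L hL) < 0 := by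
  rw [dot_ic_eq]
  have := degOn_pos_of_ample_eff k hdim hL hamp hE hne
  linarith

include hdim in
theorem dot_ic_nonpos_of_ample_eff {E : X.IdealSheafData} (hE : BlowUp.IsEffCartierIdeal E)
    {L : X.Modules} (hL : PicF.IsInvertible L) (hamp : CohB1.IsAmple L) : dot k X (ic E hE) (mk L hL) ≤ 0 := by
  by_cases hne : E = ⊤
  · subst hne
    rw [show ic ⊤ hE = 1 from ic_top, dot_one_left]
  · exact (dot_ic_neg_of_ample_eff k hdim hE hne hL hamp).le

include hdim in
/-- A class with negative product with an ample class has no sections. -/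
theorem hc_zero_eq_zero {a : Pic X} {L : X.Modules} (hL : PicF.IsInvertible L) (hamp : CohB1.IsAmple L)
    (h : dot k X a (mk L hL) < 0) : hc k X 0 a = 0 := by
  by_contra hcon
  obtain ⟨E, hE, rfl⟩ := exists_div k (Nat.pos_of_ne_zero hcon)
  have := dot_ic_nonpos_of_ample_eff k hdim hE hL hamp
  rw [dot_inv_left k X hdim.le] at h
  linarith

include hdim in
/-- An effective class with product zero with an ample class is trivial. -/
theorem eq_one_of_dot_eq_zero {a : Pic X} (h : 0 < hc k X 0 a) {L : X.Modules} (hL : PicF.IsInvertible L)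
    (hamp : CohB1.IsAmple L) (h0 : dot k X a (mk L hL) = 0) : a = 1 := by
  obtain ⟨E, hE, rfl⟩ := exists_div k h
  by_cases hne : E = ⊤
  · subst hne
    rw [show ic ⊤ hE = 1 from ic_top, inv_one]
  · have := dot_ic_neg_of_ample_eff k hdim hE hne hL hamp
    rw [dot_inv_left k X hdim.le] at h0
    omega

end K463.RRd
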