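import Groth.Agent.Surf.K463.HilbF
import Groth.Agent.Surf.K463.RRd
import Groth.Agent.Sga5.AmpleFib
import Groth.Agent.Ega3B.ProjAmple

/-!
# The classes `O_Y(m)` for `Y → P^n`
-/

set_option autoImplicit false
set_option linter.unusedSectionVars false
universe u
open CategoryTheory CategoryTheory.Limits AlgebraicGeometry TopologicalSpace

namespace K463.PnTw

open Groth.Agent Groth.Agent.Grpsch.PicGrp K464.Base K463.HilbF
open Groth.Agent.Ega3B.ProjFrame (isInvertible_twistProjSpace)
open Groth.Agent.Dix.IdealModCartier (pullback_tensorMod)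

local notation "Sp" k:max => Spec (CommRingCat.of k)

variable (k : Type u) [Field k] (n : ℕ)

theorem isAmple_twist_one : CohB1.IsAmple (Twist.twistProjSpace n k 1) := by
  have hc : CompactSpace (CohB1.ProjSpace n k) := by
    have := VarietyB.EulerBinom.isProper_over k n
    exact QuasiCompact.compactSpace_of_compactSpace (CohB1.ProjSpace n k ↘ Spec (CommRingCat.of k))
  have : CompactSpace (Proj (CohB1.polyGrading n k)) := hc
  exact Ega3B.ProjAmple.isAmple_twist (𝒜 := CohB1.polyGrading n k) Nat.one_pos fun x => by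
    obtain ⟨f, U, hx, hU⟩ := Ega3B.ProjFrame.coveredByOne n k x
    exact ⟨f, hU x hx⟩

variable {Y : Scheme.{u}} (i : Y ⟶ CohB1.ProjSpace n k)

theorem isInv (m : ℤ) : PicF.IsInvertible ((Scheme.Modules.pullback i).obj (Twist.twistProjSpace n k m)) :=
  Fdesc.LocGen.isInvertible_pullback i (isInvertible_twistProjSpace n k m)

/-- The class of `O_Y(m)`. -/
noncomputable def tw (m : ℤ) : Pic Y := mk _ (isInv k n i m)

theorem tw_add (a b : ℤ) : tw k n i (a + b) = tw k n i a * tw k n i b := by
  rw [tw, tw, tw, mk_mul_mk, mk_eq_iff]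
  obtain ⟨f⟩ := pullback_tensorMod i (isInvertible_twistProjSpace n k a) (isInvertible_twistProjSpace n k b)
  obtain ⟨g⟩ := nonempty_mul k n a b
  exact ⟨(Scheme.Modules.pullback i).mapIso g.symm ≪≫ f⟩

theorem tw_zero : tw k n i 0 = 1 := by
  have h := tw_add k n i 0 0
  rw [add_zero] at h
  exact (mul_eq_left.mp h.symm)

theorem tw_neg (a : ℤ) : tw k n i (-a) = (tw k n i a)⁻¹ := by
  rw [eq_inv_iff_mul_eq_one, ← tw_add, neg_add_cancel, tw_zero]

theorem tw_eq_pow (a : ℤ) : tw k n i a = tw k n i 1 ^ a := by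
  induction a using Int.induction_on with
  | zero => rw [tw_zero, zpow_zero]
  | succ m ih => rw [tw_add, ih, zpow_add_one]
  | pred m ih => rw [sub_eq_add_neg, tw_add, ih, zpow_add, tw_neg, zpow_neg_one]

theorem chi_tw [Y.Over (Sp k)] [IsClosedImmersion i] (hi : i ≫ CohB1.ProjSpace.toSpec n k = Y ↘ (Sp k)) (m : ℤ) :
    chi k Y (tw k n i m) = hf k n i.ker m := by
  rw [tw, chi_mk, hf_eq k n i hi m]

theorem isAmple_one [IsClosedImmersion i] :
    CohB1.IsAmple ((Scheme.Modules.pullback i).obj (Twist.twistProjSpace n k 1)) :=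
  Sga5.AmpleFib.isAmple_pullback i (isAmple_twist_one k n)

end K463.PnTw
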