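import Groth.Agent.Surf.K463.NumConn
import Groth.Agent.CurvesC.DegZeroSec512
import Groth.Agent.VarietyB.RestrSeq

/-!
# Sections of `L ⊗ O_D` as sections of the restriction of `L` to `D`

* `toRestr_app`: `L → i_* i^* L` is `ℓ ↦ i^* ℓ` on sections.
* `cr`: the restriction map `i_{D*} i_D^* L → i_{E*} i_E^* L` for `D ≤ E`; `toRestr_cr`.
-/

set_option autoImplicit false
set_option linter.unusedSectionVars false
universe u
open CategoryTheory CategoryTheory.Limits AlgebraicGeometry TopologicalSpace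

namespace K463.Restr

open Groth.Agent Groth.Agent.Fdesc.LocGen Groth.Agent.VarietyB.RestrSeq Groth.Agent.VarietyB.ProjForm
open Groth.Agent.Ega2.Tens (runit runit_hom_tmul)
open Groth.Agent.VarietyB.TensCoh (HasBases)

variable {X : Scheme.{u}}

theorem toSubscheme_app (D : X.IdealSheafData) {U : X.Opens} (a : Γ(X, U)) :
    (ClSub.toSubscheme D).app U (ofFun a) =
      (show Γ(ClSub.quotMod D, U) from (ofFun (D.subschemeι.app U a) : Γ(Coh.structureModule _, D.subschemeι ⁻¹ᵁ U))) :=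
  rfl

theorem toRestr_app {E : X.Modules} (hE : HasBases E) (D : X.IdealSheafData) {U : X.Opens} (ℓ : Γ(E, U)) :
    (toRestr hE D).app U ℓ = (show Γ((Scheme.Modules.pushforward D.subschemeι).obj
      ((Scheme.Modules.pullback D.subschemeι).obj E), U) from pullSec D.subschemeι ℓ) := by
  have h0 : (runit E).hom.app U (tmul ℓ (one U)) = ℓ := by
    have := runit_hom_tmul (1 : Γ(X, U)) ℓ
    rw [one_smul] at this
    exact this
  have hc := restr_comm₂ hE D
  have h1 : (toRestr hE D).app U ((runit E).hom.app U (tmul ℓ (one U))) =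
      (projIsoUnit D.subschemeι hE).hom.app U ((tensMap E (ClSub.toSubscheme D)).app U (tmul ℓ (one U))) :=
    congr($(hc).app U (tmul ℓ (one U)))
  rw [h0] at h1
  rw [h1]
  have h2 : (tensMap E (ClSub.toSubscheme D)).app U (tmul ℓ (one U)) =
      tmul ℓ ((ClSub.toSubscheme D).app U (one U)) :=
    VarietyB.TensLoc.tensorBi_map_app_tmul E (ClSub.toSubscheme D) ℓ (one U)
  rw [h2]
  have h3 := projMor_tmul D.subschemeι E (Coh.structureModule D.subscheme) ℓ
    (one (D.subschemeι ⁻¹ᵁ U) : Γ(Coh.structureModule _, D.subschemeι ⁻¹ᵁ U))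
  have h4 : (runit ((Scheme.Modules.pullback D.subschemeι).obj E)).hom.app (D.subschemeι ⁻¹ᵁ U)
      (tmul (pullSec D.subschemeι ℓ) (one _)) = pullSec D.subschemeι ℓ := by
    have := runit_hom_tmul (1 : Γ(D.subscheme, D.subschemeι ⁻¹ᵁ U)) (pullSec D.subschemeι ℓ)
    rw [one_smul] at this
    exact this
  have h5 : (ClSub.toSubscheme D).app U (one U) =
      (show Γ(ClSub.quotMod D, U) from (one (D.subschemeι ⁻¹ᵁ U) : Γ(Coh.structureModule _, D.subschemeι ⁻¹ᵁ U))) := by
    change (show Γ(ClSub.quotMod D, U) from (ofFun (D.subschemeι.app U 1) : Γ(Coh.structureModule _, _))) = _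
    rw [map_one]
    rfl
  rw [h5]
  exact (congrArg _ h3).trans h4

/-- The restriction map `i_* i^* E → i'_* i'^* E` for closed subschemes `F ⊆ D`. -/
noncomputable def cr {E : X.Modules} (hE : HasBases E) {D F : X.IdealSheafData} (h : D ≤ F) :
    (Scheme.Modules.pushforward D.subschemeι).obj ((Scheme.Modules.pullback D.subschemeι).obj E) ⟶
      (Scheme.Modules.pushforward F.subschemeι).obj ((Scheme.Modules.pullback F.subschemeι).obj E) :=
  (projIsoUnit D.subschemeι hE).inv ≫ K458.Ram.restr E h ≫ (projIsoUnit F.subschemeι hE).hom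

theorem tensMap_restr (E : X.Modules) {D F : X.IdealSheafData} (h : D ≤ F) :
    tensMap E (ClSub.toSubscheme D) ≫ K458.Ram.restr E h = tensMap E (ClSub.toSubscheme F) := by
  have h1 := (DCoh.tensorBi.obj E).map_comp (ClSub.toSubscheme D) (Lef.quotMap h)
  rw [Sga2.LefPow644.toSubscheme_quotMap] at h1
  exact h1.symm

theorem toRestr_cr {E : X.Modules} (hE : HasBases E) {D F : X.IdealSheafData} (h : D ≤ F) :
    toRestr hE D ≫ cr hE h = toRestr hE F := by
  unfold toRestr cr
  simp only [Category.assoc, Iso.hom_inv_id_assoc]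
  rw [← Category.assoc (tensMap E (ClSub.toSubscheme D)), tensMap_restr]

/-- The section of `i_* i^* E` given by an element of `H^0(X, E ⊗ O_D)`. -/
noncomputable def sc {E : X.Modules} (hE : HasBases E) (D : X.IdealSheafData)
    (x : Coh.HH X (CohB1.tensorMod E (ClSub.quotMod D)) 0) :
    Γ((Scheme.Modules.pushforward D.subschemeι).obj ((Scheme.Modules.pullback D.subschemeι).obj E), ⊤) :=
  (projIsoUnit D.subschemeι hE).hom.app ⊤ (CurvesB.HZero.equivAdd _ x)

theorem sc_eq_zero {E : X.Modules} (hE : HasBases E) (D : X.IdealSheafData)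
    (x : Coh.HH X (CohB1.tensorMod E (ClSub.quotMod D)) 0) (h : sc hE D x = 0) : x = 0 := by
  have h1 : (projIsoUnit D.subschemeι hE).inv.app ⊤ (sc hE D x) = CurvesB.HZero.equivAdd _ x := by
    have := congr($((projIsoUnit D.subschemeι hE).hom_inv_id).app ⊤ (CurvesB.HZero.equivAdd _ x))
    exact this
  rw [h, map_zero] at h1
  exact (CurvesB.HZero.equivAdd _).map_eq_zero_iff.mp h1.symm

theorem cr_sc {E : X.Modules} (hE : HasBases E) {D F : X.IdealSheafData} (h : D ≤ F)
    (x : Coh.HH X (CohB1.tensorMod E (ClSub.quotMod D)) 0) :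
    (cr hE h).app ⊤ (sc hE D x) = sc hE F (VarietyA.EulerLES.mapΓ (K458.Ram.restr E h) 0 x) := by
  have h1 : (projIsoUnit D.subschemeι hE).inv.app ⊤ (sc hE D x) = CurvesB.HZero.equivAdd _ x := by
    have := congr($((projIsoUnit D.subschemeι hE).hom_inv_id).app ⊤ (CurvesB.HZero.equivAdd _ x))
    exact this
  have h2 : (cr hE h).app ⊤ (sc hE D x) = (projIsoUnit F.subschemeι hE).hom.app ⊤ ((K458.Ram.restr E h).app ⊤
      ((projIsoUnit D.subschemeι hE).inv.app ⊤ (sc hE D x))) := rfl
  rw [h2, h1]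
  exact congrArg _ (CurvesB.HZero.equivAdd_map (K458.Ram.restr E h) x).symm

/-- If the restriction of a section of `E|_D` to `F ⊆ D` generates, then the section generates near the points of `F`. -/
theorem isGen_near {E : X.Modules} (hE : PicF.IsInvertible E) (hE' : HasBases E) {D F : X.IdealSheafData} (h : D ≤ F)
    (x : Coh.HH X (CohB1.tensorMod E (ClSub.quotMod D)) 0)
    (hg : IsGen (M := (Scheme.Modules.pullback F.subschemeι).obj E) (U := ⊤)
      (sc hE' F (VarietyA.EulerLES.mapΓ (K458.Ram.restr E h) 0 x))) (z : X) (hz : z ∈ F.support) :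
    ∃ V : X.Opens, z ∈ V ∧ IsGen (M := (Scheme.Modules.pullback D.subschemeι).obj E) (U := D.subschemeι ⁻¹ᵁ V)
      (res ((Scheme.Modules.pushforward D.subschemeι).obj ((Scheme.Modules.pullback D.subschemeι).obj E)) (le_top : V ≤ ⊤)
        (sc hE' D x)) := by
  have hepi : Epi (toRestr hE' D) := (restrSeq_shortExact hE' D).epi_g
  obtain ⟨U, hU1, hzU, ℓ, hℓ⟩ := VarietyB.ExactLoc.exists_lift_of_epi (toRestr hE' D) (sc hE' D x) (x := z) trivial
  obtain ⟨W, e, hzW, he⟩ := (isInvertible_iff E).mp hE z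
  -- on `V₀ = U ⊓ W`, `ℓ = a e`
  obtain ⟨a, ha⟩ := (he.res (inf_le_right : U ⊓ W ≤ W)).exists_eq (res E (inf_le_left : U ⊓ W ≤ U) ℓ)
  have hsec : res _ (le_top : U ⊓ W ≤ ⊤) (sc hE' D x) =
      (toRestr hE' D).app (U ⊓ W) (a • res E (inf_le_right : U ⊓ W ≤ W) e) := by
    rw [← ha]
    have h1 := app_res (toRestr hE' D) (inf_le_left : U ⊓ W ≤ U) ℓ
    have hℓ' : (toRestr hE' D).app U ℓ = res _ hU1 (sc hE' D x) := hℓ
    rw [hℓ', res_res] at h1
    exact h1.symm
  have hsecF : res _ (le_top : U ⊓ W ≤ ⊤) (sc hE' F (VarietyA.EulerLES.mapΓ (K458.Ram.restr E h) 0 x)) =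
      (toRestr hE' F).app (U ⊓ W) (a • res E (inf_le_right : U ⊓ W ≤ W) e) := by
    rw [← cr_sc, ← toRestr_cr hE' h]
    have h1 := app_res (cr hE' h) (le_top : U ⊓ W ≤ ⊤) (sc hE' D x)
    rw [hsec] at h1
    exact h1.symm
  obtain ⟨w, rfl⟩ : ∃ w, F.subschemeι w = z := by
    have : z ∈ Set.range F.subschemeι := by rw [F.range_subschemeι]; exact hz
    exact this
  -- `a` is a unit at `z`
  have hgU : IsGen (M := (Scheme.Modules.pullback F.subschemeι).obj E) (U := F.subschemeι ⁻¹ᵁ (U ⊓ W))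
      (pullSec F.subschemeι (a • res E (inf_le_right : U ⊓ W ≤ W) e)) := by
    have h1 := hg.res (V := F.subschemeι ⁻¹ᵁ (U ⊓ W)) le_top
    have h2 : pullSec F.subschemeι (a • res E (inf_le_right : U ⊓ W ≤ W) e) =
        res ((Scheme.Modules.pullback F.subschemeι).obj E) (le_top : F.subschemeι ⁻¹ᵁ (U ⊓ W) ≤ ⊤)
          (sc hE' F (VarietyA.EulerLES.mapΓ (K458.Ram.restr E h) 0 x)) :=
      (toRestr_app hE' F (a • res E (inf_le_right : U ⊓ W ≤ W) e)).symm.trans hsecF.symm
    rw [h2]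
    exact h1
  rw [pullSec_smul] at hgU
  have hu := ((he.res (inf_le_right : U ⊓ W ≤ W)).pullSec F.subschemeι).isUnit_of_smul hgU
  have hzb : F.subschemeι w ∈ X.basicOpen a := by
    have h1 : w ∈ F.subscheme.basicOpen (F.subschemeι.app (U ⊓ W) a) := by
      rw [Scheme.basicOpen_of_isUnit _ hu]
      exact ⟨hzU, hzW⟩
    rw [← Scheme.preimage_basicOpen] at h1
    exact h1
  refine ⟨X.basicOpen a, hzb, ?_⟩
  have hle : X.basicOpen a ≤ U ⊓ W := X.basicOpen_le a
  have h3 : res ((Scheme.Modules.pushforward D.subschemeι).obj ((Scheme.Modules.pullback D.subschemeι).obj E))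
      (le_top : X.basicOpen a ≤ ⊤) (sc hE' D x) =
      (toRestr hE' D).app (X.basicOpen a) (res E hle (a • res E (inf_le_right : U ⊓ W ≤ W) e)) := by
    rw [app_res, ← hsec, res_res]
  rw [h3, toRestr_app]
  refine IsGen.pullSec D.subschemeι ?_
  rw [res_smul]
  refine ((he.res (inf_le_right : U ⊓ W ≤ W)).res hle).unit_smul ?_
  exact RingedSpace.isUnit_res_basicOpen _ a

end K463.Restr
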