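import Groth.Agent.Coherent.K51.CIStep
import Groth.Agent.VarietyB.EulerBinom
import Groth.Agent.Lefpen.H879.Ker
import Groth.Agent.Surf.K464.Curves
import Groth.Agent.Ega3B.ProjFrame
import Groth.Agent.Ega2.TwistInv

/-!
# Hilbert functions of closed subschemes of projective space

* `hf k n K m = χ(O_Z(m))` for `Z = V(K)`; `hf_eq`: computed on any `Z → P^n` with kernel `K`.
* `hf_step`: `hf (I.map i) m = hf i.ker m - hf i.ker (m - b)` if the ideal `I` on `Y` is isomorphic to `i^* O(-b)`.
* `hf_bot`, `hf_hyp`, `hf_ci_two`.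
-/

set_option autoImplicit false
set_option linter.unusedSectionVars false
universe u
open CategoryTheory CategoryTheory.Limits AlgebraicGeometry TopologicalSpace

namespace K463.HilbF

open Groth.Agent Groth.Agent.Grpsch.PicGrp K464.Base K464.Curves Groth.Agent.VarietyB.EulerBinom
open Groth.Agent.Ega3B.ProjFrame (isInvertible_twistProjSpace)
open Groth.Agent.Dix.IdealModCartier (pullback_tensorMod)

local notation "Sp" k:max => Spec (CommRingCat.of k)

variable (k : Type u) [Field k] (n : ℕ)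

theorem nonempty_mul (i j : ℤ) :
    Nonempty (CohB1.tensorMod (Twist.twistProjSpace n k i) (Twist.twistProjSpace n k j) ≅
      Twist.twistProjSpace n k (i + j)) := by
  have h1 := Ega2.TwistInv.isIso_mulHom (Ega3B.ProjFrame.coveredByOne n k) (rfl : i + j = i + j)
  exact ⟨@asIso _ _ _ _ (Ega2.TwistMul.mulHom (CohB1.polyGrading n k) (rfl : i + j = i + j)) h1⟩

theorem nonempty_zero : Nonempty (Twist.twistProjSpace n k 0 ≅ Coh.structureModule (CohB1.ProjSpace n k)) := by
  obtain ⟨e⟩ := Ega2.TwistInv.nonempty_unit_iso (CohB1.polyGrading n k)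
  exact ⟨e.symm⟩

/-- The Hilbert function of a closed subscheme. -/
noncomputable def hf (K : (CohB1.ProjSpace n k).IdealSheafData) (m : ℤ) : ℤ :=
  Curv2.euler k (CohB1.ProjSpace n k) (CohB1.tensorMod (ClSub.quotMod K) (Twist.twistProjSpace n k m))

theorem hf_eq {Y : Scheme.{u}} [Y.Over (Sp k)] (i : Y ⟶ CohB1.ProjSpace n k) [IsClosedImmersion i]
    (hi : i ≫ CohB1.ProjSpace.toSpec n k = Y ↘ (Sp k)) (m : ℤ) :
    Curv2.euler k Y ((Scheme.Modules.pullback i).obj (Twist.twistProjSpace n k m)) = hf k n i.ker m := by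
  letI := overC k (CohB1.ProjSpace n k) i.ker
  obtain ⟨e, he⟩ := Lefpen.H879.Ker.exists_iso_of_ker_eq i i.ker.subschemeι
    (Scheme.IdealSheafData.ker_subschemeι _).symm
  have h1 : e.hom ≫ (i.ker.subscheme ↘ (Sp k)) = Y ↘ (Sp k) := by
    change e.hom ≫ i.ker.subschemeι ≫ CohB1.ProjSpace.toSpec n k = _
    rw [← Category.assoc, he, hi]
  rw [hf, euler_quotMod_tensor_sub k (CohB1.ProjSpace n k) i.ker (isInvertible_twistProjSpace n k m),
    ← CurvesC.DegIso.euler_pullback_iso k e h1]
  refine CurvesC.DegIso.euler_congr k ?_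
  exact (Scheme.Modules.pullbackCongr he.symm).app _ ≪≫ ((Scheme.Modules.pullbackComp e.hom i.ker.subschemeι).app _).symm

theorem hf_step {Y : Scheme.{u}} [Y.Over (Sp k)] [IsProper (Y ↘ (Sp k))] (i : Y ⟶ CohB1.ProjSpace n k)
    [IsClosedImmersion i] (hi : i ≫ CohB1.ProjSpace.toSpec n k = Y ↘ (Sp k)) (I : Y.IdealSheafData) (b : ℤ)
    (e : Nonempty (ClSub.idealMod I ≅ (Scheme.Modules.pullback i).obj (Twist.twistProjSpace n k (-b)))) (m : ℤ) :
    hf k n (I.map i) m = hf k n i.ker m - hf k n i.ker (m - b) := by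
  obtain ⟨e⟩ := e
  letI := overC k Y I
  have hker : I.map i = (I.subschemeι ≫ i).ker := by
    rw [Scheme.Hom.ker_comp, Scheme.IdealSheafData.ker_subschemeι]
  have hL := Fdesc.LocGen.isInvertible_pullback i (isInvertible_twistProjSpace n k m)
  have hi' : (I.subschemeι ≫ i) ≫ CohB1.ProjSpace.toSpec n k = I.subscheme ↘ (Sp k) := by
    rw [Category.assoc, hi]; rfl
  rw [hker, ← hf_eq k n (I.subschemeι ≫ i) hi' m, ← hf_eq k n i hi m, ← hf_eq k n i hi (m - b)]
  have h1 : Curv2.euler k I.subscheme ((Scheme.Modules.pullback (I.subschemeι ≫ i)).obj (Twist.twistProjSpace n k m)) =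
      Curv2.euler k I.subscheme ((Scheme.Modules.pullback I.subschemeι).obj
        ((Scheme.Modules.pullback i).obj (Twist.twistProjSpace n k m))) :=
    CurvesC.DegIso.euler_congr k ((Scheme.Modules.pullbackComp I.subschemeι i).app _).symm
  rw [h1, ← euler_quotMod_tensor_sub k Y I hL, euler_quotMod_tensor k Y I hL]
  congr 1
  obtain ⟨f⟩ := pullback_tensorMod i (isInvertible_twistProjSpace n k (-b)) (isInvertible_twistProjSpace n k m)
  obtain ⟨g⟩ : Nonempty (CohB1.tensorMod (Twist.twistProjSpace n k (-b)) (Twist.twistProjSpace n k m) ≅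
      Twist.twistProjSpace n k (m - b)) := by
    have : m - b = -b + m := by ring
    rw [this]
    exact nonempty_mul k n (-b) m
  exact CurvesC.DegIso.euler_congr k (Ega2.Tens.mapTIso e (Iso.refl _) ≪≫ f.symm ≪≫
    (Scheme.Modules.pullback i).mapIso g)

end K463.HilbF
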