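import Groth.Agent.Surf.K463.PicBound
import Groth.Agent.CalgB.AmpleProj

/-!
# Projective regular surfaces over a field and their birational morphisms

* `PS k s`: `X ⟶ Spec k` is a projective regular integral surface; `PS.isProper`, `PS.isSurf`, `PS.exists_ample`.
* `isBir`: a birational morphism is `Dix.ExcPts.IsBir`.
* `comp_iso`: composition of birational morphisms.
-/

set_option autoImplicit false
universe u
open CategoryTheory CategoryTheory.Limits AlgebraicGeometry Opposite TopologicalSpace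

namespace K463.MinModel

open Groth.Agent Groth.Agent.Dix.ExcPts

local notation "Sp" k:max => Spec (CommRingCat.of k)

/-- A projective regular integral surface over the field `k`. -/
structure PS (k : Type u) [Field k] {X : Scheme.{u}} (s : X ⟶ Sp k) : Prop where
  int : IsIntegral X
  dim : topologicalKrullDim X = 2
  reg : ∀ x : X, IsRegularLocalRing (X.presheaf.stalk x)
  proj : ∃ (n : ℕ) (ι : X ⟶ CohB1.ProjSpace n k), IsClosedImmersion ι ∧ ι ≫ CohB1.ProjSpace.toSpec n k = s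

/-- Birational: an isomorphism over a dense open subset of the target. -/
def Bir {X Y : Scheme.{u}} (f : X ⟶ Y) : Prop := ∃ V : Y.Opens, Dense (V : Set Y) ∧ IsIso (f ∣_ V)

section

variable {k : Type u} [Field k] {X Y Z : Scheme.{u}} {s : X ⟶ Sp k} {t : Y ⟶ Sp k}

theorem PS.isProper (h : PS k s) : IsProper s := by
  obtain ⟨n, ι, hι, rfl⟩ := h.proj
  infer_instance

theorem PS.isSurf (h : PS k s) : IsSurf X := by
  have := h.int
  have := h.isProper
  have h1 : IsLocallyNoetherian X := LocallyOfFiniteType.isLocallyNoetherian s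
  have h2 : CompactSpace X := (quasiCompact_iff_compactSpace s).mp inferInstance
  exact ⟨h.int, {}, h.reg, Cl.coheight_le s h.dim⟩

theorem PS.exists_ample (h : PS k s) : ∃ A : X.Modules, CohB1.IsAmple A := by
  obtain ⟨n, ι, hι, rfl⟩ := h.proj
  obtain ⟨E, hE⟩ := CalgB.AmpleProj.exists_isAmple_projSpace n k
  exact ⟨_, Sga5.AmpleFib.isAmple_pullback ι hE⟩

theorem genericPoint_mem {Y : Scheme.{u}} [IsIntegral Y] {V : Y.Opens} (hV : Dense (V : Set Y)) : genericPoint Y ∈ V :=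
  ((genericPoint_spec Y).mem_open_set_iff V.isOpen).2 (by
    obtain ⟨y, hy⟩ := hV.nonempty
    exact ⟨y, trivial, hy⟩)

theorem isBir (hs : PS k s) (ht : PS k t) {f : X ⟶ Y} (hf : f ≫ t = s) (hb : Bir f)
    [IsIntegral X] [IsIntegral Y] : IsBir f := by
  have := hs.isProper
  have := ht.isProper
  have h1 : IsProper (f ≫ t) := by rw [hf]; infer_instance
  obtain ⟨V, hV, hi⟩ := hb
  have h2 := Dix.BirIso.map_genericPoint f V hi (genericPoint_mem hV)
  refine ⟨IsProper.of_comp f t, h2, Dix.BirIso.isIso_stalkMap f V hi _ ?_⟩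
  rw [h2]
  exact genericPoint_mem hV

theorem isIso_restrict_of_le (f : X ⟶ Y) {U V : Y.Opens} (h : V ≤ U) (hU : IsIso (f ∣_ U)) : IsIso (f ∣_ V) := by
  have h1 : IsPullback (f ∣_ V) (f ⁻¹ᵁ V).ι V.ι f := isPullback_morphismRestrict f V
  have h2 : IsPullback (f ∣_ U) (f ⁻¹ᵁ U).ι U.ι f := isPullback_morphismRestrict f U
  have h3 : IsPullback (X.homOfLE (show f ⁻¹ᵁ V ≤ f ⁻¹ᵁ U from fun x hx => h hx)) (f ∣_ V) (f ∣_ U) (Y.homOfLE h) := by
    refine IsPullback.of_right ?_ ?_ h2.flip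
    · simpa using h1.flip
    · rw [← cancel_mono U.ι]
      simp
  exact MorphismProperty.of_isPullback (P := MorphismProperty.isomorphisms Scheme) h3 hU

theorem Bir.comp [IsIntegral Y] [IsIntegral Z] {f : X ⟶ Y} {g : Y ⟶ Z} (hf : Bir f) (hg : Bir g) : Bir (f ≫ g) := by
  obtain ⟨V, hV, hi⟩ := hf
  obtain ⟨W, hW, hj⟩ := hg
  -- the open subset of `Z`
  let T : Z.Opens := W.ι ''ᵁ ((inv (g ∣_ W)) ⁻¹ᵁ ((g ⁻¹ᵁ W).ι ⁻¹ᵁ V))
  have hTW : T ≤ W := W.ι_image_le _
  have hTV : g ⁻¹ᵁ T ≤ V := by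
    rintro y ⟨w, hw, hwy⟩
    have hgy : g y ∈ W := by
      rw [← hwy]; exact w.2
    let p : (g ⁻¹ᵁ W).toScheme := ⟨y, hgy⟩
    have h1 : (g ∣_ W) p = w := by
      apply Subtype.ext
      rw [morphismRestrict_base_coe]
      exact hwy.symm
    have h2 : (inv (g ∣_ W)) w = p := by
      rw [← h1, ← Scheme.Hom.comp_apply, IsIso.hom_inv_id]
      rfl
    have h3 : (g ⁻¹ᵁ W).ι ((inv (g ∣_ W)) w) ∈ V := hw
    rw [h2] at h3
    exact h3
  have hgen : g (genericPoint Y) = genericPoint Z := Dix.BirIso.map_genericPoint g W hj (genericPoint_mem hW)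
  refine ⟨T, ?_, ?_⟩
  · apply T.isOpen.dense
    have hη : g (genericPoint Y) ∈ W := by rw [hgen]; exact genericPoint_mem hW
    let p : (g ⁻¹ᵁ W).toScheme := ⟨genericPoint Y, hη⟩
    have h2 : (inv (g ∣_ W)) ((g ∣_ W) p) = p := by
      rw [← Scheme.Hom.comp_apply, IsIso.hom_inv_id]
      rfl
    refine ⟨W.ι ((g ∣_ W) p), (g ∣_ W) p, ?_, rfl⟩
    change (g ⁻¹ᵁ W).ι ((inv (g ∣_ W)) ((g ∣_ W) p)) ∈ V
    rw [h2]
    exact genericPoint_mem hV
  · rw [morphismRestrict_comp]
    have h1 := isIso_restrict_of_le g hTW hj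
    have h2 := isIso_restrict_of_le f hTV hi
    exact @IsIso.comp_isIso _ _ _ _ _ _ _ h2 h1

end

end K463.MinModel
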