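import Groth.Agent.Surf.K463.ZDed
import Groth.Agent.Surf.K674.ZDiv

/-!
# No del Pezzo surface of degree one has Picard group generated by the canonical class

In characteristic zero, over an algebraically closed field: the branch curve `w = 0` of the double cover
`X → P(1, 1, 2)` carries a nontrivial two-torsion class `ε`; a section of `2 K ⊗ ε` of degree two gives an even section
`b + l² ζ` of degree four, whose norm is a square; then `y⁴ (b + l² ζ)` divides a product of two forms of degree six and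
divides neither of them, contradicting the fact that the anticanonical ring is factorial.
-/

set_option autoImplicit false
universe u
open CategoryTheory CategoryTheory.Limits AlgebraicGeometry TopologicalSpace Opposite IsLocalRing

namespace Groth.Agent.Surf.K463.ZOne

open Groth.Agent Groth.Agent.Fdesc.LocGen Groth.Agent.Lefpen.H725.CocDef Groth.Agent.Lefpen.H521.CartierCoc
open K801.Cousin K801.CousinH1 K801.LEq Groth.Agent.Grpsch.PicGrp K464.Curves K464.Base Groth.Agent.Divis.CartierBasic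
open K460.SurfKit K460.DelPezzo K460.ZSec K460.ZCurve K460.PicZ K460.PicZ.Gr K460.ZGeo ZRes ZSeq ZPt ZWei ZRep ZEq ZB ZCrv ZDed

attribute [local instance] algK

theorem Wt.X {k : Type*} [Field k] : Wt ((2 : ℕ) : ℤ) (Polynomial.X : Polynomial (Polynomial k)) := by
  have := Wt.const (n := ((2 : ℕ) : ℤ)) (1 : k) 1 (by norm_num)
  simpa using this

/-- A polynomial whose cube is a square is a square. -/
theorem exists_sq {k : Type*} [Field k] {N b : Polynomial k} (hb : b ≠ 0) (h : N ^ 2 = b ^ 3) :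
    ∃ M : Polynomial k, b = M ^ 2 := by
  have h1 : b ∣ N := by
    have : b ^ 2 ∣ N ^ 2 := ⟨b, by rw [h]; ring⟩
    exact (IsIntegrallyClosed.pow_dvd_pow_iff two_ne_zero).1 this
  obtain ⟨M, rfl⟩ := h1
  refine ⟨M, ?_⟩
  have h2 : b ^ 2 ≠ 0 := pow_ne_zero _ hb
  apply mul_left_cancel₀ h2
  rw [← mul_pow, h]
  ring

/-- The identity behind the factorization. -/
theorem key {L : Type*} [Field L] {N a b b₂ b₄ b₆ ζ ω l ν : L} (hν : ν ^ 2 = -1) (hl : a = l ^ 2)
    (hN : N ^ 2 = b ^ 3 - b₂ * b ^ 2 * a + b₄ * b * a ^ 2 - b₆ * a ^ 3)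
    (hw : ω ^ 2 = ζ ^ 3 + b₂ * ζ ^ 2 + b₄ * ζ + b₆) :
    (ν * N + ω * l ^ 3) * (-(ν * N) + ω * l ^ 3) = (b + a * ζ) *
      (a ^ 2 * ζ ^ 2 - a * b * ζ + b ^ 2 + b₂ * a * (a * ζ - b) + b₄ * a ^ 2) := by
  subst hl
  linear_combination N ^ 2 * (-1 : L) * hν + hN + l ^ 6 * hw

theorem natDegree_N {k : Type*} [Field k] {N a b b₂ b₄ b₆ : Polynomial k} (ha : a.natDegree ≤ 2)
    (hb : b.natDegree ≤ 4) (h₂ : b₂.natDegree ≤ 2) (h₄ : b₄.natDegree ≤ 4) (h₆ : b₆.natDegree ≤ 6)
    (hN : N ^ 2 = b ^ 3 - b₂ * b ^ 2 * a + b₄ * b * a ^ 2 - b₆ * a ^ 3) : N.natDegree ≤ 6 := by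
  have h1 : (N ^ 2).natDegree ≤ 12 := by
    rw [hN]
    have e1 : (b ^ 3).natDegree ≤ 12 := (Polynomial.natDegree_pow_le).trans (by omega)
    have e2 : (b ^ 2).natDegree ≤ 8 := (Polynomial.natDegree_pow_le).trans (by omega)
    have e3 : (a ^ 2).natDegree ≤ 4 := (Polynomial.natDegree_pow_le).trans (by omega)
    have e4 : (a ^ 3).natDegree ≤ 6 := (Polynomial.natDegree_pow_le).trans (by omega)
    have e5 : (b₂ * b ^ 2 * a).natDegree ≤ 12 :=
      Polynomial.natDegree_mul_le_of_le (Polynomial.natDegree_mul_le_of_le h₂ e2) ha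
    have e6 : (b₄ * b * a ^ 2).natDegree ≤ 12 :=
      Polynomial.natDegree_mul_le_of_le (Polynomial.natDegree_mul_le_of_le h₄ hb) e3
    have e7 : (b₆ * a ^ 3).natDegree ≤ 12 := Polynomial.natDegree_mul_le_of_le h₆ e4
    exact (Polynomial.natDegree_sub_le_of_le (Polynomial.natDegree_add_le_of_degree_le
      (Polynomial.natDegree_sub_le_of_le e1 e5 |>.trans (by norm_num)) e6) e7).trans (by norm_num)
  rw [Polynomial.natDegree_pow] at h1
  omega

variable {k : Type u} [Field k] [IsAlgClosed k] [CharZero k] {X : Scheme.{u}} [X.Over (Spec (CommRingCat.of k))]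
  [IsIntegral X] [IsProper (X ↘ Spec (CommRingCat.of k))] [Smooth (X ↘ Spec (CommRingCat.of k))]
  {W D : X.Modules} (P : DP k X W D)

theorem false_of_one (hK : Kod k X) (hpic : ∀ c : Pic X, ∃ n : ℤ, c = mk W P.hWi ^ n)
    (hd1 : dot k X (mk W P.hWi) (mk W P.hWi) = 1) : False := by
  obtain ⟨δ, hδ⟩ := exists_hasCoc P.hamp.1
  obtain ⟨x, y, z, w, p, g, b₂, b₄, b₆, h₂, h₄, h₆, hweq⟩ := exists_wei (P := P) (hpic := hpic) (hδ := hδ) hK hd1
  obtain ⟨C, hC, d, hd, he⟩ := exists_curve g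
  haveI := hC.integral
  obtain ⟨l₀, l₁, b, ε, γ, h, hb, hε, hγ, hh, hεγ, hsq, heq⟩ := ZTwo.exists_even g hK hd1 h₂ h₄ h₆ hweq hC hd he
  set l : Polynomial k := Polynomial.C l₀ * Polynomial.X + Polynomial.C l₁ with hl
  obtain ⟨N, hN⟩ := exists_norm g hK h₂ h₄ h₆ hweq hC hd he (a := l ^ 2) (b := b) hε hγ hh hεγ heq
  have hl1 : l.natDegree ≤ 1 := Polynomial.natDegree_linear_le
  have hl2 : (l ^ 2).natDegree ≤ 2 := (Polynomial.natDegree_pow_le).trans (by omega)
  have hl3 : (l ^ 3).natDegree ≤ 3 := (Polynomial.natDegree_pow_le).trans (by omega)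
  have hN6 := natDegree_N hl2 hb h₂ h₄ h₆ hN
  have hy0 := g.hy0
  by_cases hl0 : l = 0
  · -- the section is a polynomial in `t`
    have hy := hyξ g hC hd he
    have rt : RegAt (gp hC) (x / y) := by
      have := regAt_sec hδ hC hy g.hx
      rwa [zpow_one] at this
    have rζ : RegAt (gp hC) (z / y ^ 2) := by
      have := regAt_sec hδ hC hy g.hz
      exact_mod_cast this
    rw [hl0, zero_pow two_ne_zero, Polynomial.C_0, zero_mul, add_zero] at heq
    rw [hl0] at hN
    have hb0 : b ≠ 0 := by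
      rintro rfl
      rw [Polynomial.C_0, map_zero, rs_zero] at heq
      exact div_ne_zero (pow_ne_zero 2 hh) hγ heq.symm
    obtain ⟨M, rfl⟩ := exists_sq hb0 (N := N) (by rw [hN]; ring)
    rw [Polynomial.C_pow, map_pow, rs_pow (regAt_ev rζ rt _)] at heq
    have hM0 : rs C.subschemeι (ev k (z / y ^ 2) (x / y) (Polynomial.C M)) ≠ 0 := by
      intro h0
      rw [h0, zero_pow two_ne_zero] at heq
      exact div_ne_zero (pow_ne_zero 2 hh) hγ heq.symm
    refine hsq (h / rs C.subschemeι (ev k (z / y ^ 2) (x / y) (Polynomial.C M))) ?_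
    rw [div_pow, eq_div_iff (pow_ne_zero 2 hM0), heq]
    field_simp
  · obtain ⟨ν, hν⟩ := IsAlgClosed.exists_pow_nat_eq (-1 : k) (n := 2) two_pos
    have hw0 := w_ne g
    have hν' : (algebraMap k X.functionField ν) ^ 2 = -1 := by rw [← map_pow, hν, map_neg, map_one]
    have hN' : (Polynomial.aeval (x / y) N) ^ 2 = (Polynomial.aeval (x / y) b) ^ 3 -
        Polynomial.aeval (x / y) b₂ * (Polynomial.aeval (x / y) b) ^ 2 * Polynomial.aeval (x / y) (l ^ 2) +
        Polynomial.aeval (x / y) b₄ * Polynomial.aeval (x / y) b * (Polynomial.aeval (x / y) (l ^ 2)) ^ 2 -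
        Polynomial.aeval (x / y) b₆ * (Polynomial.aeval (x / y) (l ^ 2)) ^ 3 := by
      have := congrArg (Polynomial.aeval (x / y)) hN
      simpa only [map_add, map_sub, map_mul, map_pow] using this
    have hkey := key (ζ := z / y ^ 2) (ω := w / y ^ 3) (l := Polynomial.aeval (x / y) l) hν' (map_pow _ l 2) hN' hweq
    -- the two forms of degree six
    have hu : ∀ c : k, y ^ 6 * (ev k (z / y ^ 2) (x / y) (Polynomial.C (Polynomial.C c * N)) +
        w / y ^ 3 * ev k (z / y ^ 2) (x / y) (Polynomial.C (l ^ 3))) ∈ (gr P hpic hδ).V 6 := by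
      intro c
      have e1 : y ^ 6 * ev k (z / y ^ 2) (x / y) (Polynomial.C (Polynomial.C c * N)) ∈ (gr P hpic hδ).V 6 :=
        mem_of_wt g (n := 6) (Wt.C ((Polynomial.natDegree_C_mul_le _ _).trans hN6))
      have e2 : y ^ 3 * ev k (z / y ^ 2) (x / y) (Polynomial.C (l ^ 3)) ∈ (gr P hpic hδ).V 3 :=
        mem_of_wt g (n := 3) (Wt.C hl3)
      have e3 := Submodule.add_mem _ e1 (mul_mem' g.hw e2 (by norm_num : (3 : ℤ) + 3 = 6))
      convert e3 using 1
      field_simp
    have hR : y ^ 8 * ev k (z / y ^ 2) (x / y) (Polynomial.C ((l ^ 2) ^ 2) * Polynomial.X ^ 2 -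
        Polynomial.C (l ^ 2 * b) * Polynomial.X + Polynomial.C (b ^ 2) +
        Polynomial.C (b₂ * l ^ 2) * (Polynomial.C (l ^ 2) * Polynomial.X - Polynomial.C b) +
        Polynomial.C (b₄ * (l ^ 2) ^ 2)) ∈ (gr P hpic hδ).V 8 := by
      refine mem_of_wt g (n := 8) ?_
      have wl2 : Wt ((2 : ℕ) : ℤ) (Polynomial.C (l ^ 2)) := Wt.C hl2
      have wb : Wt ((4 : ℕ) : ℤ) (Polynomial.C b) := Wt.C hb
      have wb2 : Wt ((2 : ℕ) : ℤ) (Polynomial.C b₂) := Wt.C h₂
      have wb4 : Wt ((4 : ℕ) : ℤ) (Polynomial.C b₄) := Wt.C h₄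
      have wX : Wt ((2 : ℕ) : ℤ) (Polynomial.X : Polynomial (Polynomial k)) := Wt.X
      simp only [Polynomial.C_mul, Polynomial.C_pow (a := l ^ 2) (n := 2), Polynomial.C_pow (a := b) (n := 2), sq (Polynomial.C (l ^ 2)),
        sq (Polynomial.C b), sq (Polynomial.X : Polynomial (Polynomial k))]
      refine Wt.add (Wt.add (Wt.add (Wt.sub ?_ ?_) ?_) ?_) ?_
      · exact (Wt.mul (Wt.mul wl2 wl2) (Wt.mul wX wX)).mono (by norm_num)
      · exact (Wt.mul (Wt.mul wl2 wb) wX).mono (by norm_num)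
      · exact (Wt.mul wb wb).mono (by norm_num)
      · exact (Wt.mul (Wt.mul wb2 wl2) (Wt.sub (Wt.mul wl2 wX) (wb.mono (by norm_num)))).mono (by norm_num)
      · exact (Wt.mul wb4 (Wt.mul wl2 wl2)).mono (by norm_num)
    have hMm : y ^ (4 : ℤ) * ev k (z / y ^ 2) (x / y) (Polynomial.C (l ^ 2) * Polynomial.X + Polynomial.C b) ∈
        (gr P hpic hδ).V 4 := by
      have hwt : Wt ((4 : ℕ) : ℤ) (Polynomial.C (l ^ 2) * Polynomial.X + Polynomial.C b) :=
        Wt.add ((Wt.mul (Wt.C hl2) Wt.X).mono (by norm_num)) (Wt.C hb)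
      have := mem_of_wt g hwt
      exact_mod_cast this
    have hl20 : l ^ 2 ≠ 0 := pow_ne_zero 2 hl0
    have hM0 : ev k (z / y ^ 2) (x / y) (Polynomial.C (l ^ 2) * Polynomial.X + Polynomial.C b) ≠ 0 := by
      intro h0
      exact _root_.K674.ZDiv.lin_ne_zero hl20 (inj g _ 0 (by rw [h0, map_zero, mul_zero, add_zero])).1
    refine _root_.K674.ZDiv.false_of_dvd (G := gr P hpic hδ) g.hx g.hy hy0 (z / y ^ 2) (w / y ^ 3) g.h1 ?_ ?_ (inj g)
      (m := 4) le_rfl hMm (l ^ 2) b hl20 rfl (hu ν) (hu (-ν)) (Polynomial.C ν * N) (Polynomial.C (-ν) * N) (l ^ 3) (l ^ 3)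
      (pow_ne_zero 3 hl0) (pow_ne_zero 3 hl0) rfl rfl ?_
    · intro f hf
      obtain ⟨q, hq, hfq⟩ := rep_low g (n := 2) le_rfl hf
      have hc : ∀ c a : ℕ, 2 < a + 2 * c → (q.coeff c).coeff a = 0 := fun c a hca => by
        by_contra hne
        have := hq c a hne
        push_cast at this
        omega
      refine ⟨(q.coeff 1).coeff 0, q.coeff 0, ?_, ?_⟩
      · refine Polynomial.natDegree_le_iff_coeff_eq_zero.2 fun a ha => hc 0 a (by omega)
      · rw [hfq]
        congr 2
        ext1 n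
        rcases n with _ | _ | n
        · simp
        · change q.coeff 1 = (_ : Polynomial (Polynomial k)).coeff 1
          rw [Polynomial.coeff_add, Polynomial.coeff_C_mul, Polynomial.coeff_X_one, mul_one,
            Polynomial.coeff_C_ne_zero one_ne_zero, add_zero]
          ext a
          rcases a with _ | a
          · simp
          · rw [hc 1 (a + 1) (by omega), Polynomial.coeff_C_ne_zero (by omega)]
        · have : q.coeff (n + 1 + 1) = 0 := by
            ext a
            rw [hc _ a (by omega), Polynomial.coeff_zero]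
          rw [this, Polynomial.coeff_add, Polynomial.coeff_C_mul, Polynomial.coeff_X, Polynomial.coeff_C]
          simp
    · intro n f hf
      rcases lt_or_ge n 0 with hn | hn
      · refine ⟨0, 0, ?_⟩
        rw [V_neg P hδ hn hf, map_zero, mul_zero, add_zero, mul_zero]
      · lift n to ℕ using hn
        obtain ⟨p', q', -, -, hf'⟩ := rep g n f hf
        exact ⟨p', q', by rw [zpow_natCast]; exact hf'⟩
    · have e := hR
      rw [show (12 : ℤ) - 4 = 8 by norm_num]
      convert e using 1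
      rw [div_eq_iff (mul_ne_zero (zpow_ne_zero _ hy0) hM0)]
      simp only [map_add, map_sub, map_mul, map_pow, ev_C, ev_X, Polynomial.aeval_C] at hkey ⊢
      have e1 : algebraMap k X.functionField (-ν) = -algebraMap k X.functionField ν := map_neg _ _
      rw [e1]
      have e2 : y ^ (4 : ℤ) = y ^ 4 := by norm_cast
      rw [e2]
      linear_combination y ^ 12 * hkey

end Groth.Agent.Surf.K463.ZOne
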