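import Groth.Agent.Surf.K460.ZThree
import Groth.Agent.Surf.K460.YTwo
import Groth.Agent.Surf.K460.KodZero
import Groth.Agent.Surf.K463.ZOne

/-!
# No del Pezzo surface of degree at most seven has Picard group generated by the canonical class

In characteristic zero, over an algebraically closed field.
-/

set_option autoImplicit false
universe u
open CategoryTheory CategoryTheory.Limits AlgebraicGeometry TopologicalSpace Opposite

namespace Groth.Agent.Surf.K460.PicZ

open Groth.Agent Groth.Agent.Lefpen.H725.CocDef Groth.Agent.Lefpen.H521.CartierCoc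
open Groth.Agent.Grpsch.PicGrp K464.Curves K464.Base SurfKit DelPezzo ZSec ZCurve ZGeo

variable {k : Type u} [Field k] [IsAlgClosed k] [CharZero k] {X : Scheme.{u}} [X.Over (Spec (CommRingCat.of k))]
  [IsIntegral X] [IsProper (X ↘ Spec (CommRingCat.of k))] [Smooth (X ↘ Spec (CommRingCat.of k))]
  {W D : X.Modules}

theorem false_of_pic_eq_zpow (P : DP k X W D) (h : ∀ c : Pic X, ∃ n : ℤ, c = mk W P.hWi ^ n)
    (hd : dot k X (mk W P.hWi) (mk W P.hWi) ≤ 7) : False := by
  have hK := KodZero.kod k X P.hdim
  rcases lt_or_ge (dot k X (mk W P.hWi) (mk W P.hWi)) 3 with h3 | h3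
  · have hpos := P.deg_pos
    obtain h1 | h2 : dot k X (mk W P.hWi) (mk W P.hWi) = 1 ∨ dot k X (mk W P.hWi) (mk W P.hWi) = 2 := by omega
    · exact K463.ZOne.false_of_one P hK h h1
    · obtain ⟨δ, hδ⟩ := exists_hasCoc P.hamp.1
      exact YTwo.false_of_two P h hδ hK h2
  · exact ZThree.false_of_three_le P hK h h3

end Groth.Agent.Surf.K460.PicZ
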