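import Groth.Agent.Surf.K463.Noether
import Groth.Agent.Surf.K463.PnTw
import Groth.Agent.Surf.K463.CI2
import Groth.Agent.S1697
import Groth.Agent.CohqA.ProjDim
import Groth.Agent.Sga5.ProjSmooth

/-!
# The projective plane

* `sps`: `P²` is a smooth proper integral surface.
* `ell`: the class of `O(1)`; `exists_pow`: every class is `ell ^ m`; `dot_ell : ell·ell = 1`; `chi_pow`;
* `w_eq`: the canonical class is `ell ^ (-3)`;
* `nf`: `ρ + K² = 10`.
-/

set_option autoImplicit false
set_option linter.unusedSectionVars false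
universe u
open CategoryTheory CategoryTheory.Limits AlgebraicGeometry Opposite TopologicalSpace

namespace K463.Plane

open Groth.Agent Groth.Agent.Grpsch.PicGrp K464.Base K463.Bir K463.Noether K463.PnTw

local notation "Sp" k:max => Spec (CommRingCat.of k)

variable (k : Type u) [Field k]

theorem dim_projSpace (n : ℕ) : topologicalKrullDim (CohB1.ProjSpace n k) = n := by
  refine le_antisymm (CohqA.ProjDim.topologicalKrullDim_le k n) ?_
  have h1 : topologicalKrullDim (Spec (CommRingCat.of (MvPolynomial (Fin n) k))) = n := by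
    have h2 := PrimeSpectrum.topologicalKrullDim_eq_ringKrullDim (R := MvPolynomial (Fin n) k)
    refine h2.trans ?_
    simp [MvPolynomial.ringKrullDim_of_isNoetherianRing]
  rw [← h1]
  exact (Sga5.ProjSmooth.chart n k 0).isOpenEmbedding.isInducing.topologicalKrullDim_le

theorem sps : SPS k (CohB1.ProjSpace.toSpec 2 k) := by
  have h1 := Groth.Agent.Sga5.ProjSmooth.smooth_toSpec 2 k
  refine ⟨inferInstanceAs (IsIntegral (CohB1.ProjSpace 2 k)), dim_projSpace k 2, VarietyB.EulerBinom.isProper_over k 2,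
    SmoothOfRelativeDimension.smooth 2 _⟩

/-- The class of `O(1)` on the plane. -/
noncomputable def ell : Pic (CohB1.ProjSpace 2 k) := tw k 2 (𝟙 _) 1

theorem tw_eq (m : ℤ) : tw k 2 (𝟙 (CohB1.ProjSpace 2 k)) m = ell k ^ m := tw_eq_pow k 2 _ m

theorem mk_twist (m : ℤ) : mk (Twist.twistProjSpace 2 k m) (Ega3B.ProjFrame.isInvertible_twistProjSpace 2 k m) =
    ell k ^ m := by
  rw [← tw_eq, tw, mk_eq_iff]
  exact ⟨(Scheme.Modules.pullbackId _).symm.app _⟩

theorem exists_pow (a : Pic (CohB1.ProjSpace 2 k)) : ∃ m : ℤ, a = ell k ^ m := by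
  obtain ⟨L, hL, rfl⟩ := exists_mk a
  obtain ⟨d, ⟨e⟩⟩ := S1697.result k 2 L hL
  refine ⟨d, ?_⟩
  rw [← mk_twist, mk_eq_iff]
  exact ⟨e⟩

theorem chi_pow (m : ℤ) : chi k (CohB1.ProjSpace 2 k) (ell k ^ m) = VarietyB.EulerBinom.c 2 m := by
  rw [← mk_twist, chi_mk, ← VarietyB.EulerBinom.euler_twist k 2 m]

theorem chi_one : chi k (CohB1.ProjSpace 2 k) 1 = 1 := by
  rw [← zpow_zero (ell k), chi_pow]
  norm_num [VarietyB.EulerBinom.c, CI2.N_eq]

theorem dot_ell : dot k (CohB1.ProjSpace 2 k) (ell k) (ell k) = 1 := by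
  have h1 : chi k (CohB1.ProjSpace 2 k) (ell k) = 3 := by
    rw [← zpow_one (ell k), chi_pow]
    norm_num [VarietyB.EulerBinom.c, CI2.N_eq]
  have h2 : chi k (CohB1.ProjSpace 2 k) (ell k * ell k) = 6 := by
    have : ell k * ell k = ell k ^ (2 : ℤ) := by rw [zpow_two]
    rw [this, chi_pow]
    norm_num [VarietyB.EulerBinom.c, CI2.N_eq]
    decide
  rw [dot_def, chi_one, h1, h2]
  norm_num

theorem dot_pow (m n : ℤ) : dot k (CohB1.ProjSpace 2 k) (ell k ^ m) (ell k ^ n) = m * n := by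
  have := (sps k).proper
  have : IsProper (CohB1.ProjSpace 2 k ↘ (Sp k)) := VarietyB.EulerBinom.isProper_over k 2
  rw [dot_zpow_left k _ (dim_projSpace k 2).le, dot_zpow_right k _ (dim_projSpace k 2).le, dot_ell]
  ring

/-- The canonical class of the plane. -/
theorem w_eq {W : (CohB1.ProjSpace 2 k).Modules} (hW : ExtPow.IsExtPow 2 (Omega.sheaf (CohB1.ProjSpace.toSpec 2 k)) W)
    (hWi : PicF.IsInvertible W) : mk W hWi = ell k ^ (-3 : ℤ) := by
  have h0 := sps k
  have := h0.int
  have : IsProper (CohB1.ProjSpace 2 k ↘ (Sp k)) := h0.proper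
  have : Smooth (CohB1.ProjSpace 2 k ↘ (Sp k)) := h0.smooth
  obtain ⟨m, hm⟩ := exists_pow k (mk W hWi)
  have h1 := RRd.rr k h0.dim hW hWi (ell k ^ (-1 : ℤ))
  rw [hm, dot_pow, dot_pow, chi_pow, chi_one] at h1
  have h2 : VarietyB.EulerBinom.c 2 (-1) = 0 := by norm_num [VarietyB.EulerBinom.c]
  rw [h2] at h1
  obtain rfl : m = -3 := by linarith
  exact hm

theorem pow_injective : Function.Injective (fun m : ℤ => ell k ^ m) := by
  intro m n h
  have h1 := dot_pow k m 1
  have h2 := dot_pow k n 1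
  change ell k ^ m = ell k ^ n at h
  rw [h, h2] at h1
  linarith

theorem nf : NF k (CohB1.ProjSpace.toSpec 2 k) := by
  have h0 := sps k
  let f : ℤ →+ Additive (Pic (CohB1.ProjSpace 2 k)) := zmultiplesHom _ (Additive.ofMul (ell k))
  have hf : ∀ m : ℤ, f m = Additive.ofMul (ell k ^ m) := fun m => rfl
  have hbij : Function.Bijective f := by
    constructor
    · intro m n h
      exact pow_injective k h
    · intro a
      obtain ⟨m, hm⟩ := exists_pow k a.toMul
      exact ⟨m, (hf m).trans (congrArg Additive.ofMul hm.symm)⟩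
  have E : ℤ ≃ₗ[ℤ] Additive (Pic (CohB1.ProjSpace 2 k)) := (AddEquiv.ofBijective f hbij).toIntLinearEquiv
  refine ⟨Module.Free.of_equiv E, Module.Finite.equiv E, fun W hWi hW => ?_⟩
  rw [← E.finrank_eq, Module.finrank_self, w_eq k hW hWi]
  have h1 := dot_pow k (-3) (-3)
  change (1 : ℕ) + dot k (CohB1.ProjSpace 2 k) (ell k ^ (-3 : ℤ)) (ell k ^ (-3 : ℤ)) = 10
  rw [h1]
  norm_num

end K463.Plane
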