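import Groth.Agent.Surf.K463.SPS
import Groth.Agent.ArSurf.K481.ElimOpen
import Groth.Agent.CohqB.ProjBC

/-!
# The roof of a birational map from a smooth proper surface to a projective scheme

* `exists_roof`: `X` a smooth proper surface over `k`, `U ⊆ X` open nonempty, `j : U ⟶ P^n` a `k`-morphism. There are
  `r : X' ⟶ X` proper birational, `X'` a smooth proper surface, and `g : X' ⟶ P^n` extending `j`.
* `isBir_of_open`: if `j` is an open immersion into a smooth proper surface, `g` is birational.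
-/

set_option autoImplicit false
set_option linter.unusedSectionVars false
universe u
open CategoryTheory CategoryTheory.Limits AlgebraicGeometry Opposite TopologicalSpace

namespace K463.Roof

open Groth.Agent Groth.Agent.Dix.ExcPts Groth.Agent.Dix.PointIdeal K463.Bir
open Groth.Agent.Dix.MinusCurve Groth.Agent.Ega4B.RegChain

local notation "Sp" k:max => Spec (CommRingCat.of k)

variable {k : Type u} [Field k]

theorem isRegSurf {X : Scheme.{u}} {s : X ⟶ Sp k} (h : SPS k s) : IsRegSurf k (Over.mk s) := by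
  have := h.smooth
  exact ⟨h.isSurf.regular, h.int, h.dim, inferInstanceAs (Flat s), h.proper⟩

theorem isProjectiveOver (n : ℕ) : Neron.IsProjectiveOver k (Over.mk (CohB1.ProjSpace.toSpec n k)) :=
  ⟨n, (Groth.Agent.CohqB.ProjBC.projSpaceOverIso n k).inv, inferInstance,
    Groth.Agent.CohqB.ProjBC.projSpaceOverIso_inv_toBase n k⟩

theorem rchain [IsAlgClosed k] {Z X : Over (Sp k)} {r : Z ⟶ X} {n : ℕ} (h : RChain r n) (hX : SPS k X.hom) :
    SPS k Z.hom ∧ ∃ (_ : IsIntegral Z.left) (_ : IsIntegral X.left), IsBir r.left := by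
  induction h with
  | @iso Z X e he =>
    have := isIso_left e
    have h1 : SPS k Z.hom := hX.of_iso (asIso e.left) (Over.w e)
    have := h1.int
    have := hX.int
    exact ⟨h1, ‹_›, ‹_›, isBir_of_isIso e.left⟩
  | @step Z Z' X π r n z hπ hr ih =>
    obtain ⟨h1, _, _, h2⟩ := ih hX
    have h3 : SPS k Z.hom := by
      have := h1.blowUp z hπ.isClosed π.left hπ.isBlowUp
      rwa [Over.w] at this
    have := h3.int
    refine ⟨h3, ‹_›, ‹_›, ?_⟩
    exact isBir_comp (isBir_blowUp h1 z hπ.isClosed π.left hπ.isBlowUp) h2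

/-- **Elimination of indeterminacy.** -/
theorem exists_roof [IsAlgClosed k] {X : Scheme.{u}} {s : X ⟶ Sp k} (hs : SPS k s) (n : ℕ) (U : X.Opens)
    (hU : (U : Set X).Nonempty) (j : (U : Scheme.{u}) ⟶ CohB1.ProjSpace n k)
    (hj : j ≫ CohB1.ProjSpace.toSpec n k = U.ι ≫ s) :
    ∃ (X' : Scheme.{u}) (r : X' ⟶ X) (g : X' ⟶ CohB1.ProjSpace n k) (_ : IsIntegral X') (_ : IsIntegral X),
      SPS k (r ≫ s) ∧ IsBir r ∧ g ≫ CohB1.ProjSpace.toSpec n k = r ≫ s ∧ (r ⁻¹ᵁ U).ι ≫ g = (r ∣_ U) ≫ j := by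
  obtain ⟨W, r, m, g, hr, hg⟩ := K481.ElimOpen.exists_elim_open (X₁ := Over.mk s)
    (X₂ := Over.mk (CohB1.ProjSpace.toSpec n k)) (isRegSurf hs) (isProjectiveOver n) U hU j hj
  obtain ⟨h1, h2, h3, h4⟩ := rchain hr hs
  have h5 : r.left ≫ s = W.hom := Over.w r
  have h6 : g.left ≫ CohB1.ProjSpace.toSpec n k = W.hom := Over.w g
  refine ⟨W.left, r.left, g.left, h2, h3, ?_, h4, ?_, hg⟩
  · rw [h5]; exact h1
  · rw [h5]; exact h6

/-- The extension of an open immersion is birational. -/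
theorem isBir_of_open {X X' Y : Scheme.{u}} [IsIntegral X] [IsIntegral X'] [IsIntegral Y] (r : X' ⟶ X) (hr : IsBir r)
    (U : X.Opens) (hU : (U : Set X).Nonempty) (j : (U : Scheme.{u}) ⟶ Y) [IsOpenImmersion j] (g : X' ⟶ Y) [IsProper g]
    (hg : (r ⁻¹ᵁ U).ι ≫ g = (r ∣_ U) ≫ j) : IsBir g := by
  have hη : genericPoint X ∈ U := by
    obtain ⟨x, hx⟩ := hU
    exact (genericPoint_specializes x).mem_open U.2 hx
  have hη' : genericPoint X' ∈ r ⁻¹ᵁ U := by
    change r (genericPoint X') ∈ U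
    rw [hr.gen]; exact hη
  let p : (r ⁻¹ᵁ U).toScheme := ⟨genericPoint X', hη'⟩
  have : Nonempty U := ⟨⟨_, hη⟩⟩
  have : Nonempty U.toScheme := ⟨⟨_, hη⟩⟩
  have : Nonempty (r ⁻¹ᵁ U).toScheme := ⟨p⟩
  -- stalk maps at `p`
  have h1 : IsIso ((r ∣_ U).stalkMap p) := by
    have := hr.bir
    exact ((MorphismProperty.isomorphisms CommRingCat).arrow_mk_iso_iff (morphismRestrictStalkMap r U p)).mpr this
  have h2 : IsIso (((r ∣_ U) ≫ j).stalkMap p) := by
    rw [Scheme.Hom.stalkMap_comp]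
    have h0 : IsIso (j.stalkMap ((r ∣_ U) p)) := (isOpenImmersion_iff_stalk.mp ‹IsOpenImmersion j›).2 _
    exact IsIso.comp_isIso' h0 h1
  have h3 : IsIso (((r ⁻¹ᵁ U).ι ≫ g).stalkMap p) := by
    rw [hg]; exact h2
  have h4 : IsIso (g.stalkMap (genericPoint X')) := by
    rw [Scheme.Hom.stalkMap_comp] at h3
    have h0 : IsIso ((r ⁻¹ᵁ U).ι.stalkMap p) := inferInstance
    exact @IsIso.of_isIso_comp_right _ _ _ _ _ _ _ h0 h3
  have h5 : (r ∣_ U) p = genericPoint U.toScheme := by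
    apply Subtype.ext
    rw [morphismRestrict_base_coe]
    change r (genericPoint X') = (U.ι (genericPoint U.toScheme))
    rw [hr.gen, genericPoint_eq_of_isOpenImmersion U.ι]
  refine ⟨inferInstance, ?_, h4⟩
  have h6 : ((r ⁻¹ᵁ U).ι ≫ g) p = g (genericPoint X') := by
    rw [Scheme.Hom.comp_apply]; rfl
  rw [← h6, hg, Scheme.Hom.comp_apply, h5, genericPoint_eq_of_isOpenImmersion j]

end K463.Roof
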