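import Groth.Agent.Surf.K463.FSStep
import Groth.Agent.Surf.K455.Down
import Groth.Agent.Surf.K455.Minus
import Groth.Agent.Surf.K455.SeqKey
import Groth.Agent.Surf.K465.NakSurf
import Groth.Agent.Surf.K464.Ample

/-!
# Contraction of exceptional curves on surfaces with ample anticanonical class
-/

set_option autoImplicit false
set_option linter.unusedSectionVars false
universe u
open CategoryTheory CategoryTheory.Limits AlgebraicGeometry Opposite TopologicalSpace

namespace K463.Contr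

open Groth.Agent Groth.Agent.Grpsch.PicGrp K464.Base K464.Curves K463.Bir K463.Noether Groth.Agent.Dix.PointIdeal
  K463.PtsBlow

local notation "Sp" k:max => Spec (CommRingCat.of k)

variable {k : Type u} [Field k]

theorem good {X : Scheme.{u}} {s : X ⟶ Sp k} (h : SPS k s) : K455.Srf.Good s := ⟨h.proper, h.smooth, h.int, h.dim⟩

theorem sps {X : Scheme.{u}} {s : X ⟶ Sp k} (h : K455.Srf.Good s) : SPS k s := ⟨h.integral, h.dim, h.proper, h.smooth⟩

theorem can_unique {X : Scheme.{u}} {s : X ⟶ Sp k} (h : SPS k s) {w w' : Pic X} (hw : Can k s w) (hw' : Can k s w') :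
    w = w' := by
  letI : X.Over (Sp k) := ⟨s⟩
  have := h.int
  have : IsProper (X ↘ (Sp k)) := h.proper
  have : Smooth (X ↘ (Sp k)) := h.smooth
  obtain ⟨W, hWi, hW, rfl⟩ := hw
  obtain ⟨W', hWi', hW', rfl⟩ := hw'
  exact mk_unique k h.dim hW hW' hWi hWi'

theorem exists_can {X : Scheme.{u}} {s : X ⟶ Sp k} (h : SPS k s) : ∃ w : Pic X, Can k s w := by
  letI : X.Over (Sp k) := ⟨s⟩
  have := h.int
  have : IsProper (X ↘ (Sp k)) := h.proper
  have : Smooth (X ↘ (Sp k)) := h.smooth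
  obtain ⟨V, hV⟩ := RRd.exists_W k (X := X)
  exact ⟨_, V, RRd.isInvertible_W k h.dim hV, hV, rfl⟩

variable [IsAlgClosed k]

theorem can_blow {X Y : Scheme.{u}} {t : Y ⟶ Sp k} (h : SPS k t) (y : Y) (hy : IsClosed ({y} : Set Y)) (b : X ⟶ Y)
    (hb : BlowUp.IsBlowUp b (pt y hy)) {w : Pic X} (hw : Can k (b ≫ t) w) {v : Pic Y} (hv : Can k t v) :
    w * ic ((pt y hy).comap b) hb.1 = pull b v := by
  obtain ⟨W, hWi, hW, rfl⟩ := hw
  obtain ⟨V, hVi, hV, rfl⟩ := hv
  exact blow_canon h y hy b hb hV hVi hW hWi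

theorem surjective_of_isBir {X Y : Scheme.{u}} [IsIntegral X] [IsIntegral Y] (b : X ⟶ Y) (hb : Dix.ExcPts.IsBir b) :
    Function.Surjective b := by
  have := hb.proper
  have h1 : IsClosed (Set.range b) := b.isClosedMap.isClosed_range
  have h2 : genericPoint Y ∈ Set.range b := ⟨_, hb.gen⟩
  have h3 : Set.range b = Set.univ := by
    rw [Set.eq_univ_iff_forall]
    intro z
    exact (genericPoint_specializes z).mem_closed h1 h2
  exact Set.range_eq_univ.mp h3

/-- **Castelnuovo.** Curves with `C² < 0`, `K·C < 0` are exceptional curves of blow-ups of points. -/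
theorem exists_blowDown {X : Scheme.{u}} {s : X ⟶ Sp k} (h : SPS k s) {w : Pic X} (hw : Can k s w)
    {C : X.IdealSheafData} (hC : IsCurve C) (hE : BlowUp.IsEffCartierIdeal C)
    (h1 : letI : X.Over (Sp k) := ⟨s⟩; dot k X (ic C hE) (ic C hE) < 0)
    (h2 : letI : X.Over (Sp k) := ⟨s⟩; 0 < dot k X (ic C hE) w) :
    ∃ (Y : Scheme.{u}) (t : Y ⟶ Sp k) (b : X ⟶ Y) (y : Y) (hy : IsClosed ({y} : Set Y)),
      SPS k t ∧ b ≫ t = s ∧ BlowUp.IsBlowUp b (pt y hy) ∧ (pt y hy).comap b = C := by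
  letI : X.Over (Sp k) := ⟨s⟩
  have hgood : K455.Srf.Good (X ↘ (Sp k)) := good h
  have := h.int
  have : IsProper (X ↘ (Sp k)) := h.proper
  have : Smooth (X ↘ (Sp k)) := h.smooth
  obtain ⟨W, hWi, hW, rfl⟩ := hw
  obtain ⟨h3, h4, h5⟩ := K455.Srf.eq_neg_one k hgood hW hWi hC hE h1 (by
    rw [degOn_eq_neg_dot k X hE]
    have : 0 < dot k X (ic C hE) (mk W hWi) := h2
    omega)
  have hexc := K455.Srf.isExcCurve k hgood hC hE h3 h5
  obtain ⟨Y, b, t, hb, hbt, hg⟩ := (good h).exists_contraction C.subschemeι hexc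
  obtain ⟨hN, hp, y, hy, hrange, hreg, hdim, hblow⟩ := hb
  refine ⟨Y, t, b, y, hy, sps hg, hbt, hblow, ?_⟩
  symm
  refine eq_of_gp_mem hC (K455.Srf.isCurve_exc b y hy hblow hdim) ?_
  rw [Scheme.IdealSheafData.support_comap]
  change b (gp hC) ∈ (pt y hy).support
  rw [mem_support_pt]
  have := hC.integral
  have h6 : b (gp hC) ∈ Set.range (C.subschemeι ≫ b) := by
    refine ⟨genericPoint C.subscheme, ?_⟩
    rw [Scheme.Hom.comp_apply]
    rfl
  rw [hrange] at h6
  exact h6

/-- The anticanonical class of the contraction is ample. -/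
theorem amp_of_blow {X Y : Scheme.{u}} {t : Y ⟶ Sp k} (h : SPS k t) (y : Y) (hy : IsClosed ({y} : Set Y)) (b : X ⟶ Y)
    (hb : BlowUp.IsBlowUp b (pt y hy)) {w : Pic X} (hw : Can k (b ≫ t) w) (hamp : Amp w⁻¹)
    {v : Pic Y} (hv : Can k t v) : Amp v⁻¹ := by
  letI : X.Over (Sp k) := ⟨b ≫ t⟩
  letI : Y.Over (Sp k) := ⟨t⟩
  have hX := h.blowUp y hy b hb
  have := hX.int
  have : IsProper (X ↘ (Sp k)) := hX.proper
  have : Smooth (X ↘ (Sp k)) := hX.smooth
  have := h.int
  have : IsProper (Y ↘ (Sp k)) := h.proper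
  have : Smooth (Y ↘ (Sp k)) := h.smooth
  have hd : topologicalKrullDim X ≤ (2 : ℕ) := hX.dim.le
  have hdY : topologicalKrullDim Y ≤ (2 : ℕ) := h.dim.le
  obtain ⟨h1, h2, h3, h4, h5⟩ := blow_data h y hy b hb
  have hbir := isBir_blowUp h y hy b hb
  have hcan := can_blow h y hy b hb hw hv
  set e := ic ((pt y hy).comap b) hb.1 with he
  obtain ⟨L, hL, hwL⟩ := hamp
  have hw' : w = pull b v * e⁻¹ := by rw [← hcan, mul_inv_cancel_right]
  have hwe : dot k X w e = 1 := by
    rw [hw', dot_mul_left k X hd, h2, dot_inv_left k X hd, h3]; ring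
  have hww : dot k X w w = dot k Y v v - 1 := by
    conv_lhs => rw [hw']
    rw [dot_mul_left k X hd, dot_mul_right k X hd, dot_mul_right k X hd, h1, dot_inv_right k X hd, h2,
      dot_inv_left k X hd, dot_comm k X e, h2, dot_inv_inv k X hd, h3]
    ring
  have hwpos : 0 < dot k X w w := by
    have h6 := K464.Ample.dot_pos_of_ample k hX.dim hL.1 hL.1 hL hL
    rw [← hwL, dot_inv_inv k X hd] at h6
    exact h6
  obtain ⟨M, hM, hMv⟩ := exists_mk v⁻¹
  suffices hMa : CohB1.IsAmple M by exact ⟨M, hMa, hMv⟩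
  refine K465.NakSurf.nak k h.dim M hM ?_ ?_
  · rw [← hMv, dot_inv_inv k Y hdY]
    omega
  · intro D hD
    have hDe := isEff_of_smooth k h.dim hD
    rw [← hMv, degOn_eq_neg_dot k Y hDe, dot_inv_right k Y hdY, neg_neg]
    have hDb : BlowUp.IsEffCartierIdeal (D.comap b) := by
      refine K464.DegCurve.isEff_comap b hDe ?_
      rw [hbir.gen]
      exact K464.PtCurve.genericPoint_notMem hDe
    have hne : D.comap b ≠ ⊤ := by
      intro htop
      obtain ⟨x, hx⟩ := surjective_of_isBir b hbir (gp hD)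
      have h6 : x ∈ (D.comap b).support := by
        rw [Scheme.IdealSheafData.support_comap]
        change b x ∈ D.support
        rw [hx]
        exact gp_mem hD
      rw [htop, Scheme.IdealSheafData.support_top] at h6
      exact h6
    have h7 := RRd.dot_ic_neg_of_ample_eff k hX.dim hDb hne hL.1 hL
    rw [← hwL, dot_inv_right k X hd, ← K464.DegCurve.pull_ic b hDe hDb] at h7
    have h8 : dot k Y (ic D hDe) v = dot k X (pull b (ic D hDe)) w := by
      rw [← h1, ← hcan, dot_mul_right k X hd, h2, add_zero]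
    rw [h8]
    omega

end K463.Contr
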