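import Groth.Agent.Surf.K463.Net
import Groth.Agent.Surf.K463.Contr
import Groth.Agent.Divis.BlowUpFormal

/-!
# Rational surfaces with ample anticanonical class

`main`: a smooth proper surface with the numerical invariants of a rational surface and ample anticanonical class is a
quadric (numerically) or a blow-up of the plane in finitely many points.
-/

set_option autoImplicit false
set_option linter.unusedSectionVars false
universe u
open CategoryTheory CategoryTheory.Limits AlgebraicGeometry TopologicalSpace IsLocalRing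

namespace K463.DPMain

open Groth.Agent Groth.Agent.Grpsch.PicGrp K464.Base K464.Curves K463.HC K463.PtsBlow K463.NumConn K463.Min
  K463.Pencil K463.Net K463.RS K463.Bir K463.Noether K463.Contr K463.Plane Groth.Agent.Dix.PointIdeal

local notation "Sp" k:max => Spec (CommRingCat.of k)

variable {k : Type u} [Field k] [IsAlgClosed k]

section surf

variable {X : Scheme.{u}} [X.Over (Sp k)] [IsProper (X ↘ (Sp k))] [Smooth (X ↘ (Sp k))] [IsIntegral X]
  {w : Pic X} (P : DPX k w)

include P

/-- Twisting by a large power of the anticanonical class makes a class effective. -/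
theorem exists_eff (c : Pic X) : ∃ N : ℕ, 0 < hc k X 0 (c * w⁻¹ ^ N) := by
  have hd := P.dim.le
  have hww := ww_pos P
  set A := (dot k X c w).natAbs with hA
  set B := (dot k X c c).natAbs with hB
  have hA' : dot k X c w ≤ A := by omega
  have hB' : -(B : ℤ) ≤ dot k X c c := by omega
  refine ⟨2 * A + B + 1, ?_⟩
  set N : ℕ := 2 * A + B + 1 with hN
  set e := c * w⁻¹ ^ N with he
  have h1 : dot k X e w = dot k X c w - N * dot k X w w := by
    rw [he, dot_mul_left k X hd, dot_pow_left k X hd, dot_inv_left k X hd]; ring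
  have h2 : dot k X e e = dot k X c c - 2 * N * dot k X c w + N * N * dot k X w w := by
    rw [he, dot_mul_left k X hd, dot_mul_right k X hd, dot_mul_right k X hd, dot_pow_left k X hd,
      dot_pow_left k X hd, dot_pow_right k X hd, dot_pow_right k X hd, dot_inv_inv k X hd, dot_inv_left k X hd,
      dot_inv_right k X hd, dot_comm k X w c]
    ring
  have hN1 : (N : ℤ) = 2 * A + B + 1 := by rw [hN]; push_cast; ring
  have hNpos : (0 : ℤ) ≤ N := by positivity
  have hAn : (0 : ℤ) ≤ A := by positivity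
  have hBn : (0 : ℤ) ≤ B := by positivity
  have h3 := rr P e
  rw [h1, h2] at h3
  have h4 : dot k X e w < dot k X w w := by
    rw [h1]
    nlinarith
  have h5 := Min.chi_le P h4
  have h6 : (0 : ℤ) < hc k X 0 e := by
    have h7 : (N : ℤ) * N ≤ N * N * dot k X w w := le_mul_of_one_le_right (by positivity) hww
    have h8 : (N : ℤ) ≤ N * dot k X w w := le_mul_of_one_le_right (by positivity) hww
    have h9 : (N : ℤ) * dot k X c w ≤ N * A := mul_le_mul_of_nonneg_left hA' hNpos
    nlinarith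
  exact_mod_cast h6

/-- There is an effective class which is not a power of the anticanonical class. -/
theorem exists_class (hRS : RS k (X ↘ (Sp k))) : ∃ a : Pic X, 0 < hc k X 0 a ∧ ∀ n : ℕ, a * w ^ n ≠ 1 := by
  have hd := P.dim.le
  have hww := ww_pos P
  by_contra hcon
  push Not at hcon
  have hgen : ∀ c : Pic X, ∃ n : ℤ, c = w ^ n := by
    intro c
    obtain ⟨N, hN⟩ := exists_eff P c
    obtain ⟨m, hm⟩ := hcon _ hN
    refine ⟨N - m, ?_⟩
    rw [mul_assoc] at hm
    rw [eq_inv_of_mul_eq_one_left hm, mul_inv, inv_pow, inv_inv, zpow_sub, zpow_natCast, zpow_natCast]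
  obtain ⟨hNF, hUM, -⟩ := hRS
  have hdot : ∀ i j : ℤ, dot k X (w ^ i) (w ^ j) = i * j * dot k X w w := fun i j => by
    rw [dot_zpow_left k X hd, dot_zpow_right k X hd]; ring
  -- `K² = 1`
  have h1 : dot k X w w = 1 := by
    let φ : Additive (Pic X) →+ ℤ := AddMonoidHom.mk' (fun b => dot k X b.toMul w / dot k X w w) (fun b c => by
      have h1 : dot k X (b + c).toMul w = dot k X b.toMul w + dot k X c.toMul w := by
        rw [toMul_add, dot_mul_left k X hd]
      rw [h1]
      refine Int.add_ediv_of_dvd_left ?_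
      obtain ⟨n, hn⟩ := hgen b.toMul
      rw [hn, dot_zpow_left k X hd]
      exact dvd_mul_left _ _)
    obtain ⟨g, hg⟩ := hUM φ
    have hg' : ∀ b : Pic X, dot k X b w / dot k X w w = dot k X g b := hg
    obtain ⟨j, rfl⟩ := hgen g
    have h2 := hg' w
    rw [Int.ediv_self hww.ne', dot_zpow_left k X hd] at h2
    have h3 : dot k X w w ∣ 1 := ⟨j, by rw [h2]; ring⟩
    exact Int.eq_one_of_dvd_one hww.le h3
  -- `K² = 9`
  have h2 : dot k X w w = 9 := by
    let φ : ℤ →+ Additive (Pic X) := zmultiplesHom _ (Additive.ofMul w)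
    have hφ : Function.Bijective φ := by
      constructor
      · rw [injective_iff_map_eq_zero]
        intro n hn
        have h3 : w ^ n = 1 := hn
        have h4 := hdot n 1
        rw [h3, dot_one_left, h1] at h4
        linarith
      · intro c
        obtain ⟨n, hn⟩ := hgen c.toMul
        exact ⟨n, by change Additive.ofMul (w ^ n) = c; rw [← hn]; rfl⟩
    have e : ℤ ≃ₗ[ℤ] Additive (Pic X) := (AddEquiv.ofBijective φ hφ).toIntLinearEquiv
    have hrank : Module.finrank ℤ (Additive (Pic X)) = 1 := by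
      rw [← e.finrank_eq, Module.finrank_self]
    obtain ⟨W, hWi, hW, rfl⟩ := P.can
    have h1 := hNF.2.2 W hWi hW
    rw [hrank] at h1
    have h2 : (1 : ℤ) + dot k X (mk W hWi) (mk W hWi) = 10 := by exact_mod_cast h1
    linarith
  rw [h1] at h2
  exact absurd h2 (by norm_num)

end surf

/-- The numerical quadric. -/
def Quad (k : Type u) [Field k] {X : Scheme.{u}} (s : X ⟶ Sp k) : Prop :=
  letI : X.Over (Sp k) := ⟨s⟩
  NoNeg k (X := X) ∧ ∃ w a b : Pic X, Can k s w ∧ IsPencil k w a ∧ IsPencil k w b ∧ dot k X a b = 1 ∧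
    dot k X w w = 8 ∧ w = (a * b) ^ (-2 : ℤ)

/-- The plane as a trivial blow-up. -/
theorem ptsBlow_of_iso {X : Scheme.{u}} {s : X ⟶ Sp k} (hs : SPS k s) (e : X ≅ CohB1.ProjSpace 2 k)
    (he : e.hom ≫ CohB1.ProjSpace.toSpec 2 k = s) {w : Pic X} (hw : Can k s w)
    (h : letI : X.Over (Sp k) := ⟨s⟩; dot k X w (pull e.hom (ell k)) = -3) (P : Fin 0 → ↥(CohB1.ProjSpace 2 k)) :
    PtsBlow k s 0 P e.hom := by
  letI : X.Over (Sp k) := ⟨s⟩
  have := hs.int
  have : IsProper (X ↘ (Sp k)) := hs.proper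
  have : Smooth (X ↘ (Sp k)) := hs.smooth
  have hd := hs.dim.le
  have hP := Plane.sps k
  have := hP.int
  have hdot := dot_iso e he hP
  have hell : dot k X (pull e.hom (ell k)) (pull e.hom (ell k)) = 1 := by rw [hdot]; exact dot_ell k
  have hww : dot k X w w = 9 := by
    obtain ⟨m, hm⟩ := exists_pow k (pull e.inv w)
    have h1 : w = pull e.hom (ell k) ^ m := by
      rw [← map_zpow, ← hm, ← pull_comp, e.hom_inv_id, pull_id]
    rw [h1, dot_zpow_left k X hd, hell] at h
    rw [h1, dot_zpow_left k X hd, dot_zpow_right k X hd, hell]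
    have : m = -3 := by linarith
    subst this
    norm_num
  have hr : Set.range P = ∅ := Set.range_eq_empty P
  refine ⟨he, fun i => i.elim0, fun i => i.elim0, ?_, ⟨inferInstance, ?_⟩, ?_, ?_, hell, fun i => i.elim0, fun w' _ i => i.elim0,
    fun i => i.elim0⟩
  · refine ⟨by rw [hr]; exact isClosed_empty, ?_⟩
    have h1 : Scheme.IdealSheafData.vanishingIdeal (X := CohB1.ProjSpace 2 k)
        ⟨Set.range P, by rw [hr]; exact isClosed_empty⟩ = 1 := by
      have h2 : (⟨Set.range P, by rw [hr]; exact isClosed_empty⟩ : TopologicalSpace.Closeds ↥(CohB1.ProjSpace 2 k)) = ⊥ :=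
        TopologicalSpace.Closeds.ext hr
      rw [h2, Scheme.IdealSheafData.vanishingIdeal_bot, Scheme.IdealSheafData.one_eq_top]
    rw [h1]
    exact Divis.BlowUpFormal.isBlowUp_of_iso (Divis.BlowUpFormal.isBlowUp_id isEff_one) e (Category.comp_id _)
  · exact (isBir_of_isIso e.hom).gen
  · intro w' hw'
    rw [can_unique hs hw' hw, hww]
    norm_num
  · intro w' hw'
    rw [can_unique hs hw' hw]
    exact h

theorem minimal_case {X : Scheme.{u}} {s : X ⟶ Sp k} (hs : SPS k s) {w : Pic X} (hw : Can k s w) (hamp : Amp w⁻¹)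
    (hRS : RS k s) (hN : letI : X.Over (Sp k) := ⟨s⟩; NoNeg k (X := X)) :
    Quad k s ∨ ∃ (r : ℕ) (P : Fin r → ↥(CohB1.ProjSpace 2 k)) (σ : X ⟶ CohB1.ProjSpace 2 k), PtsBlow k s r P σ := by
  letI : X.Over (Sp k) := ⟨s⟩
  have := hs.int
  have : IsProper (X ↘ (Sp k)) := hs.proper
  have : Smooth (X ↘ (Sp k)) := hs.smooth
  have P : DPX k w := ⟨hs.dim, hw, hamp, hRS.2.2⟩
  obtain ⟨a, ha, hna⟩ := exists_class P hRS
  obtain ⟨C, hC, hE, h0, hle, hmin⟩ := exists_minimal P ha hna
  have h2 := two_le P hN hC hE h0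
  have h3 := curve_data P hC hE h0
  have hd := P.dim.le
  rcases eq_or_lt_of_le hle with h | h
  · right
    have hnet := isNet P hC hE h0 h hmin
    obtain ⟨e, he, hell⟩ := Net.exists_iso P hnet
    refine ⟨0, fun i => i.elim0, e.hom, ptsBlow_of_iso hs e he hw ?_ _⟩
    rw [hell, dot_comm]
    exact hnet.deg
  · left
    have h4 : dot k X (ic C hE) w = 2 := by omega
    have hp : IsPencil k w (ic C hE)⁻¹ := ⟨by rw [dot_inv_inv k X hd]; omega, by rw [dot_inv_left k X hd]; omega, h0⟩
    obtain ⟨b, hb, hab, hww, hwab⟩ := exists_pair P hN hRS hp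
    exact ⟨hN, w, _, b, hw, hp, hb, hab, hww, hwab⟩

/-- The intersection form of the quadric is even. -/
theorem no_odd {X Y : Scheme.{u}} {t : Y ⟶ Sp k} (h : SPS k t) (y : Y) (hy : IsClosed ({y} : Set Y)) (b : X ⟶ Y)
    (hb : BlowUp.IsBlowUp b (pt y hy)) (hq : Quad k t) {s : X ⟶ Sp k} (hs : b ≫ t = s) : letI : X.Over (Sp k) := ⟨s⟩
    ∀ G : Pic X, dot k X G (ic ((pt y hy).comap b) hb.1) = 0 → dot k X G G ≠ -1 := by
  subst hs
  letI : X.Over (Sp k) := ⟨b ≫ t⟩
  letI : Y.Over (Sp k) := ⟨t⟩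
  have hX := h.blowUp y hy b hb
  have := hX.int
  have : IsProper (X ↘ (Sp k)) := hX.proper
  have : Smooth (X ↘ (Sp k)) := hX.smooth
  have := h.int
  have : IsProper (Y ↘ (Sp k)) := h.proper
  have : Smooth (Y ↘ (Sp k)) := h.smooth
  intro G hG hGG
  have hd := hX.dim.le
  have hdY := h.dim.le
  obtain ⟨-, v, a, a', ⟨W, hWi, hW, rfl⟩, ha, ha', haa', hvv, hva⟩ := hq
  obtain ⟨h1, h2, h3, h4, h5⟩ := blow_data h y hy b hb
  obtain ⟨c, n, rfl⟩ := h4 G
  rw [dot_mul_left k X hd, h2, dot_zpow_left k X hd, h3] at hG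
  obtain rfl : n = 0 := by linarith
  rw [zpow_zero, mul_one, h1] at hGG
  have h6 := RRd.rr k h.dim hW hWi c
  rw [hGG, hva, dot_zpow_right k Y hdY] at h6
  omega

/-- **Rational surfaces with ample anticanonical class.** -/
theorem main (n : ℕ) : ∀ {X : Scheme.{u}} {s : X ⟶ Sp k} (_ : SPS k s) {w : Pic X} (_ : Can k s w) (_ : Amp w⁻¹)
    (_ : RS k s) (_ : letI : X.Over (Sp k) := ⟨s⟩; dot k X w w = 10 - n),
    Quad k s ∨ ∃ (r : ℕ) (P : Fin r → ↥(CohB1.ProjSpace 2 k)) (σ : X ⟶ CohB1.ProjSpace 2 k), PtsBlow k s r P σ := by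
  induction n with
  | zero =>
    intro X s hs w hw hamp hRS hn
    exfalso
    letI : X.Over (Sp k) := ⟨s⟩
    have := hs.int
    have : IsProper (X ↘ (Sp k)) := hs.proper
    have : Smooth (X ↘ (Sp k)) := hs.smooth
    have P : DPX k w := ⟨hs.dim, hw, hamp, hRS.2.2⟩
    obtain ⟨hfree, hfin, hNF⟩ := hRS.1
    have h1 : (Module.finrank ℤ (Additive (Pic X)) : ℤ) + dot k X w w = 10 := by
      obtain ⟨W, hWi, hW, rfl⟩ := hw
      exact hNF W hWi hW
    have h2 : Module.finrank ℤ (Additive (Pic X)) = 0 := by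
      have h3 : dot k X w w = 10 - (0 : ℕ) := hn
      rw [h3] at h1
      push_cast at h1
      omega
    have h3 := Module.finrank_zero_iff (R := ℤ) (M := Additive (Pic X)) |>.mp h2
    have h4 : (Additive.ofMul w : Additive (Pic X)) = 0 := Subsingleton.elim _ _
    have h5 : w = 1 := h4
    have h6 := ww_pos P
    rw [h5, dot_one_left] at h6
    exact lt_irrefl _ h6
  | succ n ih =>
    intro X s hs w hw hamp hRS hn
    letI iX : X.Over (Sp k) := ⟨s⟩
    have := hs.int
    have : IsProper (X ↘ (Sp k)) := hs.proper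
    have : Smooth (X ↘ (Sp k)) := hs.smooth
    have P : DPX k w := ⟨hs.dim, hw, hamp, hRS.2.2⟩
    by_cases hN : NoNeg k (X := X)
    · exact minimal_case hs hw hamp hRS hN
    -- one contraction
    have key : ∀ (C : X.IdealSheafData) (hC : IsCurve C) (hE : BlowUp.IsEffCartierIdeal C),
        dot k X (ic C hE) (ic C hE) < 0 →
        (∃ (r : ℕ) (P : Fin r → ↥(CohB1.ProjSpace 2 k)) (σ : X ⟶ CohB1.ProjSpace 2 k), PtsBlow k s r P σ) ∨
        ∃ (Y : Scheme.{u}) (t : Y ⟶ Sp k) (b : X ⟶ Y) (y : Y) (hy : IsClosed ({y} : Set Y)),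
          SPS k t ∧ b ≫ t = s ∧ BlowUp.IsBlowUp b (pt y hy) ∧ (pt y hy).comap b = C ∧ Quad k t := by
      intro C hC hE hneg
      obtain ⟨Y, t, b, y, hy, hSt, hbt, hblow, hcomap⟩ := exists_blowDown hs hw hC hE hneg
        (eff_pos P hE (ne_top_of_isCurve hC))
      subst hbt
      obtain ⟨v, hv⟩ := exists_can hSt
      have hampv := amp_of_blow hSt y hy b hblow hw hamp hv
      have hRSt := (RS_blow hSt y hy b hblow).mp hRS
      have hvv : letI : Y.Over (Sp k) := ⟨t⟩; dot k Y v v = 10 - n := by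
        letI : Y.Over (Sp k) := ⟨t⟩
        obtain ⟨h1, h2, h3, h4, h5⟩ := blow_data hSt y hy b hblow
        have hcan := can_blow hSt y hy b hblow hw hv
        have hd := P.dim.le
        have hw' : w = pull b v * (ic ((pt y hy).comap b) hblow.1)⁻¹ := by rw [← hcan, mul_inv_cancel_right]
        have hn' : dot k X w w = 10 - ((n + 1 : ℕ) : ℤ) := hn
        rw [hw', dot_mul_left k X hd, dot_mul_right k X hd, dot_mul_right k X hd, h1, dot_inv_right k X hd, h2,
          dot_inv_left k X hd, dot_comm k X _ (pull b v), h2, dot_inv_inv k X hd, h3] at hn'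
        push_cast at hn'
        linarith
      rcases ih hSt hv hampv hRSt hvv with h | ⟨r, P', σ, h⟩
      · exact Or.inr ⟨Y, t, b, y, hy, hSt, rfl, hblow, hcomap, h⟩
      · obtain ⟨P'', h'⟩ := FSStep.step hSt y hy b hblow hw hamp h
        exact Or.inl ⟨r + 1, P'', b ≫ σ, h'⟩
    unfold NoNeg at hN
    push Not at hN
    obtain ⟨C, hC, hE, hneg⟩ := hN
    rcases key C hC hE hneg with h | ⟨Y, t, b, y, hy, hSt, hbt, hblow, hcomap, hq⟩
    · exact Or.inr h
    right
    subst hbt
    letI : Y.Over (Sp k) := ⟨t⟩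
    obtain ⟨-, v, a, a', hv, ha, ha', haa', hvv, hva⟩ := hq
    have hd := P.dim.le
    have hdY := hSt.dim.le
    obtain ⟨h1, h2, h3, h4, h5⟩ := blow_data hSt y hy b hblow
    have hcan := can_blow hSt y hy b hblow hw hv
    set e := ic ((pt y hy).comap b) hblow.1 with he
    have hw' : w = pull b v * e⁻¹ := by rw [← hcan, mul_inv_cancel_right]
    -- the class `F`
    have hFF : ∀ c d : Pic Y, dot k X (pull b c * e) (pull b d * e) = dot k Y c d - 1 := by
      intro c d
      rw [dot_mul_left k X hd, dot_mul_right k X hd, dot_mul_right k X hd, h1, h2, dot_comm k X e, h2, h3]; ring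
    have hFw : dot k X (pull b a * e) w = -1 := by
      rw [hw', dot_mul_left k X hd, dot_mul_right k X hd, dot_mul_right k X hd, h1, dot_inv_right k X hd, h2,
        dot_comm k X e (pull b v), h2, dot_inv_right k X hd, h3, ha.deg]
      ring
    have hFF1 : dot k X (pull b a * e) (pull b a * e) = -1 := by rw [hFF, ha.sq]; ring
    have h6 := rr P (pull b a * e)
    rw [hFF1, hFw] at h6
    have h7 := Min.chi_le P (a := pull b a * e) (by rw [hFw]; have := ww_pos P; omega)
    have h8 : 0 < hc k X 0 (pull b a * e) := by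
      have : (0 : ℤ) < hc k X 0 (pull b a * e) := by omega
      exact_mod_cast this
    obtain ⟨C₁, hE₁, hFC⟩ := exists_div k h8
    have h9 : dot k X (ic C₁ hE₁) w = 1 := by
      rw [hFC, dot_inv_left k X hd] at hFw
      omega
    have hC₁ := isCurve_of_one P hE₁ h9
    have hC₁n : dot k X (ic C₁ hE₁) (ic C₁ hE₁) = -1 := by
      rw [hFC, dot_inv_inv k X hd] at hFF1
      exact hFF1
    rcases key C₁ hC₁ hE₁ (by rw [hC₁n]; norm_num) with h | ⟨Y', t', b', y', hy', hSt', hbt', hblow', hcomap', hq'⟩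
    · exact h
    exfalso
    have hic : ic ((pt y' hy').comap b') hblow'.1 = ic C₁ hE₁ := ic_congr _ _ hcomap'
    refine no_odd hSt' y' hy' b' hblow' hq' hbt' (pull b a' * e) ?_ ?_
    · rw [hic]
      have h10 : ic C₁ hE₁ = (pull b a * e)⁻¹ := by rw [hFC, inv_inv]
      change dot k X (pull b a' * e) (ic C₁ hE₁) = 0
      rw [h10, dot_inv_right k X hd, hFF, dot_comm k Y a' a, haa']
      norm_num
    · change dot k X (pull b a' * e) (pull b a' * e) = -1
      rw [hFF, ha'.sq]
      norm_num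

end K463.DPMain
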