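import Groth.Agent.Surf.K463.Ruling
import Groth.Agent.CurvesC.RegNormal

/-!
# The quadric surface

A surface with two rulings `a, b`, `a·b = 1`, is isomorphic to `P¹ × P¹`.
-/

set_option autoImplicit false
set_option linter.unusedSectionVars false
universe u
open CategoryTheory CategoryTheory.Limits AlgebraicGeometry TopologicalSpace IsLocalRing

namespace K463.P1P1

open Groth.Agent Groth.Agent.Grpsch.PicGrp K464.Base K464.Curves K463.HC K463.PtsBlow K463.NumConn K463.Min
  K463.Pencil K463.Ruling K464.PtCurve Groth.Agent.Divis.CartierBasic Groth.Agent.Divis.CartierStalk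

local notation "Sp" k:max => Spec (CommRingCat.of k)

/-- `P¹ × P¹`. -/
noncomputable abbrev ZZ (k : Type u) [Field k] : Scheme.{u} :=
  pullback (CohB1.ProjSpace.toSpec 1 k) (CohB1.ProjSpace.toSpec 1 k)

/-- The structure morphism of `P¹ × P¹`. -/
noncomputable abbrev pZ (k : Type u) [Field k] : ZZ k ⟶ Sp k :=
  pullback.fst (CohB1.ProjSpace.toSpec 1 k) (CohB1.ProjSpace.toSpec 1 k) ≫ CohB1.ProjSpace.toSpec 1 k

theorem isReduced_ZZ (k : Type u) [Field k] : IsReduced (ZZ k) := by
  have h1 : SmoothOfRelativeDimension 1 (CohB1.ProjSpace.toSpec 1 k) := Groth.Agent.Sga5.ProjSmooth.smooth_toSpec 1 k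
  have : Smooth (CohB1.ProjSpace.toSpec 1 k) := SmoothOfRelativeDimension.smooth 1 _
  letI : (ZZ k).Over (Sp k) := ⟨pZ k⟩
  have h2 : Smooth (ZZ k ↘ (Sp k)) := by
    change Smooth (pZ k)
    infer_instance
  have h3 : ∀ z : ZZ k, _root_.IsReduced ((ZZ k).presheaf.stalk z) := fun z => by
    have := S1535.result k (ZZ k) z
    have : IsDomain ((ZZ k).presheaf.stalk z) := CurvesC.RegNormal.isDomain _
    exact isReduced_of_noZeroDivisors
  exact isReduced_of_isReduced_stalk (ZZ k)

variable {k : Type u} [Field k] [IsAlgClosed k]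

/-- Closed points of `P¹ × P¹` are determined by their projections. -/
theorem closed_ext {z z' : ZZ k} (hz : IsClosed ({z} : Set (ZZ k))) (hz' : IsClosed ({z'} : Set (ZZ k)))
    (h1 : pullback.fst (CohB1.ProjSpace.toSpec 1 k) (CohB1.ProjSpace.toSpec 1 k) z =
      pullback.fst (CohB1.ProjSpace.toSpec 1 k) (CohB1.ProjSpace.toSpec 1 k) z')
    (h2 : pullback.snd (CohB1.ProjSpace.toSpec 1 k) (CohB1.ProjSpace.toSpec 1 k) z =
      pullback.snd (CohB1.ProjSpace.toSpec 1 k) (CohB1.ProjSpace.toSpec 1 k) z') : z = z' := by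
  have hp : IsProper (CohB1.ProjSpace.toSpec 1 k) := isProper_line k
  set f := pointOfClosedPoint (pZ k) z hz with hf
  set g := pointOfClosedPoint (pZ k) z' hz' with hg
  have hfp : f ≫ pZ k = 𝟙 _ := pointOfClosedPoint_comp _ _ _
  have hgp : g ≫ pZ k = 𝟙 _ := pointOfClosedPoint_comp _ _ _
  have hfg : f = g := by
    apply pullback.hom_ext
    · refine ext_of_apply_closedPoint_eq (CohB1.ProjSpace.toSpec 1 k) ?_ ?_ ?_
      · rw [Category.assoc]; exact hfp
      · rw [Category.assoc]; exact hgp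
      · rw [Scheme.Hom.comp_apply, Scheme.Hom.comp_apply, hf, hg, pointOfClosedPoint_apply, pointOfClosedPoint_apply]
        exact h1
    · refine ext_of_apply_closedPoint_eq (CohB1.ProjSpace.toSpec 1 k) ?_ ?_ ?_
      · rw [Category.assoc, ← pullback.condition]; exact hfp
      · rw [Category.assoc, ← pullback.condition]; exact hgp
      · rw [Scheme.Hom.comp_apply, Scheme.Hom.comp_apply, hf, hg, pointOfClosedPoint_apply, pointOfClosedPoint_apply]
        exact h2
  have h3 := pointOfClosedPoint_apply (pZ k) z hz (closedPoint k)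
  have h4 := pointOfClosedPoint_apply (pZ k) z' hz' (closedPoint k)
  rw [← h3, ← h4]
  change f _ = g _
  rw [hfg]

variable {X : Scheme.{u}} [X.Over (Sp k)] [IsProper (X ↘ (Sp k))] [Smooth (X ↘ (Sp k))] [IsIntegral X] {w : Pic X}
  (P : DPX k w)

include P

theorem exists_iso (hN : NoNeg k (X := X)) {a b : Pic X} (ha : IsPencil k w a) (hb : IsPencil k w b)
    (hab : dot k X a b = 1) : ∃ e : X ≅ ZZ k, e.hom ≫ pZ k = X ↘ (Sp k) := by
  have hd := P.dim.le
  have hpl : IsProper (CohB1.ProjSpace.toSpec 1 k) := isProper_line k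
  obtain ⟨φ, hφ, hφa⟩ := exists_map P hN ha
  obtain ⟨ψ, hψ, hψb⟩ := exists_map P hN hb
  set Φ : X ⟶ ZZ k := pullback.lift φ ψ (hφ.trans hψ.symm) with hΦ
  have hΦ1 : Φ ≫ pullback.fst _ _ = φ := pullback.lift_fst _ _ _
  have hΦ2 : Φ ≫ pullback.snd _ _ = ψ := pullback.lift_snd _ _ _
  have hΦp : Φ ≫ pZ k = X ↘ (Sp k) := by rw [reassoc_of% hΦ1, hφ]
  have hprop : IsProper Φ := by
    have : IsProper (Φ ≫ pZ k) := by rw [hΦp]; infer_instance
    exact IsProper.of_comp Φ (pZ k)
  -- the two fibres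
  have key : ∀ (p q : CohB1.ProjSpace 1 k) (hp : IsClosed ({p} : Set (CohB1.ProjSpace 1 k)))
      (hq : IsClosed ({q} : Set (CohB1.ProjSpace 1 k))),
      (∃ x : X, IsClosed ({x} : Set X) ∧ φ x = p ∧ ψ x = q) ∧
      (∀ x y : X, φ x = p → ψ x = q → φ y = p → ψ y = q → x = y) ∧
      ∀ x : X, φ x = p → ψ x = q → maximalIdeal (X.presheaf.stalk x) ≤
        stalkIdeal ((K464.PtCurve.pt hp).comap φ) x ⊔ stalkIdeal ((K464.PtCurve.pt hq).comap ψ) x := by
    intro p q hp hq
    obtain ⟨hD, haD, hDc⟩ := fibre P hN ha φ hφa hp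
    obtain ⟨hE, hbE, hEc⟩ := fibre P hN hb ψ hψb hq
    have hmemD : ∀ x : X, x ∈ ((K464.PtCurve.pt hp).comap φ).support ↔ φ x = p := by
      intro x
      rw [Scheme.IdealSheafData.support_comap]
      exact mem_support_pt hp (φ x)
    have hmemE : ∀ x : X, x ∈ ((K464.PtCurve.pt hq).comap ψ).support ↔ ψ x = q := by
      intro x
      rw [Scheme.IdealSheafData.support_comap]
      exact mem_support_pt hq (ψ x)
    have hdot : dot k X (ic _ hD) (ic _ hE) = 1 := by
      rw [haD, hbE, dot_inv_inv k X hd] at hab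
      exact hab
    have hne : (K464.PtCurve.pt hp).comap φ ≠ (K464.PtCurve.pt hq).comap ψ := by
      intro h
      have h1 : ic _ hD = ic _ hE := ic_congr _ _ h
      have h2 : a = b := by rw [haD, hbE, h1]
      rw [h2, hb.sq] at hab
      exact absurd hab (by norm_num)
    have hgp := gp_notMem hDc hEc hne
    obtain ⟨h1, h2⟩ := Transv.transversal k hDc hE hgp (by rw [dot_ic_eq] at hdot; linarith)
    refine ⟨?_, fun x y hx hx' hy hy' => h1 x y ((hmemD x).mpr hx) ((hmemE x).mpr hx') ((hmemD y).mpr hy)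
      ((hmemE y).mpr hy'), fun x hx hx' => h2 x ((hmemD x).mpr hx) ((hmemE x).mpr hx')⟩
    have hnd : ¬ Disjoint (((K464.PtCurve.pt hp).comap φ).support : Set X) ((K464.PtCurve.pt hq).comap ψ).support := by
      rw [← dot_ic_ic_eq_zero_iff k hDc hD hE hgp, hdot]
      norm_num
    rw [Set.not_disjoint_iff] at hnd
    obtain ⟨y, hyD, hyE⟩ := hnd
    have : IsNoetherian X := CurvesB.CurveRR.isNoetherian_of_proper k X
    obtain ⟨x, ⟨hxD, hxE⟩, hx⟩ := IsClosed.exists_closed_singleton (X := X)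
      ((((K464.PtCurve.pt hp).comap φ).support.isClosed).inter ((K464.PtCurve.pt hq).comap ψ).support.isClosed)
      ⟨y, hyD, hyE⟩
    exact ⟨x, hx, (hmemD x).mp hxD, (hmemE x).mp hxE⟩
  have hφc : ∀ x : X, IsClosed ({x} : Set X) → IsClosed ({φ x} : Set (CohB1.ProjSpace 1 k)) := by
    intro x hx
    have : IsProper φ := by
      have : IsProper (φ ≫ CohB1.ProjSpace.toSpec 1 k) := by rw [hφ]; infer_instance
      exact IsProper.of_comp φ (CohB1.ProjSpace.toSpec 1 k)
    have h := φ.isClosedMap _ hx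
    rwa [Set.image_singleton] at h
  have hψc : ∀ x : X, IsClosed ({x} : Set X) → IsClosed ({ψ x} : Set (CohB1.ProjSpace 1 k)) := by
    intro x hx
    have : IsProper ψ := by
      have : IsProper (ψ ≫ CohB1.ProjSpace.toSpec 1 k) := by rw [hψ]; infer_instance
      exact IsProper.of_comp ψ (CohB1.ProjSpace.toSpec 1 k)
    have h := ψ.isClosedMap _ hx
    rwa [Set.image_singleton] at h
  have happ1 : ∀ x : X, pullback.fst (CohB1.ProjSpace.toSpec 1 k) (CohB1.ProjSpace.toSpec 1 k) (Φ x) = φ x := by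
    intro x
    rw [← Scheme.Hom.comp_apply, hΦ1]
  have happ2 : ∀ x : X, pullback.snd (CohB1.ProjSpace.toSpec 1 k) (CohB1.ProjSpace.toSpec 1 k) (Φ x) = ψ x := by
    intro x
    rw [← Scheme.Hom.comp_apply, hΦ2]
  have hcl : IsClosedImmersion Φ := by
    refine K657.PtCrit.isClosedImmersion_of_points Φ (pZ k) ?_ ?_
    · intro x y hx hy hxy
      refine (key (φ x) (ψ x) (hφc x hx) (hψc x hx)).2.1 x y rfl rfl ?_ ?_
      · rw [← happ1, ← happ1, hxy]
      · rw [← happ2, ← happ2, hxy]
    · intro x hx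
      refine ((key (φ x) (ψ x) (hφc x hx) (hψc x hx)).2.2 x rfl rfl).trans ?_
      have h1 : ∀ I : (ZZ k).IdealSheafData, Φ x ∈ I.support →
          stalkIdeal (I.comap Φ) x ≤ Ideal.map (Φ.stalkMap x).hom (maximalIdeal ((ZZ k).presheaf.stalk (Φ x))) := by
        intro I hI
        rw [stalkIdeal_comap]
        exact Ideal.map_mono ((mem_support_iff_stalkIdeal_le I (Φ x)).mp hI)
      refine sup_le ?_ ?_
      · have h2 : (K464.PtCurve.pt (hφc x hx)).comap φ =
            ((K464.PtCurve.pt (hφc x hx)).comap (pullback.fst _ _)).comap Φ := by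
          rw [← Scheme.IdealSheafData.comap_comp, hΦ1]
        rw [h2]
        refine h1 _ ?_
        rw [Scheme.IdealSheafData.support_comap]
        exact (mem_support_pt (hφc x hx) _).mpr (happ1 x)
      · have h2 : (K464.PtCurve.pt (hψc x hx)).comap ψ =
            ((K464.PtCurve.pt (hψc x hx)).comap (pullback.snd _ _)).comap Φ := by
          rw [← Scheme.IdealSheafData.comap_comp, hΦ2]
        rw [h2]
        refine h1 _ ?_
        rw [Scheme.IdealSheafData.support_comap]
        exact (mem_support_pt (hψc x hx) _).mpr (happ2 x)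
  have hsurj : Function.Surjective Φ := by
    have : JacobsonSpace (ZZ k) := LocallyOfFiniteType.jacobsonSpace (pZ k)
    rw [← Set.range_eq_univ]
    by_contra hne
    obtain ⟨z, hz, hzc⟩ := nonempty_inter_closedPoints (X := ZZ k) (Z := (Set.range Φ)ᶜ)
      (Set.nonempty_compl.mpr hne) Φ.isClosedEmbedding.isClosed_range.isOpen_compl.isLocallyClosed
    have hzc' : IsClosed ({z} : Set (ZZ k)) := hzc
    have hp : IsClosed ({pullback.fst (CohB1.ProjSpace.toSpec 1 k) (CohB1.ProjSpace.toSpec 1 k) z} :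
        Set (CohB1.ProjSpace 1 k)) := by
      have h := (pullback.fst (CohB1.ProjSpace.toSpec 1 k) (CohB1.ProjSpace.toSpec 1 k)).isClosedMap _ hzc'
      rwa [Set.image_singleton] at h
    have hq : IsClosed ({pullback.snd (CohB1.ProjSpace.toSpec 1 k) (CohB1.ProjSpace.toSpec 1 k) z} :
        Set (CohB1.ProjSpace 1 k)) := by
      have h := (pullback.snd (CohB1.ProjSpace.toSpec 1 k) (CohB1.ProjSpace.toSpec 1 k)).isClosedMap _ hzc'
      rwa [Set.image_singleton] at h
    obtain ⟨x, hx, hx1, hx2⟩ := (key _ _ hp hq).1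
    refine hz ⟨x, ?_⟩
    refine closed_ext ?_ hzc' ?_ ?_
    · have h := Φ.isClosedMap _ hx
      rwa [Set.image_singleton] at h
    · rw [happ1, hx1]
    · rw [happ2, hx2]
  have : Surjective Φ := ⟨hsurj⟩
  have := isReduced_ZZ k
  have hiso : IsIso Φ := isIso_of_isClosedImmersion_of_surjective Φ
  exact ⟨asIso Φ, hΦp⟩

end K463.P1P1
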