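import Groth.Agent.Surf.K463.DPMain
import Groth.Agent.Surf.K463.P1P1

/-!
# The quadric case
-/

set_option autoImplicit false
set_option linter.unusedSectionVars false
universe u
open CategoryTheory CategoryTheory.Limits AlgebraicGeometry TopologicalSpace IsLocalRing

namespace K463.QuadIso

open Groth.Agent Groth.Agent.Grpsch.PicGrp K464.Base K464.Curves K463.HC K463.PtsBlow K463.NumConn K463.Min
  K463.Pencil K463.Net K463.RS K463.Bir K463.Noether K463.Contr K463.Plane K463.DPMain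

local notation "Sp" k:max => Spec (CommRingCat.of k)

variable {k : Type u} [Field k] [IsAlgClosed k]

theorem exists_iso {X : Scheme.{u}} [X.Over (Sp k)] (hs : SPS k (X ↘ (Sp k))) {w : Pic X} (hw : Can k (X ↘ (Sp k)) w)
    (hamp : Amp w⁻¹) (hRS : RS k (X ↘ (Sp k))) (hq : Quad k (X ↘ (Sp k))) :
    dot k X w w = 8 ∧
      ∃ e : X ≅ pullback (CohB1.ProjSpace.toSpec 1 k) (CohB1.ProjSpace.toSpec 1 k),
        e.hom ≫ pullback.fst (CohB1.ProjSpace.toSpec 1 k) (CohB1.ProjSpace.toSpec 1 k) ≫ CohB1.ProjSpace.toSpec 1 k =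
          X ↘ (Sp k) := by
  have := hs.int
  have : IsProper (X ↘ (Sp k)) := hs.proper
  have : Smooth (X ↘ (Sp k)) := hs.smooth
  have P : DPX k w := ⟨hs.dim, hw, hamp, hRS.2.2⟩
  obtain ⟨hN, w', a, b, hw', ha, hb, hab, hww, hwab⟩ := hq
  have hN' : NoNeg k (X := X) := hN
  obtain rfl : w = w' := can_unique hs hw hw'
  exact ⟨hww, P1P1.exists_iso P hN' ha hb hab⟩

end K463.QuadIso
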