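import Groth.Agent.Surf.K463.HC
import Groth.Agent.Surf.K458.Ram

/-!
# Sections on numerically connected divisors

`X` smooth proper surface over an algebraically closed field, `Z` an effective divisor.

* `exists_multiset`: `Z` is a product of curves.
* `restr_ne_zero`: if `Z` is numerically connected and `L` has degree `≤ 0` on the curves of `Z`, then a nonzero section of
  `L|_Z` does not vanish on any curve of `Z`.
-/

set_option autoImplicit false
set_option linter.unusedSectionVars false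
universe u
open CategoryTheory CategoryTheory.Limits AlgebraicGeometry TopologicalSpace

namespace K463.NumConn

open Groth.Agent Groth.Agent.Grpsch.PicGrp K464.Base K464.Curves K464.Comp K464.Cohom K458.Ram
open Groth.Agent.VarietyA.EulerLES

local notation "Sp" k:max => Spec (CommRingCat.of k)

variable (k : Type u) [Field k] {X : Scheme.{u}} [X.Over (Sp k)] [IsProper (X ↘ (Sp k))]
  [Smooth (X ↘ (Sp k))] [IsIntegral X] (hdim : topologicalKrullDim X = 2)

include k hdim in
theorem exists_multiset (Z : X.IdealSheafData) (hZ : BlowUp.IsEffCartierIdeal Z) :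
    ∃ s : Multiset X.IdealSheafData, (∀ C ∈ s, IsCurve C) ∧ Z = s.prod := by
  have : IsNoetherian X := CurvesB.CurveRR.isNoetherian_of_proper k X
  refine eff_induction k (X ↘ Spec (CommRingCat.of k)) hdim (fun x => S1535.result k X x)
    (P := fun Z => ∃ s : Multiset X.IdealSheafData, (∀ C ∈ s, IsCurve C) ∧ Z = s.prod) ?_ ?_ Z hZ
  · exact ⟨0, by simp, by rw [Multiset.prod_zero, Scheme.IdealSheafData.one_eq_top]⟩
  · rintro C F hC - - ⟨s, hs, rfl⟩
    refine ⟨C ::ₘ s, fun D hD => ?_, by rw [Multiset.prod_cons]⟩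
    rcases Multiset.mem_cons.mp hD with rfl | h
    · exact hC
    · exact hs D h

theorem prod_le {s : Multiset X.IdealSheafData} {C : X.IdealSheafData} (h : C ∈ s) : s.prod ≤ C := by
  classical
  rw [← Multiset.cons_erase h, Multiset.prod_cons]
  exact mul_le_left _ _

theorem ne_top_of_isCurve {C : X.IdealSheafData} (hC : IsCurve C) : C ≠ ⊤ := by
  rintro rfl
  have h := gp_mem hC
  rw [Scheme.IdealSheafData.support_top] at h
  exact h

theorem prod_ne_top {s : Multiset X.IdealSheafData} (hs : ∀ C ∈ s, IsCurve C) (h : s ≠ 0) : s.prod ≠ ⊤ := by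
  obtain ⟨C, hC⟩ := Multiset.exists_mem_of_ne_zero h
  intro h1
  exact ne_top_of_isCurve (hs C hC) (top_le_iff.mp (h1 ▸ prod_le hC))

include hdim in
theorem degOn_prod_multiset (s : Multiset X.IdealSheafData) (hs : ∀ C ∈ s, IsCurve C) (a : Pic X) :
    degOn k X s.prod a = (s.map fun C => degOn k X C a).sum := by
  induction s using Multiset.induction_on with
  | empty => rw [Multiset.prod_zero, Scheme.IdealSheafData.one_eq_top, degOn_top]; simp
  | cons C s ih =>
    have hC := isEff_of_smooth k hdim (hs C (Multiset.mem_cons_self _ _))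
    have hs' : ∀ D ∈ s, IsCurve D := fun D hD => hs D (Multiset.mem_cons_of_mem hD)
    rw [Multiset.prod_cons, Multiset.map_cons, Multiset.sum_cons,
      degOn_eff_mul k hdim.le hC (isEff_prod s fun D hD => isEff_of_smooth k hdim (hs' D hD)), ih hs']

theorem degOn_nonneg_of_hasSec {C : X.IdealSheafData} (hC : IsCurve C) {L : X.Modules} (hL : PicF.IsInvertible L)
    (h : HasSec (CohB1.tensorMod L (ClSub.quotMod C))) : 0 ≤ degOn k X C (mk L hL) := by
  by_contra hcon
  push Not at hcon
  have h1 := subsingleton_H0_of_neg k hC hL hcon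
  have h2 : HasSec (CohB1.tensorMod (ClSub.quotMod C) L) := h.of_iso (Ega2.Tens.swap _ _)
  exact (not_subsingleton_iff_nontrivial.mpr h2) h1

include hdim in
/-- A nonzero section of `L|_Z` does not vanish on any curve of `Z`. -/
theorem restr_ne_zero {Z : X.IdealSheafData} (hZ : BlowUp.IsEffCartierIdeal Z)
    (hnc : ∀ Z₁ Z₂ : X.IdealSheafData, ∀ (h₁ : BlowUp.IsEffCartierIdeal Z₁) (h₂ : BlowUp.IsEffCartierIdeal Z₂),
      Z₁ ≠ ⊤ → Z₂ ≠ ⊤ → Z = Z₁ * Z₂ → 0 < dot k X (ic Z₁ h₁) (ic Z₂ h₂))
    {L : X.Modules} (hL : PicF.IsInvertible L)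
    (hdeg : ∀ C : X.IdealSheafData, IsCurve C → Z ≤ C → degOn k X C (mk L hL) ≤ 0)
    {C : X.IdealSheafData} (hC : IsCurve C) (hle : Z ≤ C)
    (x : Coh.HH X (CohB1.tensorMod L (ClSub.quotMod Z)) 0) (hx : x ≠ 0) : mapΓ (restr L hle) 0 x ≠ 0 := by
  intro h0
  have : IsNoetherian X := CurvesB.CurveRR.isNoetherian_of_proper k X
  have hCe := isEff_of_smooth k hdim hC
  obtain ⟨B, hB, hmul⟩ := Divis.ColonIdeal.exists_mul_eq hCe hZ hle
  have h1 := nontrivial_step' hL hCe B hmul.symm hle x hx h0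
  obtain ⟨s, hs, rfl⟩ := exists_multiset k hdim B hB
  have hse : ∀ D ∈ s, BlowUp.IsEffCartierIdeal D := fun D hD => isEff_of_smooth k hdim (hs D hD)
  have hN : PicF.IsInvertible (CohB1.tensorMod L (ClSub.idealMod C)) :=
    Fdesc.LocGen.isInvertible_tensorMod hL (Dix.IdealModCartier.isInvertible_idealMod hCe)
  obtain ⟨t, u, rfl, hu, hsec⟩ := ram s hse _ hN h1
  have htc : ∀ D ∈ t, IsCurve D := fun D hD => hs D (Multiset.mem_add.mpr (Or.inl hD))
  have huc : ∀ D ∈ u, IsCurve D := fun D hD => hs D (Multiset.mem_add.mpr (Or.inr hD))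
  have hte := isEff_prod t fun D hD => isEff_of_smooth k hdim (htc D hD)
  have hue := isEff_prod u fun D hD => isEff_of_smooth k hdim (huc D hD)
  rw [Multiset.prod_add, ← mul_assoc] at hmul
  have h3 := hnc (C * t.prod) u.prod (K458.Ram.isEff_mul hCe hte) hue (fun h => ne_top_of_isCurve hC
    (top_le_iff.mp (h ▸ mul_le_left C _))) (prod_ne_top huc hu) hmul.symm
  rw [dot_comm, dot_ic_eq, ic_mul hCe hte] at h3
  have h4 : 0 ≤ degOn k X u.prod (mk L hL * (ic C hCe * ic t.prod hte)) := by
    rw [degOn_prod_multiset k hdim u huc]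
    refine Multiset.sum_nonneg fun y hy => ?_
    obtain ⟨D, hD, rfl⟩ := Multiset.mem_map.mp hy
    have h5 := degOn_nonneg_of_hasSec k (huc D hD) (Fdesc.LocGen.isInvertible_tensorMod hN
      (Dix.IdealModCartier.isInvertible_idealMod hte)) (hsec D hD)
    rw [← mk_mul_mk hN, ← mk_mul_mk hL, mul_assoc] at h5
    exact h5
  have h6 : degOn k X u.prod (mk L hL) ≤ 0 := by
    rw [degOn_prod_multiset k hdim u huc, ← neg_nonneg, ← Multiset.sum_map_neg]
    refine Multiset.sum_nonneg fun y hy => ?_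
    obtain ⟨D, hD, rfl⟩ := Multiset.mem_map.mp hy
    rw [neg_nonneg]
    exact hdeg D (huc D hD) (hmul ▸ (mul_comm (C * t.prod) u.prod ▸ mul_le_left u.prod _).trans (prod_le hD))
  rw [degOn_eq_neg_dot k X hue, dot_mul_right k X hdim.le] at h4
  rw [degOn_eq_neg_dot k X hue] at h6 h3
  linarith

end K463.NumConn
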