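import Groth.Agent.Surf.K463.RRd
import Groth.Agent.Surf.K463.NumConn

/-!
# Artin's numerical criterion on an effective divisor

`subsingleton_H1`: if `χ(O_{Z'}) ≥ 1` for all nonzero `Z' ≤ Z`, then `H¹(O_Z) = 0`.
-/

set_option autoImplicit false
set_option linter.unusedSectionVars false
universe u
open CategoryTheory CategoryTheory.Limits AlgebraicGeometry TopologicalSpace

namespace K463.RatZ

open Groth.Agent Groth.Agent.Grpsch.PicGrp K464.Base K464.Curves K464.Comp K464.Cohom K464.RatConf K464.DivLat
open K463.NumConn K458.Ram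

local notation "Sp" k:max => Spec (CommRingCat.of k)

variable (k : Type u) [Field k] [IsAlgClosed k] {X : Scheme.{u}} [X.Over (Sp k)] [IsProper (X ↘ (Sp k))]
  [Smooth (X ↘ (Sp k))] [IsIntegral X] (hdim : topologicalKrullDim X = 2)

include k hdim in
theorem dim_support_eff {Z : X.IdealSheafData} (hZ : BlowUp.IsEffCartierIdeal Z) :
    topologicalKrullDim (Z.support : Set X) ≤ 1 := by
  have : IsNoetherian X := CurvesB.CurveRR.isNoetherian_of_proper k X
  obtain ⟨m, C, n, hC, -, -, hCn⟩ := exists_eq_cyc k (X ↘ Spec (CommRingCat.of k)) hdim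
    (fun x => S1535.result k X x) Z hZ
  rw [hCn]
  exact dim_support_cyc hC n

include hdim in
theorem one_le_euler {Z : X.IdealSheafData} (hZ : BlowUp.IsEffCartierIdeal Z) (hne : Z ≠ ⊤)
    (h : Subsingleton (Coh.HH X (ClSub.quotMod Z) 1)) : 1 ≤ Curv2.euler k X (ClSub.quotMod Z) := by
  rw [euler_quot_eq k Z (dim_support_eff k hdim hZ), Module.finrank_zero_of_subsingleton (M := Coh.HH X _ 1)]
  have := one_le_h0 k hne
  omega

variable {W : X.Modules} (hW : ExtPow.IsExtPow 2 (Omega.sheaf (X ↘ (Sp k))) W)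

theorem h1_of_curve {C : X.IdealSheafData} (hC : IsCurve C) (h : 1 ≤ Curv2.euler k X (ClSub.quotMod C)) :
    Subsingleton (Coh.HH X (ClSub.quotMod C) 1) ∧ Curv2.euler k X (ClSub.quotMod C) = 1 := by
  have h1 := euler_curve k hC
  have h2 : Module.finrank k (Coh.HH X (ClSub.quotMod C) 1) = 0 := by omega
  exact ⟨RRd.subsingleton_of_finrank k (isCoh_quotMod X C) 1 h2, by omega⟩

include hdim hW in
theorem subsingleton_H1 (s : Multiset X.IdealSheafData) (hs : ∀ C ∈ s, IsCurve C) (h0 : s ≠ 0)
    (hchi : ∀ t ≤ s, t ≠ 0 → 1 ≤ Curv2.euler k X (ClSub.quotMod t.prod)) :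
    Subsingleton (Coh.HH X (ClSub.quotMod s.prod) 1) := by
  classical
  have hWi := RRd.isInvertible_W k hdim hW
  induction s using Multiset.strongInductionOn with
  | ih s ih =>
  have hse : ∀ D ∈ s, BlowUp.IsEffCartierIdeal D := fun D hD => isEff_of_smooth k hdim (hs D hD)
  have hsE := K458.Ram.isEff_prod s hse
  have hcurve : ∀ C ∈ s, Subsingleton (Coh.HH X (ClSub.quotMod C) 1) ∧ Curv2.euler k X (ClSub.quotMod C) = 1 := by
    intro C hC
    apply h1_of_curve k (hs C hC)
    have h := hchi {C} (Multiset.singleton_le.mpr hC) (Multiset.singleton_ne_zero C)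
    rwa [Multiset.prod_singleton] at h
  have hee : ∀ C, ∀ D ∈ s.erase C, BlowUp.IsEffCartierIdeal D := fun C D hD => hse D (Multiset.mem_of_mem_erase hD)
  have heE : ∀ C, BlowUp.IsEffCartierIdeal (s.erase C).prod := fun C => K458.Ram.isEff_prod _ (hee C)
  by_cases hex : ∃ C ∈ s, -1 ≤ degOn k X C (ic (s.erase C).prod (heE C))
  · obtain ⟨C, hC, hdeg⟩ := hex
    by_cases he : s.erase C = 0
    · have h1 : s.prod = C := by
        rw [← Multiset.cons_erase hC, he, Multiset.prod_cons, Multiset.prod_zero, mul_one]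
      rw [h1]
      exact (hcurve C hC).1
    · have h1 : s.prod = (s.erase C).prod * C := by
        conv_lhs => rw [← Multiset.cons_erase hC, Multiset.prod_cons, mul_comm]
      have h2 := ih (s.erase C) (Multiset.erase_lt.mpr hC) (fun D hD => hs D (Multiset.mem_of_mem_erase hD)) he
        (fun t ht ht0 => hchi t (ht.trans (Multiset.erase_le C s)) ht0)
      rw [h1]
      refine Fga.HShift.subsingleton_of_iso (Ega2.Tens.runit _) 1 ?_
      refine step_H1 k (hs C hC) (hcurve C hC).1 (heE C) (L := Coh.structureModule X)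
        Fdesc.LocGen.isInvertible_structureModule ?_ ?_
      · have h3 : degOn k X C (mk (Coh.structureModule X) Fdesc.LocGen.isInvertible_structureModule) = 0 :=
          degOn_one k C
        rw [h3, add_zero]
        exact hdeg
      · exact Fga.HShift.subsingleton_of_iso (Ega2.Tens.runit _).symm 1 h2
  · exfalso
    push Not at hex
    have key : ∀ C ∈ s, degOn k X C (ic s.prod hsE) ≤ degOn k X C (mk W hWi) := by
      intro C hC
      have h1 : ic s.prod hsE = ic C (hse C hC) * ic (s.erase C).prod (heE C) := by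
        rw [← ic_mul (hse C hC) (heE C)]
        refine ic_congr _ _ ?_
        rw [← Multiset.prod_cons, Multiset.cons_erase hC]
      rw [h1, degOn_mul k (hs C hC)]
      have h2 := hex C hC
      have h3 := RRd.adj k hdim hW hWi (hse C hC)
      rw [dot_ic_eq, dot_ic_eq, (hcurve C hC).2] at h3
      omega
    have h1 : degOn k X s.prod (ic s.prod hsE) ≤ degOn k X s.prod (mk W hWi) := by
      rw [degOn_prod_multiset k hdim s hs, degOn_prod_multiset k hdim s hs]
      exact Multiset.sum_map_le_sum_map _ _ key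
    have h2 := RRd.adj k hdim hW hWi hsE
    rw [dot_ic_eq, dot_ic_eq] at h2
    have h3 := hchi s le_rfl h0
    omega

end K463.RatZ
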