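import Groth.Agent.Surf.K463.Restr

/-!
# Sections of line bundles of nonpositive degree on numerically connected divisors

* `isGen_sc`: a nonzero section of `L|_Z` trivializes `L|_Z`.
* `finrank_le_one`: `h^0(L|_Z) ≤ 1`.
-/

set_option autoImplicit false
set_option linter.unusedSectionVars false
universe u
open CategoryTheory CategoryTheory.Limits AlgebraicGeometry TopologicalSpace

namespace K463.NumSec

open Groth.Agent Groth.Agent.Fdesc.LocGen Groth.Agent.Grpsch.PicGrp K464.Base K464.Curves K464.Comp K464.Cohom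
open K458.Ram K463.NumConn K463.Restr Groth.Agent.VarietyA.EulerLES
open Groth.Agent.VarietyB.TensCoh (HasBases)

local notation "Sp" k:max => Spec (CommRingCat.of k)

section curve

variable (k : Type u) [Field k] {X : Scheme.{u}} [X.Over (Sp k)] [IsProper (X ↘ (Sp k))]

theorem isGen_curve {C : X.IdealSheafData} (hC : IsCurve C) {L : X.Modules} (hL : PicF.IsInvertible L)
    (hdeg : degOn k X C (mk L hL) ≤ 0)
    (s : Γ((Scheme.Modules.pullback C.subschemeι).obj L, ⊤)) (hs : s ≠ 0) : IsGen s := by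
  letI := overC k X C
  have := isProper_sub k X C
  have := hC.integral
  have hd : topologicalKrullDim C.subscheme = 1 := (dim_sub X C).trans hC.dim
  rw [degOn_eq_deg] at hdeg
  have h := CurvesC.DegZeroSec512.zero_or_top k C.subscheme hd _ (isInvertible_pullback C.subschemeι hL)
    (homOf s) hdeg
  have hsec : sec (homOf s) ⊤ = s := by simp
  rcases h with h | h
  · exfalso
    apply hs
    rw [← hsec, h]
    rfl
  · have h1 := CurvesC.DegZeroSec512.isIso_of_genLocus_eq_top _ h
    rw [isIso_iff_isGen, hsec] at h1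
    exact h1

end curve

section triv

variable {X : Scheme.{u}}

/-- A generating section trivializes. -/
theorem nonempty_iso_of_isGen {L : X.Modules} (hb : HasBases L) (D : X.IdealSheafData)
    (s : Γ((Scheme.Modules.pullback D.subschemeι).obj L, ⊤)) (hs : IsGen s) :
    Nonempty (CohB1.tensorMod (ClSub.quotMod D) L ≅ ClSub.quotMod D) := by
  have h1 : IsIso (homOf s) := by
    rw [isIso_iff_isGen]
    simpa using hs
  exact ⟨Ega2.Tens.swap _ _ ≪≫ VarietyB.ProjForm.projIsoUnit D.subschemeι hb ≪≫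
    (Scheme.Modules.pushforward D.subschemeι).mapIso (asIso (homOf s)).symm⟩

end triv

section main

variable (k : Type u) [Field k] {X : Scheme.{u}} [X.Over (Sp k)] [IsProper (X ↘ (Sp k))]
  [Smooth (X ↘ (Sp k))] [IsIntegral X] (hdim : topologicalKrullDim X = 2)
  {Z : X.IdealSheafData} (hZ : BlowUp.IsEffCartierIdeal Z)
  (hnc : ∀ Z₁ Z₂ : X.IdealSheafData, ∀ (h₁ : BlowUp.IsEffCartierIdeal Z₁) (h₂ : BlowUp.IsEffCartierIdeal Z₂),
      Z₁ ≠ ⊤ → Z₂ ≠ ⊤ → Z = Z₁ * Z₂ → 0 < dot k X (ic Z₁ h₁) (ic Z₂ h₂))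
  {L : X.Modules} (hL : PicF.IsInvertible L)
  (hdeg : ∀ C : X.IdealSheafData, IsCurve C → Z ≤ C → degOn k X C (mk L hL) ≤ 0)

include hdim hZ hnc hdeg in
/-- A nonzero section of `L|_Z` generates `L|_Z`. -/
theorem isGen_sc (x : Coh.HH X (CohB1.tensorMod L (ClSub.quotMod Z)) 0) (hx : x ≠ 0) :
    IsGen (M := (Scheme.Modules.pullback Z.subschemeι).obj L) (U := ⊤)
      (sc (Fga.HodgePush.hasBases_of_isInvertible hL) Z x) := by
  refine (isGen_iff_forall_exists (M := (Scheme.Modules.pullback Z.subschemeι).obj L) (V := ⊤)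
    (e := sc (Fga.HodgePush.hasBases_of_isInvertible hL) Z x)).mpr ?_
  intro w _
  have hw : Z.subschemeι w ∈ Z.support := by
    have : Z.subschemeι w ∈ Set.range Z.subschemeι := ⟨w, rfl⟩
    rw [Z.range_subschemeι] at this
    exact this
  obtain ⟨C, hC, hle, hwC⟩ := exists_curve_le (X ↘ Spec (CommRingCat.of k)) hdim hZ _ hw
  have h1 := restr_ne_zero k hdim hZ hnc hL hdeg hC hle x hx
  have h2 : sc (Fga.HodgePush.hasBases_of_isInvertible hL) C (mapΓ (restr L hle) 0 x) ≠ 0 :=
    fun h => h1 (sc_eq_zero _ _ _ h)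
  have h3 := isGen_curve k hC hL (hdeg C hC hle) (sc (Fga.HodgePush.hasBases_of_isInvertible hL) C
    (mapΓ (restr L hle) 0 x)) h2
  obtain ⟨V, hV, hgen⟩ := isGen_near hL (Fga.HodgePush.hasBases_of_isInvertible hL) hle x h3 _ hwC
  exact ⟨Z.subschemeι ⁻¹ᵁ V, le_top, hV, hgen⟩

include hdim hZ hnc hdeg in
theorem nonempty_iso_of_ne_zero (x : Coh.HH X (CohB1.tensorMod L (ClSub.quotMod Z)) 0) (hx : x ≠ 0) :
    Nonempty (CohB1.tensorMod (ClSub.quotMod Z) L ≅ ClSub.quotMod Z) :=
  nonempty_iso_of_isGen (Fga.HodgePush.hasBases_of_isInvertible hL) Z _ (isGen_sc k hdim hZ hnc hL hdeg x hx)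

theorem finrank_curve_le_one [IsAlgClosed k] {C : X.IdealSheafData} (hC : IsCurve C)
    (hd : degOn k X C (mk L hL) ≤ 0) :
    Module.finrank k (Coh.HH X (CohB1.tensorMod L (ClSub.quotMod C)) 0) ≤ 1 := by
  by_cases h : Subsingleton (Coh.HH X (CohB1.tensorMod L (ClSub.quotMod C)) 0)
  · rw [Module.finrank_zero_of_subsingleton]
    omega
  · rw [not_subsingleton_iff_nontrivial] at h
    obtain ⟨x, hx⟩ := exists_ne (0 : Coh.HH X (CohB1.tensorMod L (ClSub.quotMod C)) 0)
    have h2 : sc (Fga.HodgePush.hasBases_of_isInvertible hL) C x ≠ 0 := fun h => hx (sc_eq_zero _ _ _ h)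
    obtain ⟨e⟩ := nonempty_iso_of_isGen (Fga.HodgePush.hasBases_of_isInvertible hL) C _ (isGen_curve k hC hL hd
      (sc (Fga.HodgePush.hasBases_of_isInvertible hL) C x) h2)
    letI := overC k X C
    have := isProper_sub k X C
    have := hC.integral
    rw [finrank_congr k (Ega2.Tens.swap _ _ ≪≫ e) 0, (hhSub0 k C 0).finrank_eq,
      VarietyA.CurveFin.finrank_h0_structure k C.subscheme]

include hdim hZ hnc hdeg in
theorem finrank_le_one [IsAlgClosed k] (hZ0 : Z ≠ ⊤) :
    Module.finrank k (Coh.HH X (CohB1.tensorMod L (ClSub.quotMod Z)) 0) ≤ 1 := by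
  have : IsNoetherian X := CurvesB.CurveRR.isNoetherian_of_proper k X
  have hne : (Z.support : Set X).Nonempty := by
    by_contra hcon
    rw [Set.not_nonempty_iff_eq_empty] at hcon
    exact hZ0 (by
      have : Z.support = ⊥ := by
        apply TopologicalSpace.Closeds.ext
        exact hcon
      rw [← Scheme.IdealSheafData.support_eq_bot_iff]
      exact this)
  obtain ⟨z, hz⟩ := hne
  obtain ⟨C, hC, hle, hzC⟩ := exists_curve_le (X ↘ Spec (CommRingCat.of k)) hdim hZ z hz
  have hcoh : Coh.IsCoh (CohB1.tensorMod L (ClSub.quotMod C)) :=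
    Sga67.CohBasic.isCoh_of_iso (Ega2.Tens.swap _ L) (isCoh_tensorMod X (isCoh_quotMod X C) hL)
  have := K464.Cohom.finite_HH k hcoh 0
  refine le_trans ?_ (finrank_curve_le_one k hL hC (hdeg C hC hle))
  apply LinearMap.finrank_le_finrank_of_injective (f := VarietyA.HLin.hmapₗ k (restr L hle) 0)
  rw [← LinearMap.ker_eq_bot, LinearMap.ker_eq_bot']
  intro x hx
  by_contra hx0
  exact restr_ne_zero k hdim hZ hnc hL hdeg hC hle x hx0 hx

end main

end K463.NumSec
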