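import Groth.Agent.Surf.K463.PicBound
import Groth.Agent.VarietyA.RegSmoothSch

/-!
# Integral curves on a smooth proper surface

* `isSurf`: a smooth proper integral surface over a field is `Dix.ExcPts.IsSurf`.
* `exists_pt`: an integral closed subscheme of dimension one is `cl ξ` with `ξ` of codimension one.
-/

set_option autoImplicit false
set_option linter.unusedSectionVars false
universe u
open CategoryTheory CategoryTheory.Limits AlgebraicGeometry Opposite TopologicalSpace

namespace K463.SmoothSurf

open Groth.Agent Groth.Agent.Grpsch.PicGrp Groth.Agent.Pic13.H950.NumCl K463.Cl K463.Form K463.Exc K463.PicBound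
open Groth.Agent.Dix.ExcPts

local notation "Sp" k:max => Spec (CommRingCat.of k)

variable (k : Type u) [Field k] (X : Scheme.{u}) [X.Over (Sp k)] [IsProper (X ↘ (Sp k))] [IsIntegral X]
  (hdim : topologicalKrullDim X = 2)

include k hdim in
theorem isSurf_of_regular (hreg : ∀ x : X, IsRegularLocalRing (X.presheaf.stalk x)) : IsSurf X := by
  have h1 : IsLocallyNoetherian X := LocallyOfFiniteType.isLocallyNoetherian (X ↘ (Sp k))
  have h2 : CompactSpace X := (quasiCompact_iff_compactSpace (X ↘ (Sp k))).mp inferInstance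
  exact ⟨inferInstance, {}, hreg, Cl.coheight_le (X ↘ (Sp k)) hdim⟩

include k hdim in
theorem isSurf [Smooth (X ↘ (Sp k))] : IsSurf X :=
  isSurf_of_regular k X hdim fun x =>
    VarietyA.RegSmoothSch.isRegularLocalRing_stalk_of_mem_smoothLocus (X ↘ (Sp k)) x
      (by rw [(X ↘ (Sp k)).smoothLocus_eq_top]; trivial)

include k hdim in
theorem coheight_eq_one {ξ : X} (h : topologicalKrullDim (closure {ξ} : Set X) = 1) : Order.coheight ξ = 1 := by
  obtain ⟨a, t, h1, h2, h3⟩ := Cl.dims (X ↘ (Sp k)) hdim ξ
  rw [h] at h2
  have h4 : t = 1 := by exact_mod_cast h2.symm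
  have h5 : a = 1 := by omega
  rw [h1, h5]; rfl

include k hdim in
theorem exists_pt (C : X.IdealSheafData) (hC : IsIntegral C.subscheme)
    (hd : topologicalKrullDim (C.support : Set X) = 1) : ∃ ξ : X, Order.coheight ξ = 1 ∧ C = cl ξ := by
  have h := eq_cl C
  refine ⟨C.subschemeι (genericPoint C.subscheme), coheight_eq_one k X hdim ?_, h⟩
  rw [← coe_support_cl, ← h]
  exact hd

end K463.SmoothSurf
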