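import Groth.Agent.Surf.K465.PicBlow

/-!
# Injectivity of pullback of invertible classes to blow-ups of points
-/

set_option autoImplicit false
set_option linter.unusedSectionVars false
universe u
open CategoryTheory CategoryTheory.Limits AlgebraicGeometry Opposite TopologicalSpace

namespace K463.PicInj

open Groth.Agent Groth.Agent.Grpsch.PicGrp Groth.Agent.Dix.PointIdeal

theorem pull_injective_of_equiv {U V : Scheme.{u}} (j : U ⟶ V) [IsOpenImmersion j] (h : ParaF.InvRestrictEquiv j) :
    Function.Injective (pull j : Pic V → Pic U) := by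
  intro a b hab
  obtain ⟨L, hL, rfl⟩ := exists_mk a
  obtain ⟨M, hM, rfl⟩ := exists_mk b
  rw [pull_mk, pull_mk, mk_eq_iff] at hab
  obtain ⟨e⟩ := hab
  let e' : (Scheme.Modules.restrictFunctor j).obj L ≅ (Scheme.Modules.restrictFunctor j).obj M :=
    (Scheme.Modules.restrictFunctorIsoPullback j).app L ≪≫ e ≪≫
      ((Scheme.Modules.restrictFunctorIsoPullback j).app M).symm
  obtain ⟨φ, hφ⟩ := (h.1 L M hL hM).2 e'.hom
  obtain ⟨ψ, hψ⟩ := (h.1 M L hM hL).2 e'.inv
  have h1 : φ ≫ ψ = 𝟙 L := by
    apply (h.1 L L hL hL).1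
    change (Scheme.Modules.restrictFunctor j).map (φ ≫ ψ) = (Scheme.Modules.restrictFunctor j).map (𝟙 L)
    rw [CategoryTheory.Functor.map_comp, CategoryTheory.Functor.map_id]
    change (Scheme.Modules.restrictFunctor j).map φ = _ at hφ
    change (Scheme.Modules.restrictFunctor j).map ψ = _ at hψ
    rw [hφ, hψ, Iso.hom_inv_id]
  have h2 : ψ ≫ φ = 𝟙 M := by
    apply (h.1 M M hM hM).1
    change (Scheme.Modules.restrictFunctor j).map (ψ ≫ φ) = (Scheme.Modules.restrictFunctor j).map (𝟙 M)
    rw [CategoryTheory.Functor.map_comp, CategoryTheory.Functor.map_id]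
    change (Scheme.Modules.restrictFunctor j).map φ = _ at hφ
    change (Scheme.Modules.restrictFunctor j).map ψ = _ at hψ
    rw [hφ, hψ, Iso.inv_hom_id]
  exact (mk_eq_iff hL hM).mpr ⟨⟨φ, ψ, h1, h2⟩⟩

theorem pull_injective_of_isIso {U V : Scheme.{u}} (j : U ⟶ V) [IsIso j] :
    Function.Injective (pull j : Pic V → Pic U) := by
  intro a b hab
  have h := congrArg (pull (inv j)) hab
  rwa [← pull_comp, ← pull_comp, IsIso.inv_hom_id, pull_id, pull_id] at h

theorem pull_ι_injective {X : Scheme.{u}} {Y : Closeds X} (h : ParaF.IsParafactorialPair X Y) :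
    Function.Injective (pull (Scheme.Opens.ι Y.compl) : Pic X → _) := by
  intro a b hab
  have he : (⊤ ⊓ Y.compl : X.Opens) = Y.compl := top_inf_eq _
  let e : ((⊤ ⊓ Y.compl : X.Opens) : Scheme.{u}) ≅ (Y.compl : Scheme.{u}) := X.isoOfEq he
  have h5 : e.hom ≫ Scheme.Opens.ι Y.compl =
      X.homOfLE (inf_le_left : (⊤ : X.Opens) ⊓ Y.compl ≤ ⊤) ≫ X.topIso.hom := by
    simp [e, Scheme.topIso_hom]
  have h6 := congrArg (pull e.hom) hab
  rw [← pull_comp, ← pull_comp, h5, pull_comp, pull_comp] at h6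
  exact pull_injective_of_isIso _ (pull_injective_of_equiv _ (h ⊤) h6)

/-- The pullback to the blow-up of a point is injective on classes of invertible modules. -/
theorem pull_injective {X X' : Scheme.{u}} [IsLocallyNoetherian X] (π : X' ⟶ X) (x : X)
    (hx : IsClosed ({x} : Set X)) (hπ : BlowUp.IsBlowUp π (pt x hx))
    (hpar : ParaF.IsParafactorialPair X ⟨{x}, hx⟩) : Function.Injective (pull π : Pic X → Pic X') := by
  intro a b hab
  let Y : Closeds X := ⟨{x}, hx⟩
  let U : X.Opens := Y.compl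
  have hiso : IsIso (π ∣_ U) := K455.BlowDim.isIso_restrict π x hx hπ
  apply pull_ι_injective hpar
  have h1 := congrArg (pull (π ⁻¹ᵁ U).ι) hab
  rw [← pull_comp, ← pull_comp, ← morphismRestrict_ι π U, pull_comp, pull_comp] at h1
  exact pull_injective_of_isIso _ h1

end K463.PicInj
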