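import Groth.Agent.Surf.K463.SPS
import Groth.Agent.Surf.K463.PicInj
import Groth.Agent.Surf.K463.RRd
import Groth.Agent.Surf.K465.BlowNum
import Groth.Agent.Surf.K455.BlowCanon
import Groth.Agent.Surf.K455.CanonOpen

/-!
# `ρ + K² = 10` is a birational invariant of smooth proper surfaces

* `NF k s`: the Picard group of the smooth proper surface `s : X ⟶ Spec k` is free of finite rank `ρ` and `ρ + K² = 10`.
* `NF_iso`, `NF_blow`: invariance under isomorphisms and blow-ups of points.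
-/

set_option autoImplicit false
set_option linter.unusedSectionVars false
universe u
open CategoryTheory CategoryTheory.Limits AlgebraicGeometry Opposite TopologicalSpace

namespace K463.Noether

open Groth.Agent Groth.Agent.Grpsch.PicGrp K464.Base K463.Bir Groth.Agent.Dix.PointIdeal

local notation "Sp" k:max => Spec (CommRingCat.of k)

/-- The Picard group is free of finite rank `ρ` and `ρ + K² = 10`. -/
def NF (k : Type u) [Field k] {X : Scheme.{u}} (s : X ⟶ Sp k) : Prop :=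
  letI : X.Over (Sp k) := ⟨s⟩
  Module.Free ℤ (Additive (Pic X)) ∧ Module.Finite ℤ (Additive (Pic X)) ∧
    ∀ (W : X.Modules) (hWi : PicF.IsInvertible W), ExtPow.IsExtPow 2 (Omega.sheaf s) W →
      (Module.finrank ℤ (Additive (Pic X)) : ℤ) + dot k X (mk W hWi) (mk W hWi) = 10

section alg

theorem prod_iff {A B : Type*} [AddCommGroup A] [AddCommGroup B] (e : (A × ℤ) ≃+ B) (c d : ℤ) (h : d = c - 1) :
    (Module.Free ℤ B ∧ Module.Finite ℤ B ∧ (Module.finrank ℤ B : ℤ) + d = 10) ↔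
      (Module.Free ℤ A ∧ Module.Finite ℤ A ∧ (Module.finrank ℤ A : ℤ) + c = 10) := by
  subst h
  have el : (A × ℤ) ≃ₗ[ℤ] B := e.toIntLinearEquiv
  constructor
  · rintro ⟨h1, h2, h3⟩
    have h4 : Module.Free ℤ (A × ℤ) := Module.Free.of_equiv el.symm
    have h5 : Module.Finite ℤ (A × ℤ) := Module.Finite.equiv el.symm
    have h6 : Module.Finite ℤ A := Module.Finite.of_surjective (LinearMap.fst ℤ A ℤ) LinearMap.fst_surjective
    have h7 : Module.Free ℤ A := by
      have : Module.Projective ℤ A := Module.Projective.of_split (LinearMap.inl ℤ A ℤ) (LinearMap.fst ℤ A ℤ)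
        (LinearMap.fst_comp_inl ℤ A ℤ)
      infer_instance
    refine ⟨h7, h6, ?_⟩
    rw [← el.finrank_eq, Module.finrank_prod, Module.finrank_self] at h3
    push_cast at h3
    linarith
  · rintro ⟨h1, h2, h3⟩
    refine ⟨Module.Free.of_equiv el, Module.Finite.equiv el, ?_⟩
    rw [← el.finrank_eq, Module.finrank_prod, Module.finrank_self]
    push_cast
    linarith

end alg

section canon

variable (k : Type u) [Field k] {X : Scheme.{u}} [X.Over (Sp k)] [IsProper (X ↘ (Sp k))] [Smooth (X ↘ (Sp k))]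
  [IsIntegral X] (hdim : topologicalKrullDim X = 2)

include hdim in
theorem mk_unique {W W' : X.Modules} (hW : ExtPow.IsExtPow 2 (Omega.sheaf (X ↘ (Sp k))) W)
    (hW' : ExtPow.IsExtPow 2 (Omega.sheaf (X ↘ (Sp k))) W') (hWi : PicF.IsInvertible W) (hWi' : PicF.IsInvertible W') :
    mk W hWi = mk W' hWi' := by
  have := RRd.relDim k hdim
  obtain ⟨e⟩ := K455.CanonOpen.nonempty_iso (X ↘ (Sp k)) (X ↘ (Sp k)) 2 (𝟙 X) (𝟙 X) rfl hW' hW
  exact (mk_eq_iff hWi hWi').mpr ⟨(Scheme.Modules.pullbackId X).symm.app W ≪≫ e ≪≫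
    (Scheme.Modules.pullbackId X).app W'⟩

end canon

section blow

variable {k : Type u} [Field k]

theorem NF_iff {X : Scheme.{u}} {s : X ⟶ Sp k} (h : SPS k s) (W : X.Modules) (hWi : PicF.IsInvertible W)
    (hW : ExtPow.IsExtPow 2 (Omega.sheaf s) W) : NF k s ↔ letI : X.Over (Sp k) := ⟨s⟩
      (Module.Free ℤ (Additive (Pic X)) ∧ Module.Finite ℤ (Additive (Pic X)) ∧
        (Module.finrank ℤ (Additive (Pic X)) : ℤ) + dot k X (mk W hWi) (mk W hWi) = 10) := by
  letI : X.Over (Sp k) := ⟨s⟩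
  have := h.int
  have : IsProper (X ↘ (Sp k)) := h.proper
  have : Smooth (X ↘ (Sp k)) := h.smooth
  constructor
  · rintro ⟨h1, h2, h3⟩
    exact ⟨h1, h2, h3 W hWi hW⟩
  · rintro ⟨h1, h2, h3⟩
    refine ⟨h1, h2, fun W' hWi' hW' => ?_⟩
    rw [mk_unique k h.dim hW' hW hWi' hWi]
    exact h3

theorem NF_iso {X Y : Scheme.{u}} {s : X ⟶ Sp k} {t : Y ⟶ Sp k} (e : X ≅ Y) (he : e.hom ≫ t = s) (ht : SPS k t) :
    NF k s ↔ NF k t := by
  have hs := ht.of_iso e he
  letI : X.Over (Sp k) := ⟨s⟩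
  letI : Y.Over (Sp k) := ⟨t⟩
  have := hs.int
  have : IsProper (X ↘ (Sp k)) := hs.proper
  have : Smooth (X ↘ (Sp k)) := hs.smooth
  have := ht.int
  have : IsProper (Y ↘ (Sp k)) := ht.proper
  have : Smooth (Y ↘ (Sp k)) := ht.smooth
  obtain ⟨W, hW⟩ := RRd.exists_W k (X := Y)
  have hWi := RRd.isInvertible_W k ht.dim hW
  obtain ⟨W', hW'⟩ := RRd.exists_W k (X := X)
  have hWi' := RRd.isInvertible_W k hs.dim hW'
  have h1 := RRd.relDim k ht.dim
  have h2 := RRd.relDim k hs.dim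
  have hw : mk W' hWi' = pull e.hom (mk W hWi) := by
    obtain ⟨f⟩ := K455.CanonOpen.nonempty_iso (Y ↘ (Sp k)) (X ↘ (Sp k)) 2 e.hom (𝟙 X) (by rw [Category.id_comp]; exact he)
      hW hW'
    rw [pull_mk, mk_eq_iff]
    exact ⟨(Scheme.Modules.pullbackId X).symm.app W' ≪≫ f⟩
  rw [NF_iff hs W' hWi' hW', NF_iff ht W hWi hW]
  have hchi : ∀ a : Pic Y, chi k X (pull e.hom a) = chi k Y a := by
    intro a
    obtain ⟨L, hL, rfl⟩ := exists_mk a
    rw [pull_mk, chi_mk, chi_mk]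
    exact CurvesC.DegIso.euler_pullback_iso k e he L
  have hdot : ∀ a b : Pic Y, dot k X (pull e.hom a) (pull e.hom b) = dot k Y a b := by
    intro a b
    rw [dot_def, dot_def, ← map_mul, hchi, hchi, hchi, ← hchi 1, map_one]
  have E : Additive (Pic Y) ≃+ Additive (Pic X) :=
    AddEquiv.ofBijective (MonoidHom.toAdditive (pull e.hom)) ⟨PicInj.pull_injective_of_isIso e.hom, fun a =>
      ⟨Additive.ofMul (pull e.inv a.toMul), by
        change Additive.ofMul (pull e.hom (pull e.inv a.toMul)) = a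
        rw [← pull_comp, e.hom_inv_id, pull_id]
        rfl⟩⟩
  have El : Additive (Pic Y) ≃ₗ[ℤ] Additive (Pic X) := E.toIntLinearEquiv
  rw [hw, hdot, El.finrank_eq]
  constructor
  · rintro ⟨h3, h4, h5⟩
    exact ⟨Module.Free.of_equiv El.symm, Module.Finite.equiv El.symm, h5⟩
  · rintro ⟨h3, h4, h5⟩
    exact ⟨Module.Free.of_equiv El, Module.Finite.equiv El, h5⟩

variable [IsAlgClosed k]

/-- The Picard group of a point blow-up. -/
theorem blow_data {X Y : Scheme.{u}} {t : Y ⟶ Sp k} (h : SPS k t) (y : Y) (hy : IsClosed ({y} : Set Y)) (π : X ⟶ Y)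
    (hπ : BlowUp.IsBlowUp π (pt y hy)) : letI : X.Over (Sp k) := ⟨π ≫ t⟩; letI : Y.Over (Sp k) := ⟨t⟩
    (∀ a b : Pic Y, dot k X (pull π a) (pull π b) = dot k Y a b) ∧
      (∀ a : Pic Y, dot k X (pull π a) (ic ((pt y hy).comap π) hπ.1) = 0) ∧
      dot k X (ic ((pt y hy).comap π) hπ.1) (ic ((pt y hy).comap π) hπ.1) = -1 ∧
      (∀ a : Pic X, ∃ (b : Pic Y) (n : ℤ), a = pull π b * ic ((pt y hy).comap π) hπ.1 ^ n) ∧
      Function.Injective (pull π : Pic Y → Pic X) := by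
  letI : X.Over (Sp k) := ⟨π ≫ t⟩
  letI : Y.Over (Sp k) := ⟨t⟩
  have hX := h.blowUp y hy π hπ
  have := hX.int
  have : IsProper (X ↘ (Sp k)) := hX.proper
  have : Smooth (X ↘ (Sp k)) := hX.smooth
  have := h.int
  have : IsProper (Y ↘ (Sp k)) := h.proper
  have : Smooth (Y ↘ (Sp k)) := h.smooth
  have := h.noeth
  have hr := h.isSurf.regular y
  obtain ⟨h1, h2, h3⟩ := K465.BlowNum.dots (k := k) h.dim y hy π rfl hπ
  exact ⟨h1, h2, h3, K465.BlowNum.exists_pull (k := k) h.dim y hy π rfl hπ hX.dim,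
    PicInj.pull_injective π y hy hπ (K465.PicBlow.isParafactorialPair y hy (h.stalk_dim y hy))⟩

theorem blow_canon {X Y : Scheme.{u}} {t : Y ⟶ Sp k} (h : SPS k t) (y : Y) (hy : IsClosed ({y} : Set Y)) (π : X ⟶ Y)
    (hπ : BlowUp.IsBlowUp π (pt y hy)) {W : Y.Modules} (hW : ExtPow.IsExtPow 2 (Omega.sheaf t) W)
    (hWi : PicF.IsInvertible W) {W' : X.Modules} (hW' : ExtPow.IsExtPow 2 (Omega.sheaf (π ≫ t)) W')
    (hWi' : PicF.IsInvertible W') : mk W' hWi' * ic ((pt y hy).comap π) hπ.1 = pull π (mk W hWi) := by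
  letI : X.Over (Sp k) := ⟨π ≫ t⟩
  letI : Y.Over (Sp k) := ⟨t⟩
  have hX := h.blowUp y hy π hπ
  have := hX.int
  have : IsProper (X ↘ (Sp k)) := hX.proper
  have : Smooth (X ↘ (Sp k)) := hX.smooth
  have := h.int
  have : IsProper (Y ↘ (Sp k)) := h.proper
  have : Smooth (Y ↘ (Sp k)) := h.smooth
  have := h.noeth
  have hr := h.isSurf.regular y
  have := RRd.relDim k h.dim
  have := RRd.relDim k hX.dim
  have h6 : letI : Algebra k (Y.residueField y) := Curv2.resAlgebra k Y y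
      Module.finrank k (Y.residueField y) = 1 := K455.ResOne.finrank_residueField k Y hy
  have h7 := K455.BlowCanon.mc_eq k π rfl y hy (h.stalk_dim y hy) hπ hX.dim.le hW' hW (by rw [h6]; exact one_pos)
  rw [← Groth.Agent.Fga.PicMon.mc_tensor, Groth.Agent.Fga.PicMon.mc_eq_iff] at h7
  rw [ic, mk_mul_mk, pull_mk, mk_eq_iff]
  exact h7

theorem NF_blow {X Y : Scheme.{u}} {t : Y ⟶ Sp k} (h : SPS k t) (y : Y) (hy : IsClosed ({y} : Set Y)) (π : X ⟶ Y)
    (hπ : BlowUp.IsBlowUp π (pt y hy)) : NF k (π ≫ t) ↔ NF k t := by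
  letI : X.Over (Sp k) := ⟨π ≫ t⟩
  letI : Y.Over (Sp k) := ⟨t⟩
  have hX := h.blowUp y hy π hπ
  have := hX.int
  have : IsProper (X ↘ (Sp k)) := hX.proper
  have : Smooth (X ↘ (Sp k)) := hX.smooth
  have := h.int
  have : IsProper (Y ↘ (Sp k)) := h.proper
  have : Smooth (Y ↘ (Sp k)) := h.smooth
  obtain ⟨h1, h2, h3, h4, h5⟩ := blow_data h y hy π hπ
  have hd' : topologicalKrullDim X ≤ (2 : ℕ) := hX.dim.le
  obtain ⟨W, hW⟩ := RRd.exists_W k (X := Y)
  have hWi := RRd.isInvertible_W k h.dim hW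
  obtain ⟨W', hW'⟩ := RRd.exists_W k (X := X)
  have hWi' := RRd.isInvertible_W k hX.dim hW'
  have hw := blow_canon h y hy π hπ hW hWi hW' hWi'
  set e := ic ((pt y hy).comap π) hπ.1 with he
  rw [NF_iff hX W' hWi' hW', NF_iff h W hWi hW]
  have h2' : ∀ (a : Pic Y) (n : ℤ), dot k X (pull π a) (e ^ n) = 0 := fun a n => by
    rw [dot_zpow_right k X hd', h2, mul_zero]
  let f : (Additive (Pic Y) × ℤ) →+ Additive (Pic X) :=
    (MonoidHom.toAdditive (pull π)).coprod ((zmultiplesHom (Additive (Pic X))) (Additive.ofMul e))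
  have hf : ∀ (a : Pic Y) (n : ℤ), f (Additive.ofMul a, n) = Additive.ofMul (pull π a * e ^ n) := fun a n => rfl
  have hinj : Function.Injective f := by
    rw [injective_iff_map_eq_zero]
    rintro ⟨a, n⟩ han
    have h6 : pull π a.toMul * e ^ n = 1 := han
    have h7 : dot k X (pull π a.toMul * e ^ n) e = -n := by
      rw [dot_mul_left k X hd', h2, dot_zpow_left k X hd', h3]; ring
    rw [h6, dot_one_left] at h7
    obtain rfl : n = 0 := by omega
    rw [zpow_zero, mul_one] at h6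
    have h8 : a.toMul = 1 := h5 (by rw [h6, map_one])
    exact Prod.ext h8 rfl
  have hsurj : Function.Surjective f := by
    intro a
    obtain ⟨b, n, hb⟩ := h4 a.toMul
    exact ⟨(Additive.ofMul b, n), (hf b n).trans (congrArg Additive.ofMul hb.symm)⟩
  refine prod_iff (AddEquiv.ofBijective f ⟨hinj, hsurj⟩) _ _ ?_
  have hw' : mk W' hWi' = pull π (mk W hWi) * e⁻¹ := by rw [← hw, mul_inv_cancel_right]
  rw [hw', dot_mul_left k X hd', dot_mul_right k X hd', dot_mul_right k X hd', h1, dot_inv_right k X hd',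
    dot_inv_left k X hd', dot_inv_inv k X hd', h2, h3, dot_comm k X e, h2]
  ring

/-- `ρ + K² = 10` is a birational invariant. -/
theorem NF_bir {Z X : Scheme.{u}} {s : Z ⟶ Sp k} {t : X ⟶ Sp k} (hs : SPS k s) (ht : SPS k t)
    [IsIntegral Z] [IsIntegral X] (q : Z ⟶ X) (hqt : q ≫ t = s) (hq : Dix.ExcPts.IsBir q) : NF k s ↔ NF k t :=
  bir_iff (fun s => NF k s) NF_iso NF_blow hs ht q hqt hq

end blow

end K463.Noether
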