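import Groth.Agent.S1684
import Groth.Agent.S2821
import Groth.Agent.CycA.IntLocal
import Groth.Agent.Dix.ExcFactor
import Groth.Agent.Ega1.ReducedSub
import Groth.Agent.Divis.EffIntegral

/-!
# Reduced curves as ideals: `cl ξ`

* `cl ξ`: the ideal of the reduced closed subscheme with generic point `ξ`; `isIntegral_cl`, `ι_genericPoint`,
  `mem_support_cl`.
* `isEff_cl`: effective Cartier if `X` is regular and `ξ` has codimension one.
* `dim_cl`, `coheight_eq_two_of_isClosed`, ... : dimensions for `X` integral of finite type over a field.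
-/

set_option autoImplicit false
universe u
open CategoryTheory CategoryTheory.Limits AlgebraicGeometry Opposite TopologicalSpace

namespace K463.Cl

open Groth.Agent

local notation "Sp" k:max => Spec (CommRingCat.of k)

variable {X : Scheme.{u}}

/-- The ideal of the reduced closed subscheme with generic point `ξ`. -/
noncomputable def cl (ξ : X) : X.IdealSheafData :=
  Scheme.IdealSheafData.vanishingIdeal ⟨closure {ξ}, isClosed_closure⟩

theorem coe_support_cl (ξ : X) : ((cl ξ).support : Set X) = closure {ξ} := by
  rw [cl, Scheme.IdealSheafData.coe_support_vanishingIdeal]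
  rfl

theorem mem_support_cl {ξ x : X} : x ∈ (cl ξ).support ↔ ξ ⤳ x := by
  rw [specializes_iff_mem_closure, ← coe_support_cl]; rfl

theorem range_cl (ξ : X) : Set.range (cl ξ).subschemeι = closure {ξ} := by
  rw [Scheme.IdealSheafData.range_subschemeι, coe_support_cl]

instance isIntegral_cl (ξ : X) : IsIntegral (cl ξ).subscheme := by
  have hred : IsReduced (cl ξ).subscheme := Ega1.ReducedSub.isReduced_subscheme_vanishingIdeal _
  have hcl : Topology.IsClosedEmbedding (cl ξ).subschemeι := (cl ξ).subschemeι.isClosedEmbedding
  have hirr : IrreducibleSpace (cl ξ).subscheme := by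
    have h1 : IsIrreducible (Set.range (cl ξ).subschemeι) := by
      rw [range_cl]; exact isIrreducible_singleton.closure
    have := Subtype.irreducibleSpace h1
    exact hcl.isEmbedding.toHomeomorph.irreducibleSpace_iff.mpr this
  exact isIntegral_of_irreducibleSpace_of_isReduced _

theorem ι_genericPoint (ξ : X) : (cl ξ).subschemeι (genericPoint (cl ξ).subscheme) = ξ := by
  have hcl : Topology.IsClosedEmbedding (cl ξ).subschemeι := (cl ξ).subschemeι.isClosedEmbedding
  have h1 : IsGenericPoint ((cl ξ).subschemeι (genericPoint (cl ξ).subscheme)) (closure {ξ}) := by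
    rw [← range_cl, ← Set.image_univ]
    have h3 : closure {genericPoint (cl ξ).subscheme} = Set.univ := genericPoint_closure _
    rw [← h3, IsGenericPoint, ← hcl.closure_image_eq, Set.image_singleton]
  exact h1.eq isGenericPoint_closure

theorem ι_specializes (ξ : X) (z : (cl ξ).subscheme) : ξ ⤳ (cl ξ).subschemeι z := by
  rw [specializes_iff_mem_closure, ← range_cl]
  exact ⟨z, rfl⟩

theorem isEff_cl [IsLocallyNoetherian X] (hreg : ∀ x : X, IsRegularLocalRing (X.presheaf.stalk x)) {ξ : X}
    (h : Order.coheight ξ = 1) : BlowUp.IsEffCartierIdeal (cl ξ) := by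
  refine S1684.result X (cl ξ) ?_ fun x _ => ?_
  · rw [ι_genericPoint, ringKrullDim_stalk_eq_coheight, h]; rfl
  · have := hreg x
    exact S2821.result _

/-- An integral effective Cartier ideal is `cl` of its generic point. -/
theorem eq_cl (K : X.IdealSheafData) [IsIntegral K.subscheme] :
    K = cl (K.subschemeι (genericPoint K.subscheme)) := by
  have h := Ega1.ReducedSub.ker_eq_vanishingIdeal K.subschemeι
  rw [Scheme.IdealSheafData.ker_subschemeι] at h
  refine h.trans ?_
  rw [cl]
  congr 1
  apply TopologicalSpace.Closeds.ext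
  change closure (Set.range K.subschemeι) = closure {K.subschemeι (genericPoint K.subscheme)}
  have hcl : Topology.IsClosedEmbedding K.subschemeι := K.subschemeι.isClosedEmbedding
  have h3 : closure {genericPoint K.subscheme} = Set.univ := genericPoint_closure _
  rw [hcl.isClosed_range.closure_eq, ← Set.image_univ, ← h3, ← hcl.closure_image_eq, Set.image_singleton]

section dim

variable {k : Type u} [Field k]

/-- The dimension formula. -/
theorem dims [IsIntegral X] (p : X ⟶ Sp k) [LocallyOfFiniteType p] (hd : topologicalKrullDim X = 2) (x : X) :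
    ∃ a t : ℕ, Order.coheight x = a ∧ topologicalKrullDim (closure {x} : Set X) = t ∧ a + t = 2 := by
  obtain ⟨a, t, n, h1, -, h3, h4, h5⟩ := CycA.IntLocal.exists_dims p x
  rw [hd] at h4
  rw [ringKrullDim_stalk_eq_coheight] at h1
  refine ⟨a, t, WithBot.coe_injective h1, h3, ?_⟩
  rw [h5]
  exact_mod_cast h4.symm

theorem dim_cl [IsIntegral X] (p : X ⟶ Sp k) [LocallyOfFiniteType p] (hd : topologicalKrullDim X = 2) {ξ : X}
    (h : Order.coheight ξ = 1) : topologicalKrullDim (closure {ξ} : Set X) = 1 := by
  obtain ⟨a, t, h1, h2, h3⟩ := dims p hd ξ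
  rw [h] at h1
  have h4 : a = 1 := by exact_mod_cast h1.symm
  have h5 : t = 1 := by omega
  rw [h2, h5]; rfl

theorem coheight_le [IsIntegral X] (p : X ⟶ Sp k) [LocallyOfFiniteType p] (hd : topologicalKrullDim X = 2) (x : X) :
    Order.coheight x ≤ 2 := by
  obtain ⟨a, t, h1, h2, h3⟩ := dims p hd x
  rw [h1]
  exact_mod_cast (by omega : a ≤ 2)

end dim

end K463.Cl
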