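import Groth.Agent.Surf.K463.HC
import Groth.Agent.VarietyA.RegPoint
import Groth.Agent.CurvesB.HZero
import Groth.Agent.Divis.CartierBasic

/-!
# Members of a linear system singular at a point

* `exists_double`: if `h⁰(L) ≥ 4` on a surface, some member of `|L|` has multiplicity at least two at a given regular
  closed point.
* `not_mem_sq`: a divisor whose local ring at the point has principal maximal ideal has multiplicity at most one.
-/

set_option autoImplicit false
set_option linter.unusedSectionVars false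
universe u
open CategoryTheory CategoryTheory.Limits AlgebraicGeometry Opposite TopologicalSpace IsLocalRing

namespace K463.Double

open Groth.Agent Groth.Agent.Grpsch.PicGrp K464.Base Groth.Agent.Fdesc.LocGen Groth.Agent.Divis.CartierBasic K463.HC

local notation "Sp" k:max => Spec (CommRingCat.of k)

section alg

theorem exists_expand {k R : Type*} [Field k] [CommRing R] [IsLocalRing R] (φ : k →+* R)
    (hφ : ∀ a : R, ∃ c : k, a - φ c ∈ maximalIdeal R) (x y : R) (hxy : maximalIdeal R = Ideal.span {x, y}) (a : R) :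
    ∃ c : Fin 3 → k, a - (φ (c 0) + φ (c 1) * x + φ (c 2) * y) ∈ maximalIdeal R ^ 2 := by
  obtain ⟨c0, h0⟩ := hφ a
  rw [hxy, Ideal.mem_span_pair] at h0
  obtain ⟨r, s, hrs⟩ := h0
  obtain ⟨c1, h1⟩ := hφ r
  obtain ⟨c2, h2⟩ := hφ s
  have hx : x ∈ maximalIdeal R := by rw [hxy]; exact Ideal.subset_span (by simp)
  have hy : y ∈ maximalIdeal R := by rw [hxy]; exact Ideal.subset_span (by simp)
  refine ⟨![c0, c1, c2], ?_⟩
  change a - (φ c0 + φ c1 * x + φ c2 * y) ∈ maximalIdeal R ^ 2
  have h3 : a - (φ c0 + φ c1 * x + φ c2 * y) = (r - φ c1) * x + (s - φ c2) * y := by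
    linear_combination -hrs
  rw [h3, pow_two]
  exact Ideal.add_mem _ (Ideal.mul_mem_mul h1 hx) (Ideal.mul_mem_mul h2 hy)

theorem exists_comb {k R : Type*} [Field k] [CommRing R] [IsLocalRing R] (φ : k →+* R)
    (hφ : ∀ a : R, ∃ c : k, a - φ c ∈ maximalIdeal R) (x y : R) (hxy : maximalIdeal R = Ideal.span {x, y})
    {V : Type*} [AddCommGroup V] [Module k V] (hV : 4 ≤ Module.finrank k V) (f : V →+ R)
    (hf : ∀ (c : k) (v : V), f (c • v) = φ c * f v) : ∃ v : V, v ≠ 0 ∧ f v ∈ maximalIdeal R ^ 2 := by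
  obtain ⟨b, hb⟩ := exists_linearIndependent_of_le_finrank hV
  choose c hc using fun i : Fin 4 => exists_expand φ hφ x y hxy (f (b i))
  have hnl : ¬ LinearIndependent k c := by
    intro h
    have := h.fintype_card_le_finrank
    simp at this
  obtain ⟨g, hg, i, hi⟩ := Fintype.not_linearIndependent_iff.mp hnl
  refine ⟨∑ i, g i • b i, fun h0 => hi (Fintype.linearIndependent_iff.mp hb g h0 i), ?_⟩
  have hg' : ∀ j : Fin 3, ∑ i, g i * c i j = 0 := fun j => by
    have := congrFun hg j
    simpa [Finset.sum_apply] using this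
  have h1 : f (∑ i, g i • b i) = ∑ i, φ (g i) * (f (b i) - (φ (c i 0) + φ (c i 1) * x + φ (c i 2) * y)) := by
    have h2 : ∑ i, φ (g i) * (f (b i) - (φ (c i 0) + φ (c i 1) * x + φ (c i 2) * y)) =
        ∑ i, φ (g i) * f (b i) - (φ (∑ i, g i * c i 0) + φ (∑ i, g i * c i 1) * x + φ (∑ i, g i * c i 2) * y) := by
      simp only [map_sum, map_mul, Finset.sum_mul, ← Finset.sum_add_distrib, ← Finset.sum_sub_distrib]
      refine Finset.sum_congr rfl fun i _ => ?_
      ring
    rw [h2, hg', hg', hg', map_zero, map_sum]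
    simp only [hf]
    ring
  rw [h1]
  exact Ideal.sum_mem _ fun i _ => Ideal.mul_mem_left _ _ (hc i)

/-- A regular local ring of dimension two has no element `h` in the square of its maximal ideal with a quotient
whose maximal ideal is principal. -/
theorem not_mem_sq {R : Type*} [CommRing R] [IsRegularLocalRing R] (hdim : ringKrullDim R = 2) (h : R)
    (hprin : ∃ t : R, maximalIdeal R = Ideal.span {t} ⊔ Ideal.span {h}) : h ∉ maximalIdeal R ^ 2 := by
  intro hh
  obtain ⟨t, ht⟩ := hprin
  have h1 : maximalIdeal R ≤ Ideal.span {t} ⊔ maximalIdeal R • maximalIdeal R := by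
    conv_lhs => rw [ht]
    refine sup_le_sup_left ?_ _
    rw [Ideal.span_singleton_le_iff_mem, smul_eq_mul, ← pow_two]
    exact hh
  have h2 : maximalIdeal R ≤ Ideal.span {t} :=
    Submodule.le_of_le_smul_of_le_jacobson_bot (IsNoetherian.noetherian _) (IsLocalRing.maximalIdeal_le_jacobson _) h1
  have h3 : maximalIdeal R = Ideal.span {t} := le_antisymm h2 (by rw [ht]; exact le_sup_left)
  have h4 := IsRegularLocalRing.spanFinrank_maximalIdeal (R := R)
  rw [hdim, h3] at h4
  have h5 : (Ideal.span {t} : Ideal R).spanFinrank ≤ 1 := by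
    have := Submodule.spanFinrank_span_le_ncard_of_finite (R := R) (s := ({t} : Set R)) (Set.finite_singleton t)
    rwa [Set.ncard_singleton] at this
  have h6 : (Ideal.span {t} : Ideal R).spanFinrank = 2 := by exact_mod_cast h4
  omega

theorem exists_two {R : Type*} [CommRing R] [IsRegularLocalRing R] (hdim : ringKrullDim R = 2) :
    ∃ x y : R, maximalIdeal R = Ideal.span {x, y} := by
  classical
  have h4 := IsRegularLocalRing.spanFinrank_maximalIdeal (R := R)
  rw [hdim] at h4
  have h6 : (maximalIdeal R).spanFinrank = 2 := by exact_mod_cast h4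
  obtain ⟨s, hs, hspan⟩ := Submodule.FG.exists_span_finset_card_eq_spanFinrank
    (IsNoetherian.noetherian (maximalIdeal R))
  rw [h6, Finset.card_eq_two] at hs
  obtain ⟨x, y, -, rfl⟩ := hs
  refine ⟨x, y, ?_⟩
  rw [← hspan, Finset.coe_pair]

end alg

section geom

variable (k : Type u) [Field k] {X : Scheme.{u}} [X.Over (Sp k)] [IsProper (X ↘ (Sp k))] [IsIntegral X]

/-- The divisor of a nonzero section, with its local equation. -/
theorem exists_divisor' {M : X.Modules} (hM : PicF.IsInvertible M) (s : Γ(M, ⊤)) (hs : s ≠ 0) :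
    ∃ D : X.IdealSheafData, BlowUp.IsEffCartierIdeal D ∧ ClSub.IsInverseOf M (ClSub.idealMod D) ∧
      ∀ (U : X.affineOpens) (e : Γ(M, U.1)) (a : Γ(X, U.1)), IsGen e →
        res M le_top s = a • e → D.ideal U = Ideal.span {a} := by
  have key : ∀ (U : X.affineOpens) (e : Γ(M, U.1)) (a : Γ(X, U.1)), IsGen e →
      res M le_top s = a • e → a ∈ nonZeroDivisors Γ(X, U.1) := by
    intro U e a he hr
    by_cases hU : Nonempty U.1
    · obtain ⟨x, hx⟩ := hU
      have : Nonempty U.1 := ⟨⟨x, hx⟩⟩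
      rw [mem_nonZeroDivisors_iff_ne_zero]
      rintro rfl
      rw [zero_smul] at hr
      exact hs (K456.SecTriv.eq_zero_of_res hM le_top hx s hr)
    · have h0 : Subsingleton Γ(X, U.1) := by
        have h1 : U.1 = ⊥ := by
          ext x
          exact ⟨fun hx => (hU ⟨⟨x, hx⟩⟩).elim, fun hx => hx.elim⟩
        rw [h1]
        infer_instance
      rw [mem_nonZeroDivisors_iff]
      exact ⟨fun _ _ => Subsingleton.elim _ _, fun _ _ => Subsingleton.elim _ _⟩
  exact Models.H38.SecDiv.exists_divisor hM s key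

variable [IsAlgClosed k]

theorem exists_sub_mem {x : X} (hx : IsClosed ({x} : Set X)) (a : X.presheaf.stalk x) :
    ∃ c : k, a - Curv2.stalkMap k X x c ∈ IsLocalRing.maximalIdeal (X.presheaf.stalk x) := by
  obtain ⟨c, hc⟩ := VarietyA.RegPoint.resMap_surjective k X hx ((X.residue x) a)
  refine ⟨c, ?_⟩
  rw [← IsLocalRing.residue_eq_zero_iff, map_sub, sub_eq_zero]
  exact hc.symm

theorem exists_double {L : X.Modules} (hL : PicF.IsInvertible L) (p : X) (hp : IsClosed ({p} : Set X))
    (hreg : IsRegularLocalRing (X.presheaf.stalk p)) (hdim : ringKrullDim (X.presheaf.stalk p) = 2)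
    (h4 : 4 ≤ Module.finrank k (Coh.HH X L 0)) :
    ∃ (D : X.IdealSheafData) (hD : BlowUp.IsEffCartierIdeal D), mk L hL = (ic D hD)⁻¹ ∧
      stalkIdeal D p ≤ maximalIdeal (X.presheaf.stalk p) ^ 2 := by
  obtain ⟨V, e₀, hpV, he₀⟩ := (isInvertible_iff L).1 hL p
  obtain ⟨U, hpU, hUV⟩ := Dix.IdealModCartier.exists_affine_mem_le V p hpV
  set e := res L hUV e₀ with he
  have heg : IsGen e := he₀.res hUV
  -- the coordinate of a section
  let E : Γ(X, U.1) ≃ₗ[Γ(X, U.1)] Γ(L, U.1) :=
    LinearEquiv.ofBijective (LinearMap.toSpanSingleton Γ(X, U.1) Γ(L, U.1) e) heg.bijective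
  have hE : ∀ a, E a = a • e := fun a => rfl
  let α : Γ(L, ⊤) →+ Γ(X, U.1) := E.symm.toAddEquiv.toAddMonoidHom.comp (res L le_top)
  have hα : ∀ s : Γ(L, ⊤), res L le_top s = α s • e := fun s => by
    rw [← hE]
    exact (E.apply_symm_apply _).symm
  have hαs : ∀ (r : Γ(X, ⊤)) (s : Γ(L, ⊤)), α (r • s) = ores le_top r * α s := fun r s => by
    apply heg.ext
    rw [← hα, res_smul, hα s, mul_smul]
  let f : Coh.HH X L 0 →+ X.presheaf.stalk p :=
    ((X.presheaf.germ U.1 p hpU).hom.toAddMonoidHom.comp α).comp (CurvesB.HZero.equivAdd L).toAddMonoidHom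
  have hf : ∀ x, f x = (X.presheaf.germ U.1 p hpU).hom (α (CurvesB.HZero.equivAdd L x)) := fun x => rfl
  have hfs : ∀ (c : k) (v : Coh.HH X L 0), f (c • v) = Curv2.stalkMap k X p c * f v := by
    intro c v
    rw [hf, hf, CurvesB.HZero.equivAdd_smul_over, hαs, map_mul]
    congr 1
    exact (TopCat.Presheaf.germ_res_apply X.presheaf (homOfLE le_top) p hpU _)
  obtain ⟨x, y, hxy⟩ := exists_two hdim
  obtain ⟨v, hv, hfv⟩ := exists_comb (Curv2.stalkMap k X p)
    (exists_sub_mem k hp) x y hxy h4 f hfs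
  have hs : CurvesB.HZero.equivAdd L v ≠ 0 := fun h => hv ((CurvesB.HZero.equivAdd L).map_eq_zero_iff.mp h)
  obtain ⟨D, h1, h2, h3⟩ := exists_divisor' hL _ hs
  refine ⟨D, h1, mk_eq_ic_inv h2 hL h1, ?_⟩
  rw [stalkIdeal_eq D U hpU, h3 U e _ heg (hα _), Ideal.map_span, Set.image_singleton, Ideal.span_singleton_le_iff_mem]
  exact hfv

end geom

end K463.Double
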