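import Groth.Agent.Pic13.H970.IntForm
import Groth.Agent.Pic13.H950.NumCl
import Groth.Agent.Dix.IdealModCartier
import Groth.Agent.Fga.MultInt
import Groth.Agent.Fga.HodgeIneq
import Groth.Agent.Pic13.H960.NumDescent
import Groth.Agent.VarietyB.DegCartier

/-!
# The intersection form on the Picard group of a proper surface

`X` proper over the field `k`, `dim X ≤ 2`.

* `bil k X hd : Additive (Pic X) →+ Additive (Pic X) →+ ℤ`, symmetric (`bil_symm`), `intNum_eq_bil`;
* `bil_ideal`: `(I_K · L) = intNum ![L] (O_K)`; `bil_curve`: for a closed curve with invertible ideal `I`,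
  `(I · a) = - deg_C a`;
* `hodge`: the Hodge inequality `M² N² ≤ (M N)²` for a class `M` with a nonzero section and positive square.
-/

set_option autoImplicit false
universe u
open CategoryTheory CategoryTheory.Limits AlgebraicGeometry Opposite

namespace K463.Form

open Groth.Agent Groth.Agent.Grpsch.PicGrp Groth.Agent.Pic13.H970 Groth.Agent.Pic13.H950.NumCl
open Groth.Agent.Fga

local notation "Sp" k:max => Spec (CommRingCat.of k)

theorem dim_support_le (X : Scheme.{u}) {d : ℕ} (hd : topologicalKrullDim X ≤ d) (F : X.Modules) :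
    topologicalKrullDim (CohB1.support F) ≤ d :=
  Topology.IsInducing.subtypeVal.topologicalKrullDim_le.trans hd

variable (k : Type u) [Field k] (X : Scheme.{u}) [X.Over (Sp k)] [IsProper (X ↘ (Sp k))]
  (hd : topologicalKrullDim X ≤ (2 : ℕ))

/-- The intersection form on the Picard group: `(A · B) = χ(O) - χ(A) - χ(B) + χ(A ⊗ B)`. -/
noncomputable def bil : Additive (Pic X) →+ Additive (Pic X) →+ ℤ :=
  IntForm.form k X 2 hd (Coh.structureModule X) (CurvesB.UnitCoh.isCoh_structureModule X)
    (r := 0) (dim_support_le X hd _) Fin.elim0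

theorem bil_symm (a b : Additive (Pic X)) : bil k X hd a b = bil k X hd b a :=
  IntForm.form_symm k X 2 hd _ _ _ _ a b

theorem bil_apply (a b : Pic X) : bil k X hd (Additive.ofMul a) (Additive.ofMul b) =
    IntForm.I k X 2 (Coh.structureModule X) (Fin.cons a (Fin.cons b Fin.elim0 : Fin 1 → Pic X) : Fin 2 → Pic X) :=
  IntForm.I_cons_inv_inv k X 2 hd _ (CurvesB.UnitCoh.isCoh_structureModule X) a b (r := 0) Fin.elim0
    (dim_support_le X hd _)

theorem intNum_eq_bil {A B : X.Modules} (hA : PicF.IsInvertible A) (hB : PicF.IsInvertible B) :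
    FGA.intNum k X 2 ![A, B] (Coh.structureModule X) =
      bil k X hd (Additive.ofMul (mk A hA)) (Additive.ofMul (mk B hB)) := by
  rw [bil_apply, IntForm.intNum_eq k X 2 _ ![A, B] (fun i => by fin_cases i; exacts [hA, hB])]
  congr 1
  funext i
  fin_cases i <;> rfl

theorem bil_inv_left (a b : Pic X) : bil k X hd (Additive.ofMul a⁻¹) (Additive.ofMul b) =
    - bil k X hd (Additive.ofMul a) (Additive.ofMul b) := by
  rw [ofMul_inv, map_neg]; rfl

theorem bil_inv_right (a b : Pic X) : bil k X hd (Additive.ofMul a) (Additive.ofMul b⁻¹) =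
    - bil k X hd (Additive.ofMul a) (Additive.ofMul b) := by
  rw [ofMul_inv, map_neg]

/-- `(I_K · L) = intNum ![L] (O_K)`. -/
theorem bil_ideal (K : X.IdealSheafData) (hK : PicF.IsInvertible (ClSub.idealMod K)) {L : X.Modules}
    (hL : PicF.IsInvertible L) :
    bil k X hd (Additive.ofMul (mk _ hK)) (Additive.ofMul (mk L hL)) = FGA.intNum k X 2 ![L] (ClSub.quotMod K) := by
  have hM : ∀ i, PicF.IsInvertible ((![L] : Fin 1 → X.Modules) i) := fun i => by fin_cases i; exact hL
  have h1 : FGA.intNum k X 2 ![ClSub.idealMod K, L] (Coh.structureModule X) =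
      FGA.intNum k X 2 ![L] (Coh.structureModule X) -
        FGA.intNum k X 2 ![L] (CohB1.tensorMod (ClSub.idealMod K) (Coh.structureModule X)) :=
    PicMon.intNum_cons k X 2 (ClSub.idealMod K) ![L] (Coh.structureModule X)
  have h2 := IntAdd.isAdd_intNum k X 2 hd ![L] hM (VarietyB.DegCartier.idealSeq K)
    (VarietyB.DegCartier.idealSeq_shortExact K) (HodgeSec.isCoh_of_isInvertible hK)
    (CurvesB.UnitCoh.isCoh_structureModule X) (VarietyB.DegCartier.isCoh_quotMod K)
  replace h2 : FGA.intNum k X 2 ![L] (Coh.structureModule X) = FGA.intNum k X 2 ![L] (ClSub.idealMod K) +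
    FGA.intNum k X 2 ![L] (ClSub.quotMod K) := h2
  rw [← intNum_eq_bil, h1, PicMon.intNum_iso k X 2 ![L] (Ega2.Tens.runit (ClSub.idealMod K)), h2]
  ring

/-- The curve given by a quasi-coherent ideal. -/
noncomputable def curveOf {X : Scheme.{u}} (K : X.IdealSheafData) (hK : IsIntegral K.subscheme)
    (h1 : topologicalKrullDim (K.support : Set X) = 1) : Curve X where
  Y := K.subscheme
  ι := K.subschemeι
  closed := inferInstance
  integral := hK
  dim := by
    rw [← h1, ← K.range_subschemeι]
    exact (K.subschemeι.isClosedEmbedding.isEmbedding.toHomeomorph).isHomeomorph.topologicalKrullDim_eq _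

theorem bil_curve (K : X.IdealSheafData) (hK : PicF.IsInvertible (ClSub.idealMod K))
    (hKi : IsIntegral K.subscheme) (hK1 : topologicalKrullDim (K.support : Set X) = 1) (a : Pic X) :
    bil k X hd (Additive.ofMul (mk _ hK)) (Additive.ofMul a) = - dgc k X (curveOf K hKi hK1) a := by
  induction a using ind with | _ L hL => ?_
  rw [bil_ideal k X hd K hK hL, dgc_mk]
  let _ : K.subscheme.Over (Sp k) := ⟨K.subschemeι ≫ (X ↘ (Sp k))⟩
  have hp : IsProper (K.subscheme ↘ (Sp k)) := inferInstanceAs (IsProper (K.subschemeι ≫ (X ↘ (Sp k))))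
  have hdim : topologicalKrullDim K.subscheme = 1 := (curveOf K hKi hK1).dim
  have h1 := MultInt.intNum_push k K.subschemeι rfl 2 ![L] (fun i => by fin_cases i; exact hL)
    (Coh.structureModule K.subscheme)
  have h2 := Pic13.H960.NumDescent.intNum_dim_congr k K.subscheme 2 1 (hdim.le.trans (by decide)) hdim.le
    (fun j => (Scheme.Modules.pullback K.subschemeι).obj ((![L] : Fin 1 → X.Modules) j))
    (Coh.structureModule K.subscheme)
  exact h1.trans (h2.trans (Pic13.H960.NumDescent.intNum_restrict k X K.subscheme K.subschemeι L))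

theorem mk_inverse {M M' : X.Modules} (hM : PicF.IsInvertible M) (hM' : PicF.IsInvertible M')
    (e : Nonempty (CohB1.tensorMod M M' ≅ Coh.structureModule X)) : mk M' hM' = (mk M hM)⁻¹ := by
  apply eq_inv_of_mul_eq_one_right
  rw [mk_mul_mk, mk_eq_one_iff]
  exact e

/-- **Hodge index inequality.** -/
theorem hodge [IsIntegral X] {M : X.Modules} (hM : PicF.IsInvertible M) (s : Coh.structureModule X ⟶ M) (hs : s ≠ 0)
    (hpos : 0 < bil k X hd (Additive.ofMul (mk M hM)) (Additive.ofMul (mk M hM))) (v : Additive (Pic X)) :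
    bil k X hd (Additive.ofMul (mk M hM)) (Additive.ofMul (mk M hM)) * bil k X hd v v ≤
      (bil k X hd (Additive.ofMul (mk M hM)) v) ^ 2 := by
  obtain ⟨a, ha⟩ : ∃ a : Pic X, v = Additive.ofMul a := ⟨v.toMul, rfl⟩
  rw [ha]
  clear ha v
  induction a using ind with | _ N hN => ?_
  obtain ⟨M', hM', eM⟩ := exists_inverse hM
  obtain ⟨N', hN', eN⟩ := exists_inverse hN
  have h := HodgeIneq.hodge_ineq k X hd M M' N N' hM hM' hN hN' eM eN s hs
  rw [intNum_eq_bil k X hd hM' hM', intNum_eq_bil k X hd hN' hN', intNum_eq_bil k X hd hM' hN',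
    mk_inverse X hM hM' eM, mk_inverse X hN hN' eN] at h
  simp only [bil_inv_left, bil_inv_right, neg_neg] at h
  exact h hpos

end K463.Form
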