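import Mathlib.LinearAlgebra.Matrix.ToLin
import Mathlib.LinearAlgebra.InvariantBasisNumber
import Mathlib.LinearAlgebra.FreeModule.StrongRankCondition
import Mathlib.LinearAlgebra.Dimension.StrongRankCondition
import Mathlib.Algebra.BigOperators.GroupWithZero.Action
import Mathlib.Data.Int.Order.Lemmas
import Mathlib.Tactic.Linarith
import Mathlib.Tactic.Ring
import Mathlib.Tactic.NormNum
import Mathlib.Tactic.Positivity

/-!
# Integral symmetric forms: negative definiteness of configurations of curves

* `neg_of_hodge`: in a lattice of hyperbolic type (Hodge inequality for a class `M` of positive square), a class `D`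
  orthogonal to `M` and not orthogonal to some class `A` has negative square.
* `gram`: a family with non-negative off-diagonal products such that non-negative nonzero combinations have negative
  square is linearly independent modulo the orthogonal of the family.
* `card_le`: the resulting bound of the number of elements of such a family.
-/

set_option autoImplicit false

namespace K463.Gram

variable {V : Type*} [AddCommGroup V] (B : V →+ V →+ ℤ)

theorem neg_of_hodge (hs : ∀ v w, B v w = B w v) (M A D : V) (hM : 0 < B M M)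
    (hodge : ∀ N, B M M * B N N ≤ (B M N) ^ 2) (hMD : B M D = 0) (hAD : B A D ≠ 0) : B D D < 0 := by
  have h1 : B M M * B D D ≤ 0 := by have := hodge D; rw [hMD] at this; simpa using this
  have h2 : B D D ≤ 0 := by
    by_contra hcon
    push Not at hcon
    have := mul_pos hM hcon
    omega
  refine lt_of_le_of_ne h2 fun h0 => ?_
  set A' : V := B M M • A - B A M • M with hA'
  have e1 : B M A' = 0 := by
    rw [hA', map_sub, map_zsmul, map_zsmul, smul_eq_mul, smul_eq_mul, hs A M]; ring
  have e2 : B D A' = B M M * B A D := by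
    rw [hA', map_sub, map_zsmul, map_zsmul, smul_eq_mul, smul_eq_mul, hs D M, hMD, hs D A]; ring
  have e3 : B D A' ≠ 0 := by rw [e2]; exact mul_ne_zero hM.ne' hAD
  have key : ∀ m : ℤ, B A' A' + 2 * m * B D A' ≤ 0 := by
    intro m
    have h3 := hodge (A' + m • D)
    have e4 : B M (A' + m • D) = 0 := by rw [map_add, e1, map_zsmul, hMD]; simp
    have e5 : B (A' + m • D) (A' + m • D) = B A' A' + 2 * m * B D A' := by
      simp only [map_add, AddMonoidHom.add_apply, map_zsmul, AddMonoidHom.zsmul_apply, smul_eq_mul, h0, hs A' D]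
      ring
    rw [e4, e5] at h3
    by_contra hcon
    push Not at hcon
    have := mul_pos hM hcon
    simp only [ne_eq, OfNat.ofNat_ne_zero, not_false_eq_true, zero_pow] at h3
    omega
  rcases lt_or_gt_of_ne e3 with h | h
  · have := key (-(|B A' A'| + 1))
    have h4 := neg_abs_le (B A' A')
    nlinarith [abs_nonneg (B A' A')]
  · have := key (|B A' A'| + 1)
    have h4 := neg_abs_le (B A' A')
    nlinarith [abs_nonneg (B A' A')]

section

variable {ι : Type*} [Fintype ι] (e : ι → V)

theorem sum_sum (a b : ι → ℤ) : B (∑ i, a i • e i) (∑ j, b j • e j) = ∑ i, ∑ j, a i * b j * B (e i) (e j) := by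
  rw [map_sum B, AddMonoidHom.finsetSum_apply]
  refine Finset.sum_congr rfl fun i _ => ?_
  rw [map_sum]
  refine Finset.sum_congr rfl fun j _ => ?_
  rw [map_zsmul B, AddMonoidHom.zsmul_apply, map_zsmul, smul_eq_mul, smul_eq_mul]
  ring

/-- Non-negative combinations with disjoint supports have non-negative product. -/
theorem nonneg_of_disjoint (hoff : ∀ i j, i ≠ j → 0 ≤ B (e i) (e j)) (a b : ι → ℤ) (ha : ∀ i, 0 ≤ a i)
    (hb : ∀ i, 0 ≤ b i) (hab : ∀ i, a i * b i = 0) : 0 ≤ B (∑ i, a i • e i) (∑ i, b i • e i) := by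
  rw [sum_sum]
  refine Finset.sum_nonneg fun i _ => Finset.sum_nonneg fun j _ => ?_
  by_cases h : i = j
  · subst h; rw [hab i, zero_mul]
  · exact mul_nonneg (mul_nonneg (ha i) (hb j)) (hoff i j h)

theorem gram (hs : ∀ v w, B v w = B w v) (hoff : ∀ i j, i ≠ j → 0 ≤ B (e i) (e j))
    (hneg : ∀ b : ι → ℤ, (∀ i, 0 ≤ b i) → b ≠ 0 → B (∑ i, b i • e i) (∑ i, b i • e i) < 0)
    (a : ι → ℤ) (ha : ∀ j, B (∑ i, a i • e i) (e j) = 0) : a = 0 := by
  have hz : ∀ c : ι → ℤ, B (∑ i, a i • e i) (∑ i, c i • e i) = 0 := by
    intro c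
    rw [map_sum]
    refine Finset.sum_eq_zero fun j _ => ?_
    rw [map_zsmul, ha j, smul_zero]
  have hsplit : ∀ i, a i = max (a i) 0 - max (-a i) 0 := fun i => by
    rcases le_total 0 (a i) with h | h
    · rw [max_eq_left h, max_eq_right (by omega)]; omega
    · rw [max_eq_right h, max_eq_left (by omega)]; omega
  have hdisj : ∀ i, max (a i) 0 * max (-a i) 0 = 0 := fun i => by
    rcases le_total 0 (a i) with h | h
    · rw [max_eq_right (b := (0 : ℤ)) (a := -a i) (by omega), mul_zero]
    · rw [max_eq_right h, zero_mul]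
  have hsum : (∑ i, a i • e i) = (∑ i, max (a i) 0 • e i) - ∑ i, max (-a i) 0 • e i := by
    rw [← Finset.sum_sub_distrib]
    refine Finset.sum_congr rfl fun i _ => ?_
    rw [← sub_smul, ← hsplit i]
  have hnn := nonneg_of_disjoint B e hoff (fun i => max (a i) 0) (fun i => max (-a i) 0) (fun i => le_max_right _ _)
    (fun i => le_max_right _ _) hdisj
  have h1 := hz fun i => max (a i) 0
  have h2 := hz fun i => max (-a i) 0
  rw [hsum, map_sub, AddMonoidHom.sub_apply] at h1 h2
  have hp : (fun i => max (a i) 0) = 0 := by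
    by_contra hcon
    have := hneg _ (fun i => le_max_right _ _) hcon
    rw [hs (∑ i, max (-a i) 0 • e i)] at h1
    omega
  have hq : (fun i => max (-a i) 0) = 0 := by
    by_contra hcon
    have := hneg _ (fun i => le_max_right _ _) hcon
    omega
  funext i
  have h3 := congrFun hp i
  have h4 := congrFun hq i
  simp only [Pi.zero_apply] at h3 h4 ⊢
  rw [hsplit i, h3, h4, sub_zero]

/-- The number of elements of such a family is at most the number of linear forms needed to detect the radical. -/
theorem card_le (hs : ∀ v w, B v w = B w v) (hoff : ∀ i j, i ≠ j → 0 ≤ B (e i) (e j))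
    (hneg : ∀ b : ι → ℤ, (∀ i, 0 ≤ b i) → b ≠ 0 → B (∑ i, b i • e i) (∑ i, b i • e i) < 0)
    {p : ℕ} (φ : V →+ (Fin p → ℤ)) (hφ : ∀ v, φ v = 0 → ∀ j, B v (e j) = 0) : Fintype.card ι ≤ p := by
  let f : (ι → ℤ) →ₗ[ℤ] (Fin p → ℤ) :=
    φ.toIntLinearMap.comp (Fintype.linearCombination ℤ e)
  have hf : Function.Injective f := by
    rw [← LinearMap.ker_eq_bot, LinearMap.ker_eq_bot']
    intro a ha
    have h1 : φ (∑ i, a i • e i) = 0 := ha
    exact gram B e hs hoff hneg a (hφ _ h1)
  simpa using card_le_of_injective ℤ f hf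

end

end K463.Gram
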