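import Groth.Agent.Surf.K463.Cl
import Groth.Agent.Surf.K463.Form
import Groth.Agent.Surf.K463.Gram
import Groth.Agent.Dix.InterSurf
import Groth.Agent.Pic13.H960.NumDescent
import Groth.Agent.Pic13.H945.DegAmple
import Groth.Agent.Pic13.H967.NoSec
import Groth.Agent.Fga.HodgeAsm
import Groth.Agent.Ega1.AmpFam
import Groth.Agent.Sga5.AmpleFib
import Groth.Agent.S3233

/-!
# Degrees on curves of a surface; contracted curves

`X` proper over the field `k`.

* `dgc_pull_eq_zero`: pullbacks from `Z` have degree zero on a curve contracted to a point of `Z`.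
* `dgc_ideal_nonpos`: `deg_C I ≤ 0` for an effective Cartier ideal not containing `C`.
* `dgc_ample_pos`.
-/

set_option autoImplicit false
universe u
open CategoryTheory CategoryTheory.Limits AlgebraicGeometry Opposite TopologicalSpace

namespace K463.Exc

open Groth.Agent Groth.Agent.Grpsch.PicGrp Groth.Agent.Pic13.H950.NumCl K463.Cl

local notation "Sp" k:max => Spec (CommRingCat.of k)

theorem pull_eq_one {E Z : Scheme.{u}} (q : E ⟶ Z) (y : Z) (hq : ∀ e, q e = y) (a : Pic Z) : pull q a = 1 := by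
  induction a using ind with | _ M hM => ?_
  rw [pull_mk, mk_eq_one_iff]
  obtain ⟨U, hyU, ⟨e⟩⟩ := hM y
  have hr : Set.range q ⊆ Set.range U.ι := by
    rw [Scheme.Opens.range_ι]
    rintro _ ⟨z, rfl⟩
    rw [hq z]
    exact hyU
  let l : E ⟶ U := IsOpenImmersion.lift U.ι q hr
  have hl : l ≫ U.ι = q := IsOpenImmersion.lift_fac _ _ _
  exact ⟨(Scheme.Modules.pullbackCongr hl.symm).app M ≪≫
    ((Scheme.Modules.pullbackComp l U.ι).app M).symm ≪≫
    (Scheme.Modules.pullback l).mapIso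
      (((Scheme.Modules.restrictFunctorIsoPullback U.ι).app M).symm ≪≫ e) ≪≫
    CurvesA.HHMap.pullbackUnit l⟩

section

variable (k : Type u) [Field k] (X : Scheme.{u}) [X.Over (Sp k)]

theorem dgc_pull_eq_zero (C : Curve X) {Z : Scheme.{u}} (f : X ⟶ Z) (y : Z) (h : ∀ c, f (C.ι c) = y) (a : Pic Z) :
    dgc k X C (pull f a) = 0 := by
  have h1 : pull C.ι (pull f a) = 1 := by
    rw [← pull_comp]
    exact pull_eq_one _ y (fun c => by rw [Scheme.Hom.comp_apply]; exact h c) a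
  rw [dgc, h1]
  exact @Etcore.DegZero.dg_one k _ C.Y ⟨C.ι ≫ (X ↘ (Sp k))⟩

variable [IsProper (X ↘ (Sp k))]

theorem dgc_ideal_nonpos (C : Curve X) {J : X.IdealSheafData} (hJ : BlowUp.IsEffCartierIdeal J)
    (h : C.ι (genericPoint C.Y) ∉ J.support) :
    dgc k X C (mk _ (Dix.IdealModCartier.isInvertible_idealMod hJ)) ≤ 0 := by
  let _ : C.Y.Over (Sp k) := ⟨C.ι ≫ (X ↘ (Sp k))⟩
  have hp : IsProper (C.Y ↘ (Sp k)) := inferInstanceAs (IsProper (C.ι ≫ (X ↘ (Sp k))))
  have hJ' := Dix.InterSurf.isEff_comap_of_generic C.ι hJ h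
  obtain ⟨e⟩ := Dix.IdealModCartier.pullback_idealMod C.ι hJ hJ'
  have hI := Dix.IdealModCartier.isInvertible_idealMod hJ'
  have h1 : dgc k X C (mk _ (Dix.IdealModCartier.isInvertible_idealMod hJ)) =
      Etcore.DegZero.dg k C.Y (mk _ hI) := by
    rw [dgc, pull_mk]
    congr 1
    exact mk_congr e
  rw [h1, Pic13.H945.DegAmple.dg_eq_deg k C.Y C.dim hI]
  obtain ⟨M, hM, ⟨e'⟩⟩ := exists_inverse hI
  have hinv : ClSub.IsInverseOf M (ClSub.idealMod (J.comap C.ι)) :=
    ⟨Ega2.Tens.swap _ _ ≪≫ e'⟩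
  have h2 := Dix.InterNum.deg_of_effCartier k C.Y C.dim _ hJ' M hinv
  have h3 := Dix.InterNum.deg_inverse k C.Y C.dim hinv
  rw [h2] at h3
  omega

theorem dgc_ample_pos (C : Curve X) {A : X.Modules} (hA : CohB1.IsAmple A) : 0 < dgc k X C (mk A hA.1) := by
  have hp : IsProper (C.ι ≫ (X ↘ (Sp k))) := inferInstance
  rw [dgc_mk]
  exact (Pic13.H945.DegAmple.isAmple_iff_curveDeg_pos k _ C.dim (Fdesc.LocGen.isInvertible_pullback C.ι hA.1)).mp
    (Sga5.AmpleFib.isAmple_pullback C.ι hA)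

end

end K463.Exc
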