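import Groth.Agent.Surf.K463.PtsBlow
import Groth.Agent.Divis.CartierStalk
import Groth.Agent.S1682
import Groth.Agent.S1683

/-!
# Blowing up one more point of a blow-up of the plane with ample anticanonical class
-/

set_option autoImplicit false
set_option linter.unusedSectionVars false
universe u
open CategoryTheory CategoryTheory.Limits AlgebraicGeometry Opposite TopologicalSpace

namespace K463.FSStep

open Groth.Agent Groth.Agent.Grpsch.PicGrp K464.Base K463.Bir K463.Noether K463.Plane Groth.Agent.Dix.PointIdeal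
  Groth.Agent.Divis.CartierBasic K463.PtsBlow

local notation "Sp" k:max => Spec (CommRingCat.of k)

section local_iso

variable {X Y : Scheme.{u}} (f : X ⟶ Y) (U : Y.Opens) [IsIso (f ∣_ U)]

theorem eq_of_apply_eq {x z : X} (hU : f x ∈ U) (h : f z = f x) : z = x := by
  have hz : f z ∈ U := by rw [h]; exact hU
  let a : (f ⁻¹ᵁ U).toScheme := ⟨x, hU⟩
  let b : (f ⁻¹ᵁ U).toScheme := ⟨z, hz⟩
  have h1 : (f ∣_ U) b = (f ∣_ U) a := by
    apply Subtype.ext
    rw [morphismRestrict_base_coe, morphismRestrict_base_coe]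
    exact h
  have h2 : b = a := (f ∣_ U).homeomorph.injective h1
  exact congrArg Subtype.val h2

theorem isIso_stalkMap {x : X} (hU : f x ∈ U) : IsIso (f.stalkMap x) := by
  let a : (f ⁻¹ᵁ U).toScheme := ⟨x, hU⟩
  have h1 : IsIso ((f ∣_ U).stalkMap a) := inferInstance
  exact ((MorphismProperty.isomorphisms CommRingCat).arrow_mk_iso_iff (morphismRestrictStalkMap f U a)).mp h1

theorem comap_pt_eq {x : X} (hx : IsClosed ({x} : Set X)) (hy : IsClosed ({f x} : Set Y)) (hU : f x ∈ U) :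
    (pt (f x) hy).comap f = pt x hx := by
  apply ext_stalkIdeal
  intro z
  by_cases hz : f z = f x
  · obtain rfl : z = x := eq_of_apply_eq f U hU hz
    rw [Divis.CartierStalk.stalkIdeal_comap, stalkIdeal_pt, stalkIdeal_pt]
    have := isIso_stalkMap f U hU
    have hs : Function.Surjective (f.stalkMap z).hom := (ConcreteCategory.bijective_of_isIso (f.stalkMap z)).2
    have h1 : (IsLocalRing.maximalIdeal (X.presheaf.stalk z)).comap (f.stalkMap z).hom =
        IsLocalRing.maximalIdeal (Y.presheaf.stalk (f z)) :=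
      ((IsLocalRing.local_hom_TFAE (f.stalkMap z).hom).out 0 4).mp
        (inferInstance : IsLocalHom (f.stalkMap z).hom)
    rw [← h1, Ideal.map_comap_of_surjective _ hs]
  · have h1 : f z ∉ (pt (f x) hy).support := fun h => hz ((mem_support_pt _ _ _).mp h)
    have h2 : z ∉ (pt x hx).support := fun h => hz (by rw [(mem_support_pt _ _ _).mp h])
    rw [Divis.CartierStalk.stalkIdeal_comap, (notMem_support_iff_stalkIdeal_eq_top _ _).mp h1,
      (notMem_support_iff_stalkIdeal_eq_top _ _).mp h2, Ideal.map_top]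

end local_iso

section step

variable {k : Type u} [Field k] [IsAlgClosed k]

theorem inf_eq_mul {X : Scheme.{u}} {I J : X.IdealSheafData} (h : I ⊔ J = ⊤) : I ⊓ J = I * J := by
  apply le_antisymm
  · have h1 : (I ⊓ J) * (I ⊔ J) = (I ⊓ J) * I ⊔ (I ⊓ J) * J := mul_add _ _ _
    have h2 : (I ⊓ J) * (⊤ : X.IdealSheafData) = I ⊓ J := mul_one _
    rw [h, h2] at h1
    rw [h1]
    refine sup_le ?_ ?_
    · rw [mul_comm I J]
      exact mul_le_mul' inf_le_right le_rfl
    · exact mul_le_mul' inf_le_left le_rfl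
  · refine le_inf (K464.Cohom.mul_le_left' I J) ?_
    rw [mul_comm]
    exact K464.Cohom.mul_le_left' J I

/-- The induction step. -/
theorem step {X Y : Scheme.{u}} {t : Y ⟶ Sp k} (h : SPS k t) (y : Y) (hy : IsClosed ({y} : Set Y)) (b : X ⟶ Y)
    (hb : BlowUp.IsBlowUp b (pt y hy)) {w : Pic X} (hw : Can k (b ≫ t) w) (hamp : Amp w⁻¹)
    {r : ℕ} {P : Fin r → ↥(CohB1.ProjSpace 2 k)} {σ : Y ⟶ CohB1.ProjSpace 2 k} (hσ : PtsBlow k t r P σ) :
    ∃ P' : Fin (r + 1) → ↥(CohB1.ProjSpace 2 k), PtsBlow k (b ≫ t) (r + 1) P' (b ≫ σ) := by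
  letI : X.Over (Sp k) := ⟨b ≫ t⟩
  letI : Y.Over (Sp k) := ⟨t⟩
  have hX := h.blowUp y hy b hb
  have hXi := hX.int
  have : IsProper (X ↘ (Sp k)) := hX.proper
  have : Smooth (X ↘ (Sp k)) := hX.smooth
  have hYi := h.int
  have : IsProper (Y ↘ (Sp k)) := h.proper
  have : Smooth (Y ↘ (Sp k)) := h.smooth
  have hXn := hX.noeth
  have hYn := h.noeth
  have hd : topologicalKrullDim X ≤ (2 : ℕ) := hX.dim.le
  obtain ⟨h1, h2, h3, h4, h5⟩ := blow_data h y hy b hb
  have hbir := isBir_blowUp h y hy b hb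
  set e := ic ((pt y hy).comap b) hb.1 with he
  -- the canonical class of `Y`
  obtain ⟨V, hV⟩ := RRd.exists_W k (X := Y)
  have hVi := RRd.isInvertible_W k h.dim hV
  set v := mk V hVi with hv
  have hcv : Can k t v := ⟨V, hVi, hV, rfl⟩
  have hwv : ∀ w', Can k (b ≫ t) w' → w' * e = pull b v := by
    rintro w' ⟨W, hWi, hW, rfl⟩
    exact blow_canon h y hy b hb hV hVi hW hWi
  have hw' : ∀ w', Can k (b ≫ t) w' → w' = pull b v * e⁻¹ := fun w' hc => by
    rw [← hwv w' hc, mul_inv_cancel_right]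
  have hwp : ∀ w', Can k (b ≫ t) w' → ∀ a : Pic Y, dot k X w' (pull b a) = dot k Y v a := by
    intro w' hc a
    rw [hw' w' hc, dot_mul_left k X hd, h1, dot_inv_left k X hd, dot_comm k X e, h2]; ring
  have hwe : ∀ w', Can k (b ≫ t) w' → dot k X w' e = 1 := by
    intro w' hc
    rw [hw' w' hc, dot_mul_left k X hd, h2, dot_inv_left k X hd, h3]; ring
  have hksq : (r : ℤ) + dot k Y v v = 9 := hσ.ksq v hcv
  have hkell : dot k Y v (pull σ (ell k)) = -3 := hσ.kell v hcv
  have hellell : dot k Y (pull σ (ell k)) (pull σ (ell k)) = 1 := hσ.ellell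
  have hkexc : ∀ i, dot k Y v (ic _ (hσ.eff i)) = 1 := hσ.kexc v hcv
  have hellexc : ∀ i, dot k Y (pull σ (ell k)) (ic _ (hσ.eff i)) = 0 := hσ.ellexc
  obtain ⟨L, hL, hwL⟩ := hamp
  -- pullback of effective divisors
  have hbe : ∀ {F : Y.IdealSheafData}, BlowUp.IsEffCartierIdeal F → BlowUp.IsEffCartierIdeal (F.comap b) := by
    intro F hF
    refine K464.DegCurve.isEff_comap b hF ?_
    rw [hbir.gen]
    exact K464.PtCurve.genericPoint_notMem hF
  -- the new point is not one of the old ones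
  have hne : ∀ i, P i ≠ σ y := by
    intro i hi
    have hF := hσ.eff i
    have hyF : y ∈ ((pt (P i) (hσ.cl i)).comap σ).support := by
      rw [Scheme.IdealSheafData.support_comap]
      change σ y ∈ (pt (P i) (hσ.cl i)).support
      rw [mem_support_pt]
      exact hi.symm
    have hle : ((pt (P i) (hσ.cl i)).comap σ).comap b ≤ (pt y hy).comap b :=
      Scheme.IdealSheafData.comap_mono b (le_pt hy hyF)
    obtain ⟨J, hJ, hJe⟩ := Divis.ColonIdeal.exists_mul_eq hb.1 (hbe hF) hle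
    have hcls : pull b (ic _ hF) = e * ic J hJ := by
      rw [K464.DegCurve.pull_ic b hF (hbe hF), he, ← ic_mul]
      exact ic_congr _ _ hJe.symm
    have h6 : dot k X w (ic J hJ) = 0 := by
      have h7 := hwp w hw (ic _ hF)
      rw [hkexc i, hcls, dot_mul_right k X hd, hwe w hw] at h7
      linarith
    have hJt : J = ⊤ := by
      by_contra hJt
      have h8 := RRd.dot_ic_neg_of_ample_eff k hX.dim hJ hJt hL.1 hL
      rw [← hwL, dot_inv_right k X hd, dot_comm, h6] at h8
      simp at h8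
    subst hJt
    rw [show ic (⊤ : X.IdealSheafData) hJ = 1 from ic_top, mul_one] at hcls
    have h9 := h2 (ic _ hF)
    rw [hcls, h3] at h9
    omega
  -- the new point
  have hσp : IsProper σ := by
    have h6 := h.proper
    have h7 := (sps k).proper
    rw [← hσ.ov] at h6
    exact IsProper.of_comp σ (CohB1.ProjSpace.toSpec 2 k)
  have hpc : IsClosed ({σ y} : Set ↥(CohB1.ProjSpace 2 k)) := by
    have h6 := σ.isClosedMap _ hy
    rwa [Set.image_singleton] at h6
  obtain ⟨hZ, hσb⟩ := hσ.blow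
  have hyU : σ y ∈ (Scheme.IdealSheafData.vanishingIdeal ⟨Set.range P, hZ⟩ :
      (CohB1.ProjSpace 2 k).IdealSheafData).support.compl := by
    change σ y ∉ (((Scheme.IdealSheafData.vanishingIdeal ⟨Set.range P, hZ⟩ :
      (CohB1.ProjSpace 2 k).IdealSheafData).support : Closeds _) : Set _)
    rw [Scheme.IdealSheafData.coe_support_vanishingIdeal]
    rintro ⟨i, hi⟩
    exact hne i hi
  have hiso := S1682.result _ σ hσb
  have hpt : (pt (σ y) hpc).comap σ = pt y hy := comap_pt_eq σ _ hy hpc hyU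
  have hcomp : ∀ I : (CohB1.ProjSpace 2 k).IdealSheafData, I.comap (b ≫ σ) = (I.comap σ).comap b :=
    fun I => Scheme.IdealSheafData.comap_comp I b σ
  have hpull : ∀ a : Pic (CohB1.ProjSpace 2 k), pull (b ≫ σ) a = pull b (pull σ a) := fun a => pull_comp b σ a
  -- the new ideal
  have hunion : (⟨Set.range (Fin.snoc (α := fun _ => ↥(CohB1.ProjSpace 2 k)) P (σ y)), by
      rw [Fin.range_snoc]; exact (Set.insert_eq _ _ ▸ hpc.union hZ)⟩ : Closeds ↥(CohB1.ProjSpace 2 k)) =
      ⟨Set.range P, hZ⟩ ⊔ ⟨{σ y}, hpc⟩ := by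
    apply Closeds.ext
    rw [Closeds.coe_sup]
    change Set.range _ = Set.range P ∪ {σ y}
    rw [Fin.range_snoc, Set.insert_eq, Set.union_comm]
  have hsup : (Scheme.IdealSheafData.vanishingIdeal ⟨Set.range P, hZ⟩ : (CohB1.ProjSpace 2 k).IdealSheafData) ⊔
      pt (σ y) hpc = ⊤ := by
    rw [← Scheme.IdealSheafData.support_eq_bot_iff, Scheme.IdealSheafData.support_sup, eq_bot_iff]
    rintro x ⟨hx1, hx2⟩
    have h6 := (mem_support_pt _ hpc x).mp hx2
    subst h6
    exact (hyU hx1).elim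
  refine ⟨Fin.snoc (α := fun _ => ↥(CohB1.ProjSpace 2 k)) P (σ y), ?_⟩
  have hcl' : ∀ i : Fin (r + 1), IsClosed ({Fin.snoc (α := fun _ => ↥(CohB1.ProjSpace 2 k)) P (σ y) i} :
      Set ↥(CohB1.ProjSpace 2 k)) := by
    intro i
    refine Fin.lastCases ?_ (fun j => ?_) i
    · rw [Fin.snoc_last]; exact hpc
    · rw [Fin.snoc_castSucc]; exact hσ.cl j
  -- the exceptional divisors
  have hcase : ∀ (i : Fin (r + 1)), (∃ j : Fin r, ((pt _ (hcl' i)).comap (b ≫ σ)) = ((pt (P j) (hσ.cl j)).comap σ).comap b) ∨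
      ((pt _ (hcl' i)).comap (b ≫ σ)) = (pt y hy).comap b := by
    intro i
    have key : ∀ (z : ↥(CohB1.ProjSpace 2 k)) (hz : IsClosed ({z} : Set ↥(CohB1.ProjSpace 2 k))),
        (∃ j, z = P j) ∨ z = σ y → (∃ j : Fin r, ((pt z hz).comap (b ≫ σ)) =
          ((pt (P j) (hσ.cl j)).comap σ).comap b) ∨ ((pt z hz).comap (b ≫ σ)) = (pt y hy).comap b := by
      rintro z hz (⟨j, rfl⟩ | rfl)
      · exact Or.inl ⟨j, hcomp _⟩
      · right
        rw [hcomp, hpt]
    apply key
    refine Fin.lastCases ?_ (fun j => ?_) i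
    · right; rw [Fin.snoc_last]
    · left; exact ⟨j, by rw [Fin.snoc_castSucc]⟩
  have heff : ∀ i : Fin (r + 1), BlowUp.IsEffCartierIdeal ((pt _ (hcl' i)).comap (b ≫ σ)) := by
    intro i
    rcases hcase i with ⟨j, hj⟩ | hj
    · rw [hj]; exact hbe (hσ.eff j)
    · rw [hj]; exact hb.1
  have hicls : ∀ i : Fin (r + 1), (∃ j : Fin r, ic _ (heff i) = pull b (ic _ (hσ.eff j))) ∨ ic _ (heff i) = e := by
    intro i
    rcases hcase i with ⟨j, hj⟩ | hj
    · left
      exact ⟨j, (ic_congr (heff i) (hbe (hσ.eff j)) hj).trans (K464.DegCurve.pull_ic b (hσ.eff j) (hbe (hσ.eff j))).symm⟩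
    · right
      exact ic_congr (heff i) hb.1 hj
  refine ⟨?_, ?_, hcl', ?_, ?_, ?_, ?_, ?_, heff, ?_, ?_⟩
  · rw [Category.assoc, hσ.ov]
  · rw [Fin.snoc_injective_iff]
    refine ⟨hσ.inj, ?_⟩
    rintro ⟨i, hi⟩
    exact hne i hi
  · refine ⟨?_, ?_⟩
    · rw [Fin.range_snoc]; exact (Set.insert_eq _ _ ▸ hpc.union hZ)
    · rw [hunion, Scheme.IdealSheafData.vanishingIdeal_sup, inf_eq_mul hsup]
      exact S1683.result _ _ σ hσb b (by rw [hpt]; exact hb)
  · obtain ⟨_, hg⟩ := hσ.gen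
    refine ⟨hXi, ?_⟩
    rw [Scheme.Hom.comp_apply, hbir.gen]
    exact hg
  · intro w' hc
    change ((r + 1 : ℕ) : ℤ) + dot k X w' w' = 9
    have h6 := hwp w' hc v
    have h7 := hwe w' hc
    have h8 : dot k X w' w' = dot k Y v v - 1 := by
      nth_rw 2 [hw' w' hc]
      rw [dot_mul_right k X hd, h6, dot_inv_right k X hd, h7]; ring
    rw [h8]; push_cast; linarith
  · intro w' hc
    change dot k X w' (pull (b ≫ σ) (ell k)) = -3
    rw [hpull, hwp w' hc, hkell]
  · change dot k X (pull (b ≫ σ) (ell k)) (pull (b ≫ σ) (ell k)) = 1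
    rw [hpull, h1, hellell]
  · intro w' hc i
    change dot k X w' (ic _ (heff i)) = 1
    rcases hicls i with ⟨j, hj⟩ | hj
    · rw [hj, hwp w' hc, hkexc]
    · rw [hj, hwe w' hc]
  · intro i
    change dot k X (pull (b ≫ σ) (ell k)) (ic _ (heff i)) = 0
    rcases hicls i with ⟨j, hj⟩ | hj
    · rw [hj, hpull, h1, hellexc]
    · rw [hj, hpull, h2]

end step

end K463.FSStep
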