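import Groth.Agent.Surf.K464.Comp
import Groth.Agent.Surf.K464.RatConf
import Groth.Agent.Surf.K456.SecTriv
import Groth.Agent.Models.H38.SecDiv
import Groth.Agent.Sga2lef.H83.Frame

/-!
# Cohomology dimensions on the Picard group of a proper surface, sections and effective divisors

* `hc k X i : Pic X → ℕ`, `hc_mk`; `chi_eq : chi a = h⁰ - h¹ + h²`.
* `exists_div`: a class with `h⁰ > 0` is `(ic E)⁻¹` for an effective Cartier divisor `E` (`X` integral);
  `hc_zero_inv_pos`: conversely.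
* `dot_ic_neg`: `(I_E · A) < 0` for `A` ample and `E ≠ 0`.
-/

set_option autoImplicit false
set_option linter.unusedSectionVars false
universe u
open CategoryTheory CategoryTheory.Limits AlgebraicGeometry TopologicalSpace

namespace K463.HC

open Groth.Agent Groth.Agent.Grpsch.PicGrp K464.Base K464.Curves K464.Comp Groth.Agent.Fdesc.LocGen

local notation "Sp" k:max => Spec (CommRingCat.of k)

section defs

variable (k : Type u) [Field k] (X : Scheme.{u}) [X.Over (Sp k)]

/-- `dim H^i` on classes of invertible modules. -/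
noncomputable def hc (i : ℕ) : Pic X → ℕ :=
  Quotient.lift (s := isoSetoid X) (fun L => Module.finrank k (Coh.HH X L.1 i))
    (fun _ _ ⟨e⟩ => (Fga.PicMon.hmapEquiv k X e i).finrank_eq)

theorem hc_mk (i : ℕ) {L : X.Modules} (hL : PicF.IsInvertible L) :
    hc k X i (mk L hL) = Module.finrank k (Coh.HH X L i) := rfl

theorem hc_one (i : ℕ) : hc k X i 1 = Module.finrank k (Coh.HH X (Coh.structureModule X) i) := rfl

variable [IsProper (X ↘ (Sp k))]

theorem chi_eq (hdim : topologicalKrullDim X ≤ (2 : ℕ)) (a : Pic X) :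
    chi k X a = (hc k X 0 a : ℤ) - hc k X 1 a + hc k X 2 a := by
  obtain ⟨L, hL, rfl⟩ := exists_mk a
  rw [chi_mk, ← Fga.IntAdd.eulerCharLE_eq k X 2 hdim, hc_mk, hc_mk, hc_mk]
  simp [FGA.eulerCharLE, Finset.sum_range_succ]
  ring

theorem chi_le (hdim : topologicalKrullDim X ≤ (2 : ℕ)) (a : Pic X) :
    chi k X a ≤ (hc k X 0 a : ℤ) + hc k X 2 a := by
  rw [chi_eq k X hdim]; omega

theorem finite_HH {L : X.Modules} (hL : PicF.IsInvertible L) (i : ℕ) : Module.Finite k (Coh.HH X L i) :=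
  K464.Cohom.finite_HH k (isCoh_of_isInvertible k X hL) i

theorem subsingleton_of_hc {i : ℕ} {L : X.Modules} (hL : PicF.IsInvertible L) (h : hc k X i (mk L hL) = 0) :
    Subsingleton (Coh.HH X L i) := by
  have := finite_HH k X hL i
  rw [hc_mk, Module.finrank_eq_zero_iff] at h
  refine ⟨fun a b => ?_⟩
  obtain ⟨c, hc, h1⟩ := h (a - b)
  have := (smul_eq_zero_iff_right hc).mp h1
  exact sub_eq_zero.mp this

end defs

section div

variable (k : Type u) [Field k] {X : Scheme.{u}} [X.Over (Sp k)] [IsProper (X ↘ (Sp k))] [IsIntegral X]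

omit [X.Over (Sp k)] [IsProper (X ↘ (Sp k))] in
/-- The divisor of a nonzero section. -/
theorem exists_divisor {M : X.Modules} (hM : PicF.IsInvertible M) (s : Γ(M, ⊤)) (hs : s ≠ 0) :
    ∃ D : X.IdealSheafData, BlowUp.IsEffCartierIdeal D ∧ ClSub.IsInverseOf M (ClSub.idealMod D) := by
  have key : ∀ (U : X.affineOpens) (e : Γ(M, U.1)) (a : Γ(X, U.1)), IsGen e →
      res M le_top s = a • e → a ∈ nonZeroDivisors Γ(X, U.1) := by
    intro U e a he hr
    by_cases hU : Nonempty U.1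
    · obtain ⟨x, hx⟩ := hU
      have : Nonempty U.1 := ⟨⟨x, hx⟩⟩
      rw [mem_nonZeroDivisors_iff_ne_zero]
      rintro rfl
      rw [zero_smul] at hr
      exact hs (K456.SecTriv.eq_zero_of_res hM le_top hx s hr)
    · have h0 : Subsingleton Γ(X, U.1) := by
        have h1 : U.1 = ⊥ := by
          ext x
          exact ⟨fun hx => (hU ⟨⟨x, hx⟩⟩).elim, fun hx => hx.elim⟩
        rw [h1]
        infer_instance
      rw [mem_nonZeroDivisors_iff]
      exact ⟨fun _ _ => Subsingleton.elim _ _, fun _ _ => Subsingleton.elim _ _⟩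
  obtain ⟨D, h1, h2, -⟩ := Models.H38.SecDiv.exists_divisor hM s key
  exact ⟨D, h1, h2⟩

theorem exists_div {a : Pic X} (h : 0 < hc k X 0 a) :
    ∃ (E : X.IdealSheafData) (hE : BlowUp.IsEffCartierIdeal E), a = (ic E hE)⁻¹ := by
  obtain ⟨L, hL, rfl⟩ := exists_mk a
  rw [hc_mk] at h
  have := finite_HH k X hL 0
  have hn : Nontrivial (Coh.HH X L 0) := (Module.finrank_pos_iff (R := k)).mp h
  obtain ⟨s, hs⟩ := K456.SecTriv.exists_ne_zero_of_nontrivial hn
  obtain ⟨D, h1, h2⟩ := exists_divisor hL s hs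
  exact ⟨D, h1, mk_eq_ic_inv h2 hL h1⟩

theorem hc_zero_inv_pos {E : X.IdealSheafData} (hE : BlowUp.IsEffCartierIdeal E) : 0 < hc k X 0 (ic E hE)⁻¹ := by
  obtain ⟨L, hL, ⟨e⟩⟩ := exists_inverse (Dix.IdealModCartier.isInvertible_idealMod hE)
  have hinv : ClSub.IsInverseOf L (ClSub.idealMod E) := ⟨Ega2.Tens.swap _ _ ≪≫ e⟩
  rw [← mk_eq_ic_inv hinv hL hE, hc_mk]
  obtain ⟨σ, hσ⟩ := Sga2lef.H83.Frame.exists_section hinv
  have hne : sec σ ⊤ ≠ 0 := by
    intro h0
    obtain ⟨V, e, f, hx, -, hfr⟩ := hσ ⊤ (genericPoint X) trivial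
    have h1 := hfr.eq
    rw [← res_sec σ le_top, h0, map_zero] at h1
    have hV : Nonempty V.1 := ⟨⟨_, hx⟩⟩
    have h3 : f = 0 := hfr.gen.ext (by rw [← h1, zero_smul])
    have h2 := hfr.nonZeroDivisor
    rw [h3] at h2
    exact zero_notMem_nonZeroDivisors h2
  have := finite_HH k X hL 0
  have := K456.SecTriv.nontrivial_of_ne_zero hne
  exact Module.finrank_pos

end div

end K463.HC
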