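import Groth.Agent.Surf.K463.Plane
import Groth.Agent.Divis.ColonIdeal
import Groth.Agent.LefPen.K568.HypIdMod
import Groth.Agent.Surf.K464.PtCurve

/-!
# Blow-ups of the plane in finitely many points and general position

* `Can k s w`: `w` is the canonical class of `s : X ⟶ Spec k`; `Amp a`: `a` is the class of an ample module.
* `PtsBlow k s r P σ`: `σ : X ⟶ P²` is the blow-up of the distinct closed points `P 0, …, P (r-1)`, with the numerical
  data.
* `ncard_lt`: if the anticanonical class is ample, a curve of degree `d` contains less than `3 d` of the points.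
-/

set_option autoImplicit false
set_option linter.unusedSectionVars false
universe u
open CategoryTheory CategoryTheory.Limits AlgebraicGeometry Opposite TopologicalSpace

namespace K463.PtsBlow

open Groth.Agent Groth.Agent.Grpsch.PicGrp K464.Base K463.Bir K463.Noether K463.Plane Groth.Agent.Dix.PointIdeal

local notation "Sp" k:max => Spec (CommRingCat.of k)

/-- `w` is the canonical class. -/
def Can (k : Type u) [Field k] {X : Scheme.{u}} (s : X ⟶ Sp k) (w : Pic X) : Prop :=
  ∃ (W : X.Modules) (hWi : PicF.IsInvertible W), ExtPow.IsExtPow 2 (Omega.sheaf s) W ∧ w = mk W hWi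

/-- `a` is the class of an ample module. -/
def Amp {X : Scheme.{u}} (a : Pic X) : Prop := ∃ (L : X.Modules) (hL : CohB1.IsAmple L), a = mk L hL.1

section ideals

variable {X : Scheme.{u}}

theorem le_of_mul_le {E F T : X.IdealSheafData} (h : E ⊔ F = ⊤) (h1 : E * T ≤ F) : T ≤ F := by
  have h2 : (⊤ : X.IdealSheafData) * T = T := one_mul T
  have h3 : (E ⊔ F) * T = E * T ⊔ F * T := add_mul E F T
  rw [← h2, ← h, h3]
  exact sup_le h1 (K464.Cohom.mul_le_left' F T)

variable [IsLocallyNoetherian X]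

theorem exists_prod {ι : Type*} [DecidableEq ι] (E : ι → X.IdealSheafData) (hE : ∀ i, BlowUp.IsEffCartierIdeal (E i))
    (hdisj : ∀ i j, i ≠ j → E i ⊔ E j = ⊤) {T : X.IdealSheafData} (hT : BlowUp.IsEffCartierIdeal T) (S : Finset ι)
    (hle : ∀ i ∈ S, T ≤ E i) : ∃ J : X.IdealSheafData, BlowUp.IsEffCartierIdeal J ∧ (∏ i ∈ S, E i) * J = T := by
  induction S using Finset.induction_on with
  | empty => exact ⟨T, hT, by rw [Finset.prod_empty, one_mul]⟩
  | insert a S ha ih =>
    obtain ⟨J, hJ, hJT⟩ := ih (fun i hi => hle i (Finset.mem_insert_of_mem hi))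
    have h1 : J ≤ E a := by
      have h2 : ∀ S' : Finset ι, a ∉ S' → (∏ i ∈ S', E i) ⊔ E a = ⊤ := by
        intro S'
        induction S' using Finset.induction_on with
        | empty => intro _; rw [Finset.prod_empty]; exact top_sup_eq _
        | insert b S' hb ih' =>
          intro hab
          rw [Finset.mem_insert, not_or] at hab
          rw [Finset.prod_insert hb]
          have h3 := ih' hab.2
          have h4 := hdisj b a (Ne.symm hab.1)
          rw [eq_top_iff]
          have h5 : (⊤ : X.IdealSheafData) = (E b ⊔ E a) * ((∏ i ∈ S', E i) ⊔ E a) := by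
            rw [h3, h4]; exact (one_mul (1 : X.IdealSheafData)).symm
          rw [h5]
          have h6 : (E b ⊔ E a) * ((∏ i ∈ S', E i) ⊔ E a) =
              (E b * (∏ i ∈ S', E i) ⊔ E a * (∏ i ∈ S', E i)) ⊔ (E b ⊔ E a) * E a := by
            have h7 : (E b ⊔ E a) * ((∏ i ∈ S', E i) ⊔ E a) = (E b ⊔ E a) * (∏ i ∈ S', E i) ⊔ (E b ⊔ E a) * E a :=
              mul_add _ _ _
            rw [h7]
            congr 1
            exact add_mul _ _ _
          rw [h6]
          refine sup_le (sup_le le_sup_left (le_trans (K464.Cohom.mul_le_left' _ _) le_sup_right)) ?_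
          rw [mul_comm]
          exact le_trans (K464.Cohom.mul_le_left' _ _) le_sup_right
      refine le_of_mul_le (h2 S ha) ?_
      rw [hJT]
      exact hle a (Finset.mem_insert_self a S)
    obtain ⟨L, hL, hLJ⟩ := Divis.ColonIdeal.exists_mul_eq (hE a) hJ h1
    refine ⟨L, hL, ?_⟩
    rw [Finset.prod_insert ha, ← hJT, ← hLJ]
    ring

end ideals

section main

/-- `σ : X ⟶ P²` is the blow-up of the distinct closed points `P 0, …, P (r-1)`, with the numerical data. -/
structure PtsBlow (k : Type u) [Field k] {X : Scheme.{u}} (s : X ⟶ Sp k) (r : ℕ) (P : Fin r → ↥(CohB1.ProjSpace 2 k))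
    (σ : X ⟶ CohB1.ProjSpace 2 k) : Prop where
  ov : σ ≫ CohB1.ProjSpace.toSpec 2 k = s
  inj : Function.Injective P
  cl : ∀ i, IsClosed ({P i} : Set ↥(CohB1.ProjSpace 2 k))
  blow : ∃ hZ : IsClosed (Set.range P), BlowUp.IsBlowUp σ (Scheme.IdealSheafData.vanishingIdeal ⟨Set.range P, hZ⟩)
  gen : ∃ (_ : IsIntegral X), σ (genericPoint X) = genericPoint (CohB1.ProjSpace 2 k)
  ksq : letI : X.Over (Sp k) := ⟨s⟩; ∀ w, Can k s w → (r : ℤ) + dot k X w w = 9
  kell : letI : X.Over (Sp k) := ⟨s⟩; ∀ w, Can k s w → dot k X w (pull σ (ell k)) = -3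
  ellell : letI : X.Over (Sp k) := ⟨s⟩; dot k X (pull σ (ell k)) (pull σ (ell k)) = 1
  eff : ∀ i, BlowUp.IsEffCartierIdeal ((pt (P i) (cl i)).comap σ)
  kexc : letI : X.Over (Sp k) := ⟨s⟩; ∀ w, Can k s w → ∀ i, dot k X w (ic _ (eff i)) = 1
  ellexc : letI : X.Over (Sp k) := ⟨s⟩; ∀ i, dot k X (pull σ (ell k)) (ic _ (eff i)) = 0

variable {k : Type u} [Field k]

theorem pt_sup {Y : Scheme.{u}} {y z : Y} (hy : IsClosed ({y} : Set Y)) (hz : IsClosed ({z} : Set Y)) (h : y ≠ z) :
    pt y hy ⊔ pt z hz = ⊤ := by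
  rw [← Scheme.IdealSheafData.support_eq_bot_iff, Scheme.IdealSheafData.support_sup]
  rw [eq_bot_iff]
  rintro x ⟨hx1, hx2⟩
  have h1 := (mem_support_pt y hy x).mp hx1
  have h2 := (mem_support_pt z hz x).mp hx2
  exact absurd (h1.symm.trans h2) h

theorem le_pt {Y : Scheme.{u}} {y : Y} (hy : IsClosed ({y} : Set Y)) {I : Y.IdealSheafData} (h : y ∈ I.support) :
    I ≤ pt y hy := by
  rw [← Scheme.IdealSheafData.le_support_iff_le_vanishingIdeal]
  rintro x (rfl : x = y)
  exact h

variable {X : Scheme.{u}} [X.Over (Sp k)] [IsIntegral X] [IsProper (X ↘ (Sp k))] [Smooth (X ↘ (Sp k))]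

/-- **General position.** If the anticanonical class is ample, a curve of degree `d` contains less than `3 d` of the
points. -/
theorem ncard_lt (hdim : topologicalKrullDim X = 2) {w : Pic X} (hw : Can k (X ↘ (Sp k)) w) (hamp : Amp w⁻¹)
    {r : ℕ} {P : Fin r → ↥(CohB1.ProjSpace 2 k)} {σ : X ⟶ CohB1.ProjSpace 2 k} (h : PtsBlow k (X ↘ (Sp k)) r P σ)
    {d : ℕ} (hd : 0 < d) (G : LefPen.Form 2 k d) (hG : G ≠ 0) :
    {i : Fin r | P i ∈ ((LefPen.hypIdeal G).support : Set ↥(CohB1.ProjSpace 2 k))}.ncard < 3 * d := by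
  classical
  have hN : IsNoetherian X := (show SPS k (X ↘ (Sp k)) from ⟨inferInstance, hdim, inferInstance, inferInstance⟩).noeth
  have hHe := K568.HypIdMod.isEffCartier G hG
  obtain ⟨_, hgen⟩ := h.gen
  have hTe : BlowUp.IsEffCartierIdeal ((LefPen.hypIdeal G).comap σ) := by
    refine K464.DegCurve.isEff_comap σ hHe ?_
    rw [hgen]
    intro hmem
    exact K464.PtCurve.genericPoint_notMem hHe hmem
  obtain ⟨L, hL, hwL⟩ := hamp
  let S : Finset (Fin r) := Finset.univ.filter fun i => P i ∈ (LefPen.hypIdeal G).support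
  obtain ⟨J, hJ, hJT⟩ := exists_prod (fun i => (pt (P i) (h.cl i)).comap σ) h.eff (fun i j hij => by
    rw [← Scheme.IdealSheafData.comap_sup, pt_sup _ _ (fun e => hij (h.inj e)), Scheme.IdealSheafData.comap_top])
    hTe S (fun i hi => Scheme.IdealSheafData.comap_mono σ (le_pt (h.cl i) (Finset.mem_filter.mp hi).2))
  -- classes
  have hcls : ic _ hTe = (pull σ (ell k)) ^ (-(d : ℤ)) := by
    rw [← K464.DegCurve.pull_ic σ hHe hTe, ← map_zpow, ← mk_twist]
    congr 1
    rw [ic, mk_eq_iff]
    exact K568.HypIdMod.nonempty_iso G hG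
  have hcls' : ic _ hTe = (∏ i ∈ S, ic _ (h.eff i)) * ic J hJ := by
    rw [← ic_prod, ← ic_mul]
    exact ic_congr _ _ hJT.symm
  have hkell : dot k X w (pull σ (ell k)) = -3 := h.kell w hw
  have hellell : dot k X (pull σ (ell k)) (pull σ (ell k)) = 1 := h.ellell
  have hkexc : ∀ i, dot k X w (ic _ (h.eff i)) = 1 := h.kexc w hw
  have hellexc : ∀ i, dot k X (pull σ (ell k)) (ic _ (h.eff i)) = 0 := h.ellexc
  have h1 : dot k X w (ic _ hTe) = 3 * d := by
    rw [hcls, dot_zpow_right k X hdim.le, hkell]; ring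
  have h2 : dot k X w (ic _ hTe) = S.card + dot k X w (ic J hJ) := by
    rw [hcls', dot_mul_right k X hdim.le, dot_prod_right k X hdim.le]
    rw [Finset.sum_congr rfl (fun i _ => hkexc i)]
    simp
  have h3 : dot k X w (ic J hJ) = - dot k X (ic J hJ) (mk L hL.1) := by
    rw [← hwL, dot_inv_right k X hdim.le, neg_neg, dot_comm]
  have h4 : 0 < dot k X w (ic J hJ) := by
    by_cases hJt : J = ⊤
    · exfalso
      subst hJt
      have h5 : dot k X (pull σ (ell k)) (ic _ hTe) = 0 := by
        rw [hcls', dot_mul_right k X hdim.le, dot_prod_right k X hdim.le,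
          Finset.sum_congr rfl (fun i _ => hellexc i)]
        rw [show ic (⊤ : X.IdealSheafData) hJ = 1 from ic_top, dot_one_right]
        simp
      rw [hcls, dot_zpow_right k X hdim.le, hellell] at h5
      omega
    · rw [h3]
      have := RRd.dot_ic_neg_of_ample_eff k hdim hJ hJt hL.1 hL
      omega
  have h6 : S.card < 3 * d := by omega
  have h7 : {i : Fin r | P i ∈ ((LefPen.hypIdeal G).support : Set ↥(CohB1.ProjSpace 2 k))} = (S : Set (Fin r)) := by
    ext i
    simp [S]
  rw [h7, Set.ncard_coe_finset]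
  exact h6

end main

end K463.PtsBlow
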