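import Groth.Agent.Surf.K463.Double
import Groth.Agent.S6542
import Groth.Agent.S9829
import Groth.Agent.Lefpen.H705.ClosedPoint
import Groth.Agent.Sga5.ProjSmooth
import Groth.Agent.Divis.CartierStalk
import Groth.Agent.Dix.ContractSurf
import Groth.Agent.Surf.K455.ResOne

/-!
# Rational curves on a surface are regular: no multiplicity two
-/

set_option autoImplicit false
set_option linter.unusedSectionVars false
universe u
open CategoryTheory CategoryTheory.Limits AlgebraicGeometry Opposite TopologicalSpace IsLocalRing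

namespace K463.RatCurve

open Groth.Agent Groth.Agent.Grpsch.PicGrp K464.Base K464.Curves K464.Cohom Groth.Agent.Divis.CartierBasic

local notation "Sp" k:max => Spec (CommRingCat.of k)

/-- The local rings of an integral proper curve with `H¹(O) = 0` have principal maximal ideals. -/
theorem isPrincipal (k : Type u) [Field k] [IsAlgClosed k] (Y : Scheme.{u}) [Y.Over (Sp k)] [IsIntegral Y]
    [IsProper (Y ↘ (Sp k))] (hd : topologicalKrullDim Y = 1)
    (h1 : Subsingleton (Coh.HH Y (Coh.structureModule Y) 1)) (y : Y) :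
    (maximalIdeal (Y.presheaf.stalk y)).IsPrincipal := by
  obtain ⟨x, -, hx, hreg⟩ := VarietyA.RegPoint.exists_regular_closedPoint k (Y ↘ (Sp k)) ⊤ ⟨genericPoint Y, trivial⟩
  have hic : IsIntegrallyClosed (Y.presheaf.stalk x) := S9829.result _
  obtain ⟨e, he⟩ := S6542.result k Y hd h1 {x} (by simpa using hx) (by simpa using hic) (by
    have := K455.ResOne.finrank_residueField k Y hx
    rw [Finset.gcd_singleton]
    exact (congrArg normalize this).trans (normalize_eq 1))
  have hs : Smooth (Y ↘ (Sp k)) := by
    rw [← he]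
    have h2 := Groth.Agent.Sga5.ProjSmooth.smooth_toSpec 1 k
    have h3 : Smooth (CohB1.ProjSpace.toSpec 1 k) := SmoothOfRelativeDimension.smooth 1 _
    infer_instance
  have hr := Groth.Agent.Lefpen.H705.ClosedPoint.isRegularLocalRing_stalk (Y ↘ (Sp k)) y
  refine VarietyA.RegPoint.isPrincipal_maximalIdeal ?_
  refine le_trans ?_ hd.le
  rw [Dix.ContractSurf.topologicalKrullDim_eq Y]
  exact le_iSup (fun z : Y => ringKrullDim (Y.presheaf.stalk z)) y

/-- A curve with `H¹(O) = 0` on a surface has multiplicity one at its points. -/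
theorem not_le_sq (k : Type u) [Field k] [IsAlgClosed k] {X : Scheme.{u}} [X.Over (Sp k)]
    [IsProper (X ↘ (Sp k))] {C : X.IdealSheafData} (hC : IsCurve C) (hE : BlowUp.IsEffCartierIdeal C)
    (h1 : Subsingleton (Coh.HH X (ClSub.quotMod C) 1)) (p : X) (hreg : IsRegularLocalRing (X.presheaf.stalk p))
    (hdim : ringKrullDim (X.presheaf.stalk p) = 2) (hp : p ∈ C.support) :
    ¬ stalkIdeal C p ≤ maximalIdeal (X.presheaf.stalk p) ^ 2 := by
  intro hle
  letI := overC k X C
  have := isProper_sub k X C
  have := hC.integral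
  have hd : topologicalKrullDim C.subscheme = 1 := (dim_sub X C).trans hC.dim
  have h2 : Subsingleton (Coh.HH C.subscheme (Coh.structureModule C.subscheme) 1) :=
    (hhSub0 k C 1).symm.toEquiv.subsingleton
  obtain ⟨d, hd'⟩ : ∃ d : C.subscheme, C.subschemeι d = p := by
    have : p ∈ Set.range C.subschemeι := by
      rw [Scheme.IdealSheafData.range_subschemeι]
      exact hp
    exact this
  subst hd'
  obtain ⟨g, hg, hgs⟩ := exists_stalkIdeal_eq_span hE (C.subschemeι d)
  refine Double.not_mem_sq hdim g ?_ (by
    rw [hgs, Ideal.span_singleton_le_iff_mem] at hle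
    exact hle)
  obtain ⟨t₀, ht₀⟩ := (isPrincipal k C.subscheme hd h2 d).principal
  have hsurj : Function.Surjective (C.subschemeι.stalkMap d).hom := C.subschemeι.stalkMap_surjective d
  obtain ⟨t, ht⟩ := hsurj t₀
  refine ⟨t, ?_⟩
  have hker := Divis.CartierStalk.ker_stalkMap_subschemeι C d
  rw [← hgs, ← hker]
  have h3 : (maximalIdeal (C.subscheme.presheaf.stalk d)).comap (C.subschemeι.stalkMap d).hom =
      maximalIdeal (X.presheaf.stalk (C.subschemeι d)) :=
    ((IsLocalRing.local_hom_TFAE (C.subschemeι.stalkMap d).hom).out 0 4).mp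
      (inferInstance : IsLocalHom (C.subschemeι.stalkMap d).hom)
  rw [← h3]
  have h4 : maximalIdeal (C.subscheme.presheaf.stalk d) = (Ideal.span {t}).map (C.subschemeι.stalkMap d).hom := by
    rw [Ideal.map_span, Set.image_singleton, ht]
    exact ht₀
  rw [h4, Ideal.comap_map_of_surjective _ hsurj]
  rfl

end K463.RatCurve
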