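import Groth.Agent.Surf.K463.Double

/-!
# Members of a linear system through given points
-/

set_option autoImplicit false
set_option linter.unusedSectionVars false
universe u
open CategoryTheory CategoryTheory.Limits AlgebraicGeometry TopologicalSpace IsLocalRing

namespace K463.Sys

open Groth.Agent Groth.Agent.Grpsch.PicGrp K464.Base K464.Curves Groth.Agent.Fdesc.LocGen
  Groth.Agent.Dix.IdealModCartier Groth.Agent.Divis.CartierBasic K463.HC

local notation "Sp" k:max => Spec (CommRingCat.of k)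

variable (k : Type u) [Field k] {X : Scheme.{u}} [X.Over (Sp k)] [IsProper (X ↘ (Sp k))] [IsIntegral X]

/-- The divisors of the sections of an invertible module, with local equations. -/
theorem exists_system {L : X.Modules} (hL : PicF.IsInvertible L) :
    ∃ (D : Coh.HH X L 0 → X.IdealSheafData) (f : ∀ p : X, Coh.HH X L 0 →+ X.presheaf.stalk p),
      (∀ v, v ≠ 0 → ∃ hD : BlowUp.IsEffCartierIdeal (D v), mk L hL = (ic (D v) hD)⁻¹) ∧
      (∀ (p : X) (c : k) (v), f p (c • v) = Curv2.stalkMap k X p c * f p v) ∧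
      ∀ (p : X) (v), v ≠ 0 → Divis.CartierBasic.stalkIdeal (D v) p = Ideal.span {f p v} := by
  classical
  have h1 : ∀ v : Coh.HH X L 0, ∃ D : X.IdealSheafData, v ≠ 0 → BlowUp.IsEffCartierIdeal D ∧
      ClSub.IsInverseOf L (ClSub.idealMod D) ∧ ∀ (U : X.affineOpens) (e : Γ(L, U.1)) (a : Γ(X, U.1)), IsGen e →
        res L le_top (CurvesB.HZero.equivAdd L v) = a • e → D.ideal U = Ideal.span {a} := by
    intro v
    by_cases hv : v = 0
    · exact ⟨⊤, fun h => absurd hv h⟩
    · have hs : CurvesB.HZero.equivAdd L v ≠ 0 := fun h => hv ((CurvesB.HZero.equivAdd L).map_eq_zero_iff.mp h)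
      obtain ⟨D, h1, h2, h3⟩ := Double.exists_divisor' hL _ hs
      exact ⟨D, fun _ => ⟨h1, h2, h3⟩⟩
  choose D hD using h1
  have h2 : ∀ p : X, ∃ f : Coh.HH X L 0 →+ X.presheaf.stalk p,
      (∀ (c : k) (v), f (c • v) = Curv2.stalkMap k X p c * f v) ∧
      ∀ v, v ≠ 0 → Divis.CartierBasic.stalkIdeal (D v) p = Ideal.span {f v} := by
    intro p
    obtain ⟨V, e₀, hpV, he₀⟩ := (isInvertible_iff L).1 hL p
    obtain ⟨U, hpU, hUV⟩ := Dix.IdealModCartier.exists_affine_mem_le V p hpV
    set e := res L hUV e₀ with he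
    have heg : IsGen e := he₀.res hUV
    let E : Γ(X, U.1) ≃ₗ[Γ(X, U.1)] Γ(L, U.1) :=
      LinearEquiv.ofBijective (LinearMap.toSpanSingleton Γ(X, U.1) Γ(L, U.1) e) heg.bijective
    have hE : ∀ a, E a = a • e := fun a => rfl
    let α : Γ(L, ⊤) →+ Γ(X, U.1) := E.symm.toAddEquiv.toAddMonoidHom.comp (res L le_top)
    have hα : ∀ s : Γ(L, ⊤), res L le_top s = α s • e := fun s => by
      rw [← hE]
      exact (E.apply_symm_apply _).symm
    have hαs : ∀ (r : Γ(X, ⊤)) (s : Γ(L, ⊤)), α (r • s) = ores le_top r * α s := fun r s => by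
      apply heg.ext
      rw [← hα, res_smul, hα s, mul_smul]
    let f : Coh.HH X L 0 →+ X.presheaf.stalk p :=
      ((X.presheaf.germ U.1 p hpU).hom.toAddMonoidHom.comp α).comp (CurvesB.HZero.equivAdd L).toAddMonoidHom
    have hf : ∀ x, f x = (X.presheaf.germ U.1 p hpU).hom (α (CurvesB.HZero.equivAdd L x)) := fun x => rfl
    refine ⟨f, fun c v => ?_, fun v hv => ?_⟩
    · rw [hf, hf, CurvesB.HZero.equivAdd_smul_over, hαs, map_mul]
      congr 1
      exact (TopCat.Presheaf.germ_res_apply X.presheaf (homOfLE le_top) p hpU _)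
    · rw [Divis.CartierBasic.stalkIdeal_eq (D v) U hpU, (hD v hv).2.2 U e _ heg (hα _), Ideal.map_span, Set.image_singleton]
      rfl
  choose f hf using h2
  refine ⟨D, f, fun v hv => ⟨(hD v hv).1, ?_⟩, fun p => (hf p).1, fun p => (hf p).2⟩
  exact mk_eq_ic_inv (hD v hv).2.1 hL (hD v hv).1

variable [IsAlgClosed k]

/-- A linear system of dimension `≥ n` has a member through `n` given points. -/
theorem exists_through {L : X.Modules} (hL : PicF.IsInvertible L) {n : ℕ} (P : Fin n → X)
    (hP : ∀ i, IsClosed ({P i} : Set X)) (h : n < Module.finrank k (Coh.HH X L 0)) :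
    ∃ (D : X.IdealSheafData) (hD : BlowUp.IsEffCartierIdeal D), mk L hL = (ic D hD)⁻¹ ∧ ∀ i, P i ∈ D.support := by
  obtain ⟨D, f, h1, h2, h3⟩ := exists_system k hL
  obtain ⟨b, hb⟩ := exists_linearIndependent_of_le_finrank (R := k) (M := Coh.HH X L 0) (n := n + 1) h
  have h4 : ∀ (i : Fin n) (v : Coh.HH X L 0), ∃ c : k, f (P i) v - Curv2.stalkMap k X (P i) c ∈
      maximalIdeal (X.presheaf.stalk (P i)) := fun i v => Double.exists_sub_mem k (hP i) _
  choose c hc using h4
  have hnl : ¬ LinearIndependent k (fun j : Fin (n + 1) => fun i : Fin n => c i (b j)) := by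
    intro h
    have := h.fintype_card_le_finrank
    simp at this
  obtain ⟨g, hg, j, hj⟩ := Fintype.not_linearIndependent_iff.mp hnl
  have hv : ∑ j, g j • b j ≠ 0 := fun h0 => hj (Fintype.linearIndependent_iff.mp hb g h0 j)
  refine ⟨D _, (h1 _ hv).choose, (h1 _ hv).choose_spec, fun i => ?_⟩
  have hg' : ∑ j, g j * c i (b j) = 0 := by
    have := congrFun hg i
    simpa [Finset.sum_apply] using this
  have h5 : f (P i) (∑ j, g j • b j) ∈ maximalIdeal (X.presheaf.stalk (P i)) := by
    have h6 : f (P i) (∑ j, g j • b j) = ∑ j, Curv2.stalkMap k X (P i) (g j) *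
        (f (P i) (b j) - Curv2.stalkMap k X (P i) (c i (b j))) := by
      simp only [mul_sub, Finset.sum_sub_distrib, ← map_mul, ← map_sum, hg', map_zero, sub_zero]
      rw [map_sum]
      simp only [h2]
    rw [h6]
    exact Ideal.sum_mem _ fun j _ => Ideal.mul_mem_left _ _ (hc i (b j))
  rw [mem_support_iff_stalkIdeal_le, h3 _ _ hv, Ideal.span_singleton_le_iff_mem]
  exact h5

end K463.Sys
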