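import Groth.Agent.Surf.K463.RRd
import Groth.Agent.Surf.K463.NumConn
import Groth.Agent.Surf.K463.PtsBlow
import Groth.Agent.Surf.K463.Sys
import Groth.Agent.Surf.K463.RatCurve
import Groth.Agent.Surf.K464.Ample
import Groth.Agent.Surf.K464.RatConf

/-!
# Surfaces with ample anticanonical class: curves of small anticanonical degree

* `DPX k w`: `w` is the canonical class, `w⁻¹` is ample and `χ(O) = 1`;
* `exists_minimal`: there is a curve `C` with `h⁰(K + C) = 0` and of minimal anticanonical degree `m` among these curves,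
  and `m ≤ 3`.
-/

set_option autoImplicit false
set_option linter.unusedSectionVars false
universe u
open CategoryTheory CategoryTheory.Limits AlgebraicGeometry TopologicalSpace IsLocalRing

namespace K463.Min

open Groth.Agent Groth.Agent.Grpsch.PicGrp K464.Base K464.Curves K463.HC K463.PtsBlow K463.NumConn

local notation "Sp" k:max => Spec (CommRingCat.of k)

variable (k : Type u) [Field k] {X : Scheme.{u}} [X.Over (Sp k)]

/-- `w` is the canonical class, `w⁻¹` is ample and `χ(O) = 1`. -/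
structure DPX (w : Pic X) : Prop where
  dim : topologicalKrullDim X = 2
  can : Can k (X ↘ (Sp k)) w
  amp : Amp w⁻¹
  chi : K464.Base.chi k X 1 = 1

variable [IsProper (X ↘ (Sp k))] [Smooth (X ↘ (Sp k))] [IsIntegral X]

theorem hc_zero_of_mul {a : Pic X} {D : X.IdealSheafData} (hD : BlowUp.IsEffCartierIdeal D)
    (h : hc k X 0 (a * (ic D hD)⁻¹) = 0) : hc k X 0 a = 0 := by
  by_contra hcon
  obtain ⟨E, hE, rfl⟩ := exists_div k (Nat.pos_of_ne_zero hcon)
  have h1 := hc_zero_inv_pos k (K458.Ram.isEff_mul hE hD)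
  rw [ic_mul hE hD, mul_inv, h] at h1
  exact absurd h1 (lt_irrefl 0)

variable {k} {w : Pic X} (P : DPX k w)

include P

theorem rr (a : Pic X) : 2 * chi k X a = dot k X a a - dot k X a w + 2 := by
  obtain ⟨W, hWi, hW, rfl⟩ := P.can
  have := RRd.rr k P.dim hW hWi a
  rw [P.chi] at this
  omega

theorem dual (a : Pic X) (m p : ℕ) (h : m + p = 2) : hc k X p a = hc k X m (w * a⁻¹) := by
  obtain ⟨W, hWi, hW, rfl⟩ := P.can
  exact RRd.hc_dual k P.dim hW hWi a m p h

theorem h0_zero {a : Pic X} (h : 0 < dot k X a w) : hc k X 0 a = 0 := by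
  obtain ⟨L, hL, hwL⟩ := P.amp
  refine RRd.hc_zero_eq_zero k P.dim hL.1 hL ?_
  rw [← hwL, dot_inv_right k X P.dim.le]
  omega

theorem ww_pos : 0 < dot k X w w := by
  obtain ⟨L, hL, hwL⟩ := P.amp
  have h6 := K464.Ample.dot_pos_of_ample k P.dim hL.1 hL.1 hL hL
  rw [← hwL, dot_inv_inv k X P.dim.le] at h6
  exact h6

theorem h2_zero {a : Pic X} (h : dot k X a w < dot k X w w) : hc k X 2 a = 0 := by
  rw [dual P a 0 2 rfl]
  refine h0_zero P ?_
  rw [dot_mul_left k X P.dim.le, dot_inv_left k X P.dim.le]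
  omega

theorem chi_le {a : Pic X} (h : dot k X a w < dot k X w w) : chi k X a ≤ hc k X 0 a := by
  have := HC.chi_le k X P.dim.le a
  rw [h2_zero P h] at this
  simpa using this

theorem eff_pos {D : X.IdealSheafData} (hD : BlowUp.IsEffCartierIdeal D) (hne : D ≠ ⊤) :
    0 < dot k X (ic D hD) w := by
  obtain ⟨L, hL, hwL⟩ := P.amp
  have h7 := RRd.dot_ic_neg_of_ample_eff k P.dim hD hne hL.1 hL
  rw [← hwL, dot_inv_right k X P.dim.le] at h7
  omega

theorem eff_nonneg {D : X.IdealSheafData} (hD : BlowUp.IsEffCartierIdeal D) : 0 ≤ dot k X (ic D hD) w := by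
  by_cases hne : D = ⊤
  · subst hne
    rw [show ic ⊤ hD = 1 from ic_top, dot_one_left]
  · exact (eff_pos P hD hne).le

theorem isEff {C : X.IdealSheafData} (hC : IsCurve C) : BlowUp.IsEffCartierIdeal C := isEff_of_smooth k P.dim hC

/-- Curves in a divisor. -/
theorem exists_comp {D : X.IdealSheafData} (hD : BlowUp.IsEffCartierIdeal D) {x : X} (hx : x ∈ D.support) :
    ∃ (C J : X.IdealSheafData), IsCurve C ∧ x ∈ C.support ∧ BlowUp.IsEffCartierIdeal J ∧ C * J = D := by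
  have : IsNoetherian X := CurvesB.CurveRR.isNoetherian_of_proper k X
  obtain ⟨E, hE, hFE, hxE⟩ := K464.Comp.exists_curve_le (X ↘ Spec (CommRingCat.of k)) P.dim hD x hx
  obtain ⟨J, hJ, hmul⟩ := Divis.ColonIdeal.exists_mul_eq (isEff P hE) hD hFE
  exact ⟨E, J, hE, hxE, hJ, hmul⟩

omit P [X.Over (Sp k)] [IsProper (X ↘ (Sp k))] [Smooth (X ↘ (Sp k))] [IsIntegral X] in
theorem exists_mem {D : X.IdealSheafData} (h : D ≠ ⊤) : ∃ x : X, x ∈ D.support := by
  by_contra hne
  push Not at hne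
  apply h
  rw [← Scheme.IdealSheafData.support_eq_bot_iff]
  apply TopologicalSpace.Closeds.ext
  ext x
  simp only [TopologicalSpace.Closeds.coe_bot, Set.mem_empty_iff_false, iff_false]
  exact hne x

omit P [X.Over (Sp k)] [IsProper (X ↘ (Sp k))] [Smooth (X ↘ (Sp k))] [IsIntegral X] in
theorem ic_eq {C J D : X.IdealSheafData} (hC : BlowUp.IsEffCartierIdeal C) (hJ : BlowUp.IsEffCartierIdeal J)
    (hD : BlowUp.IsEffCartierIdeal D) (h : C * J = D) : ic D hD = ic C hC * ic J hJ := by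
  rw [← ic_mul hC hJ]
  exact ic_congr _ _ h.symm

/-- The curves of a divisor with `h⁰(K + D) = 0`. -/
theorem adj_comp {C J D : X.IdealSheafData} (hC : BlowUp.IsEffCartierIdeal C) (hJ : BlowUp.IsEffCartierIdeal J)
    (hD : BlowUp.IsEffCartierIdeal D) (h : C * J = D) (h0 : hc k X 0 (w * (ic D hD)⁻¹) = 0) :
    hc k X 0 (w * (ic C hC)⁻¹) = 0 := by
  rw [ic_eq hC hJ hD h, mul_inv, ← mul_assoc] at h0
  exact hc_zero_of_mul k hJ h0

/-- A divisor with `h⁰(K + D) = 0` and of minimal anticanonical degree is a curve. -/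
theorem isCurve_of_min {m : ℤ} (hm : ∀ (C : X.IdealSheafData) (_ : IsCurve C) (hE : BlowUp.IsEffCartierIdeal C),
      hc k X 0 (w * (ic C hE)⁻¹) = 0 → m ≤ dot k X (ic C hE) w) {D : X.IdealSheafData}
    (hD : BlowUp.IsEffCartierIdeal D) (hne : D ≠ ⊤) (h0 : hc k X 0 (w * (ic D hD)⁻¹) = 0)
    (hle : dot k X (ic D hD) w ≤ m) : IsCurve D := by
  obtain ⟨x, hx⟩ := exists_mem hne
  obtain ⟨C, J, hC, -, hJ, hmul⟩ := exists_comp P hD hx
  have hCe := isEff P hC
  have h1 := hm C hC hCe (adj_comp P hCe hJ hD hmul h0)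
  rw [ic_eq hCe hJ hD hmul, dot_mul_left k X P.dim.le] at hle
  have h2 : J = ⊤ := by
    by_contra hJne
    have := eff_pos P hJ hJne
    omega
  subst h2
  have h3 : C * (⊤ : X.IdealSheafData) = C := mul_one C
  rw [← hmul, h3]
  exact hC

/-- There is an effective divisor with `h⁰(K + D) = 0`. -/
theorem exists_adj {a : Pic X} (ha : 0 < hc k X 0 a) (hna : ∀ n : ℕ, a * w ^ n ≠ 1) :
    ∃ (D : X.IdealSheafData) (hD : BlowUp.IsEffCartierIdeal D), D ≠ ⊤ ∧ hc k X 0 (w * (ic D hD)⁻¹) = 0 := by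
  classical
  have hex : ∃ n : ℕ, hc k X 0 (a * w ^ n) = 0 := by
    refine ⟨(dot k X a w).natAbs + 1, h0_zero P ?_⟩
    rw [dot_mul_left k X P.dim.le, dot_pow_left k X P.dim.le]
    have h1 := ww_pos P
    have h2 : ((((dot k X a w).natAbs + 1 : ℕ)) : ℤ) ≤ ((((dot k X a w).natAbs + 1 : ℕ)) : ℤ) * dot k X w w :=
      le_mul_of_one_le_right (by positivity) h1
    push_cast at h2 ⊢
    have h3 := neg_abs_le (dot k X a w)
    linarith
  set N := Nat.find hex with hN
  have h1 := Nat.find_spec hex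
  rw [← hN] at h1
  obtain ⟨M, hM⟩ : ∃ M, N = M + 1 := by
    refine Nat.exists_eq_succ_of_ne_zero fun h0 => ?_
    rw [h0, pow_zero, mul_one] at h1
    omega
  have h2 : 0 < hc k X 0 (a * w ^ M) := Nat.pos_of_ne_zero (Nat.find_min hex (m := M) (by omega))
  obtain ⟨D, hD, hDa⟩ := exists_div k h2
  refine ⟨D, hD, ?_, ?_⟩
  · rintro rfl
    rw [show ic ⊤ hD = 1 from ic_top, inv_one] at hDa
    exact hna M hDa
  · rw [hM, pow_succ, ← mul_assoc] at h1
    rw [← hDa, mul_comm w]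
    exact h1

variable [IsAlgClosed k]

theorem h1_one : hc k X 1 1 = 0 := by
  have h1 := chi_eq k X P.dim.le 1
  rw [P.chi, RRd.hc_zero_one, h2_zero P (by rw [dot_one_left]; exact ww_pos P)] at h1
  omega

theorem subsingleton_H1_quotMod {C : X.IdealSheafData} (hE : BlowUp.IsEffCartierIdeal C)
    (h0 : hc k X 0 (w * (ic C hE)⁻¹) = 0) : Subsingleton (Coh.HH X (ClSub.quotMod C) 1) := by
  refine Fga.HShift.subsingleton₃ (VarietyB.RestrSeq.idealSeq_shortExact C) 1 ?_ ?_
  · exact HC.subsingleton_of_hc k X Fdesc.LocGen.isInvertible_structureModule (h1_one P)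
  · exact HC.subsingleton_of_hc k X (Dix.IdealModCartier.isInvertible_idealMod hE)
      ((dual P (ic C hE) 0 2 rfl).trans h0)

theorem curve_data {C : X.IdealSheafData} (hC : IsCurve C) (hE : BlowUp.IsEffCartierIdeal C)
    (h0 : hc k X 0 (w * (ic C hE)⁻¹) = 0) :
    dot k X (ic C hE) (ic C hE) = dot k X (ic C hE) w - 2 := by
  have h1 := subsingleton_H1_quotMod P hE h0
  have h2 := K464.RatConf.euler_curve k hC
  rw [Module.finrank_zero_of_subsingleton] at h2
  obtain ⟨W, hWi, hW, rfl⟩ := P.can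
  have h3 := RRd.adj k P.dim hW hWi hE
  rw [h2] at h3
  push_cast at h3
  linarith

theorem chi_curve {C : X.IdealSheafData} (hC : IsCurve C) (hE : BlowUp.IsEffCartierIdeal C)
    (h0 : hc k X 0 (w * (ic C hE)⁻¹) = 0) :
    chi k X (ic C hE)⁻¹ = dot k X (ic C hE) w ∧ dot k X (ic C hE) w ≤ hc k X 0 (ic C hE)⁻¹ := by
  have h1 := curve_data P hC hE h0
  have h2 := rr P (ic C hE)⁻¹
  rw [dot_inv_inv k X P.dim.le, dot_inv_left k X P.dim.le] at h2
  have h3 : chi k X (ic C hE)⁻¹ = dot k X (ic C hE) w := by linarith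
  refine ⟨h3, h3 ▸ chi_le P ?_⟩
  rw [dot_inv_left k X P.dim.le]
  have := eff_pos P hE (ne_top_of_isCurve hC)
  have := ww_pos P
  linarith

/-- There is a curve with `h⁰(K + C) = 0` of minimal anticanonical degree `m`, and `m ≤ 3`. -/
theorem exists_minimal {a : Pic X} (ha : 0 < hc k X 0 a) (hna : ∀ n : ℕ, a * w ^ n ≠ 1) :
    ∃ (C : X.IdealSheafData) (_ : IsCurve C) (hE : BlowUp.IsEffCartierIdeal C), hc k X 0 (w * (ic C hE)⁻¹) = 0 ∧
      dot k X (ic C hE) w ≤ 3 ∧ ∀ (D : X.IdealSheafData) (_ : IsCurve D) (hE' : BlowUp.IsEffCartierIdeal D),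
      hc k X 0 (w * (ic D hE')⁻¹) = 0 → dot k X (ic C hE) w ≤ dot k X (ic D hE') w := by
  classical
  obtain ⟨D, hD, hne, hD0⟩ := exists_adj P ha hna
  obtain ⟨x, hx⟩ := exists_mem hne
  obtain ⟨C₀, J, hC₀, -, hJ, hmul⟩ := exists_comp P hD hx
  have hex : ∃ n : ℕ, ∃ (C : X.IdealSheafData) (_ : IsCurve C) (hE : BlowUp.IsEffCartierIdeal C),
      hc k X 0 (w * (ic C hE)⁻¹) = 0 ∧ dot k X (ic C hE) w = n := by
    refine ⟨(dot k X (ic C₀ (isEff P hC₀)) w).natAbs, C₀, hC₀, isEff P hC₀, adj_comp P (isEff P hC₀) hJ hD hmul hD0, ?_⟩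
    have := eff_nonneg P (isEff P hC₀)
    omega
  obtain ⟨C, hC, hE, h0, hdot⟩ := Nat.find_spec hex
  have hmin : ∀ (D : X.IdealSheafData) (_ : IsCurve D) (hE' : BlowUp.IsEffCartierIdeal D),
      hc k X 0 (w * (ic D hE')⁻¹) = 0 → dot k X (ic C hE) w ≤ dot k X (ic D hE') w := by
    intro D hD hE' h0'
    by_contra hlt
    push Not at hlt
    have h1 := eff_nonneg P hE'
    refine Nat.find_min hex (m := (dot k X (ic D hE') w).toNat) ?_ ⟨D, hD, hE', h0', by omega⟩
    omega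
  refine ⟨C, hC, hE, h0, ?_, hmin⟩
  by_contra hgt
  push Not at hgt
  obtain ⟨-, h2⟩ := chi_curve P hC hE h0
  have h4 : 4 ≤ hc k X 0 (ic C hE)⁻¹ := by
    have : (4 : ℤ) ≤ hc k X 0 (ic C hE)⁻¹ := by linarith
    exact_mod_cast this
  have hpcl : ∃ p : X, IsClosed ({p} : Set X) := by
    have : IsNoetherian X := CurvesB.CurveRR.isNoetherian_of_proper k X
    obtain ⟨p, -, hp⟩ := IsClosed.exists_closed_singleton (X := X) (S := Set.univ) isClosed_univ Set.univ_nonempty
    exact ⟨p, hp⟩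
  obtain ⟨p, hp⟩ := hpcl
  obtain ⟨L, hL, hLC⟩ := exists_mk (ic C hE)⁻¹
  rw [hLC, hc_mk] at h4
  have hsps : K463.Bir.SPS k (X ↘ (Sp k)) := ⟨inferInstance, P.dim, inferInstance, inferInstance⟩
  have hreg := S1535.result k X p
  have hdim := hsps.stalk_dim p hp
  obtain ⟨D, hD, hLD, hD2⟩ := Double.exists_double k hL p hp hreg hdim h4
  rw [← hLC, inv_inj] at hLD
  have hDne : D ≠ ⊤ := by
    rintro rfl
    have h5 := eff_pos P hE (ne_top_of_isCurve hC)
    rw [hLD, show ic ⊤ hD = 1 from ic_top, dot_one_left] at h5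
    exact lt_irrefl _ h5
  have hDC : IsCurve D := isCurve_of_min P hmin hD hDne (by rw [← hLD]; exact h0) (by rw [← hLD])
  have h6 := subsingleton_H1_quotMod P hD (by rw [← hLD]; exact h0)
  refine RatCurve.not_le_sq k hDC hD h6 p hreg hdim ?_ hD2
  rw [Divis.CartierBasic.mem_support_iff_stalkIdeal_le]
  exact hD2.trans (Ideal.pow_le_self two_ne_zero)

end K463.Min
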