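import Groth.Agent.Surf.K463.PnTw
import Groth.Agent.Surf.K463.HC
import Groth.Agent.AbVar.K817.VeryAmple

/-!
# Very ampleness by regularity (after K817.VeryAmple)

`L` ample and globally generated on a proper scheme of dimension `≤ 2`, with `H¹(L^a) = 0` for `a ≥ 0` and `H²(L^a) = 0`
for `a ≥ -1`: the complete linear system of `L` is a closed immersion.
-/

set_option autoImplicit false
set_option linter.unusedSectionVars false
universe u
open CategoryTheory CategoryTheory.Limits AlgebraicGeometry Opposite TopologicalSpace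

namespace K463.Regul

open Groth.Agent Groth.Agent.Grpsch.PicGrp K464.Base K463.PnTw K463.HC
open Groth.Agent.Ega3B.ProjFrame Groth.Agent.Sga67.FramedGr K817.PullGr K817.RingGen K817.VeryAmple

local notation "Sp" k:max => Spec (CommRingCat.of k)

theorem exists_closedImmersion (k : Type u) [Field k] {X : Scheme.{u}} [X.Over (Sp k)]
    [IsProper (X ↘ (Sp k))] [Nonempty X] (hg : topologicalKrullDim X ≤ (2 : ℕ))
    (L : X.Modules) (hA : CohB1.IsAmple L) (hgg : Curv2.IsGloballyGenerated L)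
    (h1 : ∀ a : ℤ, 0 ≤ a → hc k X 1 (mk L hA.1 ^ a) = 0) (h2 : ∀ a : ℤ, -1 ≤ a → hc k X 2 (mk L hA.1 ^ a) = 0) :
    ∃ (N : ℕ) (f : X ⟶ CohB1.ProjSpace N k), IsClosedImmersion f ∧
      f ≫ CohB1.ProjSpace.toSpec N k = X ↘ Spec (CommRingCat.of k) ∧
      Nonempty ((Scheme.Modules.pullback f).obj (Twist.twistProjSpace N k 1) ≅ L) ∧
      N + 1 = Module.finrank k (Coh.HH X L 0) := by
  have hN := K817.VeryAmple.isNoetherian k X
  have hL := hA.1
  obtain ⟨r, s, hs⟩ := exists_sections hL hgg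
  obtain ⟨φ, -, -, hpre, -, e, -⟩ := Groth.Agent.CurvesC.ProjMap.exists_morphism (X ↘ Spec (CommRingCat.of k)) L s hs
  have haff : ∀ i, IsAffineOpen (φ ⁻¹ᵁ (frameProj r k).W i) := by
    intro i
    have h1 : φ ⁻¹ᵁ (frameProj r k).W i = CohB1.genLocus L (s i) := hpre i
    rw [h1]
    exact Groth.Agent.K385.GenLocusAffine.isAffineOpen_genLocus (X ↘ Spec (CommRingCat.of k)) hA (s i)
  have hinv : ∀ a : ℤ, PicF.IsInvertible ((gr φ).obj a) := isInvertible_gr φ
  have hcl : ∀ a : ℤ, mk ((gr φ).obj a) (hinv a) = mk L hL ^ a := by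
    intro a
    have h3 : mk ((gr φ).obj a) (hinv a) = tw k r φ a := rfl
    have h4 : tw k r φ 1 = mk L hL := (mk_eq_iff _ _).mpr ⟨e⟩
    rw [h3, tw_eq_pow, h4]
  have hone : mk ((gr φ).obj 0) (hinv 0) = mk _ Fdesc.LocGen.isInvertible_structureModule := by
    rw [hcl, zpow_zero]; rfl
  obtain ⟨e0⟩ := (mk_eq_iff _ _).mp hone
  have hS : Gen (gr φ) 1 := by
    intro n hn t
    refine exists_sum (gr φ) (locInv φ) (idx 0 n) (fun j hj1 _ => ?_) t
    rcases Nat.lt_or_ge 2 j with hj | hj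
    · exact Groth.Agent.Fga.EulerLEAdd.subsingleton_HH X 2 hg _ j hj
    · have hj' : j = 1 ∨ j = 2 := by omega
      rcases hj' with rfl | rfl
      · refine HC.subsingleton_of_hc k X (hinv _) ?_
        rw [hcl]
        exact h1 _ (by rw [idx_eq]; push_cast; omega)
      · refine HC.subsingleton_of_hc k X (hinv _) ?_
        rw [hcl]
        exact h2 _ (by rw [idx_eq]; push_cast; omega)
  obtain ⟨N, f, hf, hfp, ⟨ef⟩, hfN⟩ := K817.RingGen.exists_closedImmersion (framed φ haff) k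
    (Groth.Agent.VarietyA.CurveFin.isCoh_of_isInvertible (hinv 0)).1
    (e0.inv.app ⊤ (Groth.Agent.Fdesc.LocGen.one ⊤)) ((Groth.Agent.Fdesc.LocGen.isGen_one ⊤).app e0.inv) 1 le_rfl hS
    (hinv _) (Groth.Agent.VarietyA.CurveFin.finite_HH k X (hinv _) 0)
  have hcl1 : mk ((gr φ).obj (idx 0 1)) (hinv _) = mk L hL := by
    rw [hcl, idx_eq]; norm_num
  obtain ⟨ev⟩ := (mk_eq_iff _ _).mp hcl1
  refine ⟨N, f, hf, hfp, ⟨ef ≪≫ ev⟩, hfN.trans ?_⟩
  exact (Groth.Agent.CurvesA.HHMap.equivOver k ev 0).finrank_eq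

end K463.Regul
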