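import Groth.Agent.Surf.K463.Pencil
import Groth.Agent.Surf.K463.Regul

/-!
# Surfaces with ample anticanonical class: the case of a net

A curve `C` with `h⁰(K + C) = 0` of minimal anticanonical degree `3` gives `X ≅ P²`.
-/

set_option autoImplicit false
set_option linter.unusedSectionVars false
universe u
open CategoryTheory CategoryTheory.Limits AlgebraicGeometry TopologicalSpace IsLocalRing

namespace K463.Net

open Groth.Agent Groth.Agent.Grpsch.PicGrp K464.Base K464.Curves K463.HC K463.PtsBlow K463.NumConn K463.Min K463.Pencil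

local notation "Sp" k:max => Spec (CommRingCat.of k)

section alg

theorem exists_comb3 {k R : Type*} [Field k] [CommRing R] [IsLocalRing R] (φ : k →+* R)
    (hφ : ∀ a : R, ∃ c : k, a - φ c ∈ maximalIdeal R) (x y : R) (hxy : maximalIdeal R = Ideal.span {x, y})
    {V : Type*} [AddCommGroup V] [Module k V] (hV : 3 ≤ Module.finrank k V) (f : V →+ R)
    (hf : ∀ (c : k) (v : V), f (c • v) = φ c * f v) (hm : ∀ v, f v ∈ maximalIdeal R) :
    ∃ v : V, v ≠ 0 ∧ f v ∈ maximalIdeal R ^ 2 := by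
  obtain ⟨b, hb⟩ := exists_linearIndependent_of_le_finrank hV
  choose c hc using fun i : Fin 3 => Double.exists_expand φ hφ x y hxy (f (b i))
  have hx : x ∈ maximalIdeal R := by rw [hxy]; exact Ideal.subset_span (by simp)
  have hy : y ∈ maximalIdeal R := by rw [hxy]; exact Ideal.subset_span (by simp)
  have hc0 : ∀ i, c i 0 = 0 := by
    intro i
    by_contra hne
    have h1 := Ideal.pow_le_self two_ne_zero (hc i)
    have h2 : φ (c i 0) ∈ maximalIdeal R := by
      have h3 : φ (c i 0) = f (b i) - (f (b i) - (φ (c i 0) + φ (c i 1) * x + φ (c i 2) * y))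
          - φ (c i 1) * x - φ (c i 2) * y := by ring
      rw [h3]
      exact Ideal.sub_mem _ (Ideal.sub_mem _ (Ideal.sub_mem _ (hm _) h1) (Ideal.mul_mem_left _ _ hx))
        (Ideal.mul_mem_left _ _ hy)
    exact (mem_maximalIdeal _).mp h2 ((isUnit_iff_ne_zero.mpr hne).map φ)
  have hnl : ¬ LinearIndependent k (fun i : Fin 3 => (![c i 1, c i 2] : Fin 2 → k)) := by
    intro h
    have := h.fintype_card_le_finrank
    simp at this
  obtain ⟨g, hg, i, hi⟩ := Fintype.not_linearIndependent_iff.mp hnl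
  refine ⟨∑ i, g i • b i, fun h0 => hi (Fintype.linearIndependent_iff.mp hb g h0 i), ?_⟩
  have hg1 : ∑ i, g i * c i 1 = 0 := by
    have := congrFun hg 0
    simpa [Finset.sum_apply] using this
  have hg2 : ∑ i, g i * c i 2 = 0 := by
    have := congrFun hg 1
    simpa [Finset.sum_apply] using this
  have h1 : f (∑ i, g i • b i) = ∑ i, φ (g i) * (f (b i) - (φ (c i 0) + φ (c i 1) * x + φ (c i 2) * y)) := by
    have h2 : ∑ i, φ (g i) * (f (b i) - (φ (c i 0) + φ (c i 1) * x + φ (c i 2) * y)) =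
        ∑ i, φ (g i) * f (b i) - (φ (∑ i, g i * c i 1) * x + φ (∑ i, g i * c i 2) * y) := by
      simp only [map_sum, map_mul, Finset.sum_mul, ← Finset.sum_add_distrib, ← Finset.sum_sub_distrib]
      refine Finset.sum_congr rfl fun i _ => ?_
      rw [hc0 i, map_zero]
      ring
    rw [h2, hg1, hg2, map_zero, map_sum]
    simp only [hf]
    ring
  rw [h1]
  exact Ideal.sum_mem _ fun i _ => Ideal.mul_mem_left _ _ (hc i)

end alg

variable {k : Type u} [Field k] [IsAlgClosed k] {X : Scheme.{u}} [X.Over (Sp k)]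
  [IsProper (X ↘ (Sp k))] [Smooth (X ↘ (Sp k))] [IsIntegral X]

omit [Smooth (X ↘ (Sp k))] [IsIntegral X] in
theorem h1_step {C : X.IdealSheafData} (hC : IsCurve C) (hE : BlowUp.IsEffCartierIdeal C)
    (hC1 : Subsingleton (Coh.HH X (ClSub.quotMod C) 1)) {b : Pic X} (h : hc k X 1 (ic C hE * b) = 0)
    (hdeg : -1 ≤ degOn k X C b) : hc k X 1 b = 0 := by
  obtain ⟨L, hL, rfl⟩ := exists_mk b
  have hS := Fga.TwistCoh.shortExact_tensorBi hL _ (VarietyB.RestrSeq.idealSeq_shortExact C)
  rw [ic, mk_mul_mk] at h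
  have h1 := HC.subsingleton_of_hc k X _ h
  have h2 := K464.Cohom.subsingleton_H1_of_rational k hC hC1 hL hdeg
  have h3 := Fga.HShift.subsingleton₂ hS 1
    (Fga.HShift.subsingleton_of_iso (Ega2.Tens.swap (ClSub.idealMod C) L) 1 h1)
    (Fga.HShift.subsingleton_of_iso (Ega2.Tens.swap (ClSub.quotMod C) L) 1 h2)
  have h4 : Subsingleton (Coh.HH X L 1) :=
    Fga.HShift.subsingleton_of_iso (Ega2.Tens.swap L (Coh.structureModule X) ≪≫ Ega2.Tens.lunit L) 1 h3
  rw [hc_mk]
  exact Module.finrank_zero_of_subsingleton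

variable {w : Pic X} (P : DPX k w)

/-- A net: `a² = 1`, `K·a = -3`, `h⁰(K + a) = 0`, and all members are curves. -/
structure IsNet (k : Type u) [Field k] {X : Scheme.{u}} [X.Over (Sp k)] (w a : Pic X) : Prop where
  sq : dot k X a a = 1
  deg : dot k X a w = -3
  adj : hc k X 0 (w * a) = 0
  curve : ∀ (D : X.IdealSheafData) (hD : BlowUp.IsEffCartierIdeal D), a = (ic D hD)⁻¹ → IsCurve D

include P

theorem isNet {C : X.IdealSheafData} (hC : IsCurve C) (hE : BlowUp.IsEffCartierIdeal C)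
    (h0 : hc k X 0 (w * (ic C hE)⁻¹) = 0) (h3 : dot k X (ic C hE) w = 3)
    (hmin : ∀ (D : X.IdealSheafData) (_ : IsCurve D) (hE' : BlowUp.IsEffCartierIdeal D),
      hc k X 0 (w * (ic D hE')⁻¹) = 0 → dot k X (ic C hE) w ≤ dot k X (ic D hE') w) : IsNet k w (ic C hE)⁻¹ := by
  have hd := P.dim.le
  have h1 := curve_data P hC hE h0
  refine ⟨by rw [dot_inv_inv k X hd]; omega, by rw [dot_inv_left k X hd]; omega, h0, fun D hD hDC => ?_⟩
  rw [inv_inj] at hDC
  refine isCurve_of_min P hmin hD ?_ (by rw [← hDC]; exact h0) (by rw [← hDC])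
  rintro rfl
  rw [hDC, show ic ⊤ hD = 1 from ic_top, dot_one_left] at h3
  exact absurd h3 (by norm_num)

variable {a : Pic X} (ha : IsNet k w a)

include ha

theorem h0_ge : 3 ≤ hc k X 0 a := by
  have h1 := rr P a
  rw [ha.sq, ha.deg] at h1
  have h2 := Min.chi_le P (a := a) (by rw [ha.deg]; have := ww_pos P; omega)
  have h3 : (3 : ℤ) ≤ hc k X 0 a := by linarith
  exact_mod_cast h3

theorem exists_member (p q : X) (hp : IsClosed ({p} : Set X)) (hq : IsClosed ({q} : Set X)) :
    ∃ (D : X.IdealSheafData) (hD : BlowUp.IsEffCartierIdeal D), a = (ic D hD)⁻¹ ∧ p ∈ D.support ∧ q ∈ D.support := by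
  have h2 := h0_ge P ha
  obtain ⟨L, hL, rfl⟩ := exists_mk a
  rw [hc_mk] at h2
  obtain ⟨D, hD, h1, h3⟩ := Sys.exists_through k hL (n := 2) ![p, q] (fun i => by
    fin_cases i
    · exact hp
    · exact hq) (by omega)
  exact ⟨D, hD, h1, h3 0, h3 1⟩

/-- The product with a curve is positive. -/
theorem dot_neg {D : X.IdealSheafData} (hD : IsCurve D) (hE : BlowUp.IsEffCartierIdeal D) :
    dot k X a (ic D hE) < 0 := by
  have hd := P.dim.le
  obtain ⟨p, hpD, hp⟩ := exists_closed P (ne_top_of_isCurve hD)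
  obtain ⟨q, hqD, hq⟩ := exists_closed_off P hE
  obtain ⟨C, hC, haC, hpC, hqC⟩ := exists_member P ha p q hp hq
  have hCc := ha.curve C hC haC
  have hne : C ≠ D := by rintro rfl; exact hqD hqC
  have h4 := dot_ic_ic_pos k hCc hC hE (gp_notMem hCc hD hne) (by
    rw [Set.not_disjoint_iff]
    exact ⟨p, hpC, hpD⟩)
  rw [haC, dot_inv_left k X hd]
  omega

theorem ample {L : X.Modules} (hL : PicF.IsInvertible L) (haL : mk L hL = a) : CohB1.IsAmple L := by
  have hd := P.dim.le
  refine K465.NakSurf.nak k P.dim L hL ?_ ?_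
  · rw [haL, ha.sq]; norm_num
  · intro D hD
    have hDe := isEff P hD
    have h1 := dot_neg P ha hD hDe
    rw [dot_comm] at h1
    rw [haL, degOn_eq_neg_dot k X hDe]
    omega

/-- A member off a given closed point. -/
theorem exists_off (p : X) (hp : IsClosed ({p} : Set X)) :
    ∃ (D : X.IdealSheafData) (hD : BlowUp.IsEffCartierIdeal D), a = (ic D hD)⁻¹ ∧ p ∉ D.support := by
  have hsps : K463.Bir.SPS k (X ↘ (Sp k)) := ⟨inferInstance, P.dim, inferInstance, inferInstance⟩
  have hreg := S1535.result k X p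
  have hdim := hsps.stalk_dim p hp
  have h2 := h0_ge P ha
  obtain ⟨L, hL, rfl⟩ := exists_mk a
  rw [hc_mk] at h2
  obtain ⟨D, f, h3, h4, h5⟩ := Sys.exists_system k hL
  by_contra hcon
  push Not at hcon
  have hm : ∀ v, f p v ∈ maximalIdeal (X.presheaf.stalk p) := by
    intro v
    by_cases hv : v = 0
    · rw [hv, map_zero]; exact Ideal.zero_mem _
    · obtain ⟨hD, hDL⟩ := h3 v hv
      have h6 := hcon (D v) hD hDL
      rw [Divis.CartierBasic.mem_support_iff_stalkIdeal_le, h5 p v hv, Ideal.span_singleton_le_iff_mem] at h6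
      exact h6
  obtain ⟨x, y, hxy⟩ := Double.exists_two hdim
  obtain ⟨v, hv, hfv⟩ := exists_comb3 (Curv2.stalkMap k X p) (Double.exists_sub_mem k hp) x y hxy h2 (f p) (h4 p) hm
  obtain ⟨hD, hDL⟩ := h3 v hv
  have hDc := ha.curve (D v) hD hDL
  have h6 := subsingleton_H1_quotMod P hD (by rw [← hDL]; exact ha.adj)
  refine RatCurve.not_le_sq k hDc hD h6 p hreg hdim (hcon (D v) hD hDL) ?_
  rw [h5 p v hv, Ideal.span_singleton_le_iff_mem]
  exact hfv

theorem gg {L : X.Modules} (hL : PicF.IsInvertible L) (haL : mk L hL = a) : Curv2.IsGloballyGenerated L := by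
  have : IsNoetherian X := CurvesB.CurveRR.isNoetherian_of_proper k X
  have h1 : ∀ x : X, ∃ s : Coh.structureModule X ⟶ L, x ∈ CohB1.genLocus L s := by
    intro x
    obtain ⟨p, hpx, hp⟩ := IsClosed.exists_closed_singleton (X := X) (S := closure {x}) isClosed_closure
      ⟨x, subset_closure rfl⟩
    obtain ⟨D, hD, haD, hpD⟩ := exists_off P ha p hp
    refine exists_section_off P hD hL (haL.trans haD) (fun h => hpD ?_)
    exact closure_minimal (Set.singleton_subset_iff.mpr h) D.support.isClosed hpx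
  choose f hf using h1
  exact VarietyA.Dim1GlobGen.isGloballyGenerated f fun x => ⟨x, hf x⟩

theorem h2_pow (n : ℤ) (hn : -1 ≤ n) : hc k X 2 (a ^ n) = 0 := by
  have hd := P.dim.le
  rcases eq_or_lt_of_le hn with rfl | h
  · rw [dual P _ 0 2 rfl, zpow_neg_one, inv_inv]
    exact ha.adj
  · refine h2_zero P ?_
    rw [dot_zpow_left k X hd, ha.deg]
    have := ww_pos P
    omega

theorem h1_pow (n : ℕ) : hc k X 1 (a ^ n) = 0 := by
  have hd := P.dim.le
  have h2 := h0_ge P ha
  obtain ⟨C, hE, haC⟩ := exists_div k (a := a) (by omega)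
  have hC := ha.curve C hE haC
  have hC1 := subsingleton_H1_quotMod P hE (by rw [← haC]; exact ha.adj)
  have hic : ic C hE = a⁻¹ := by rw [haC, inv_inv]
  induction n with
  | zero => rw [pow_zero]; exact h1_one P
  | succ n ih =>
    refine h1_step hC hE hC1 ?_ ?_
    · rw [hic, pow_succ', inv_mul_cancel_left]
      exact ih
    · rw [degOn_eq_neg_dot k X hE, hic, dot_inv_left k X hd, dot_pow_right k X hd, ha.sq]
      push_cast
      omega

theorem h0_eq : hc k X 0 a = 3 := by
  have h1 := rr P a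
  rw [ha.sq, ha.deg] at h1
  have h2 := h1_pow P ha 1
  have h3 := h2_pow P ha 1 (by norm_num)
  rw [pow_one] at h2
  rw [zpow_one] at h3
  have h4 := chi_eq k X P.dim.le a
  rw [h2, h3] at h4
  have h5 : (hc k X 0 a : ℤ) = 3 := by
    push_cast at h4
    linarith
  exact_mod_cast h5

/-- `X ≅ P²`. -/
theorem exists_iso : ∃ e : X ≅ CohB1.ProjSpace 2 k, e.hom ≫ CohB1.ProjSpace.toSpec 2 k = X ↘ (Sp k) ∧
    pull e.hom (K463.Plane.ell k) = a := by
  obtain ⟨L, hL, rfl⟩ := exists_mk a
  have hamp := ample P ha hL rfl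
  obtain ⟨N, f, hf, hfp, ⟨ef⟩, hN⟩ := Regul.exists_closedImmersion k P.dim.le L hamp (gg P ha hL rfl)
    (fun n hn => by
      obtain ⟨m, rfl⟩ := Int.eq_ofNat_of_zero_le hn
      exact h1_pow P ha m) (fun n hn => h2_pow P ha n hn)
  have h3 := h0_eq P ha
  rw [hc_mk, ← hN] at h3
  obtain rfl : N = 2 := by omega
  have hPint := (Plane.sps k).int
  have hsurj : Function.Surjective f := by
    rw [← Set.range_eq_univ]
    by_contra hr
    have hdP := (Plane.sps k).dim
    have h3 := Groth.Agent.Pic13.H946.Main.dim_lt_of_range_ne (n := 2)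
      (by rw [hdP]; exact_mod_cast Nat.lt_succ_self 2) f hr
    rw [P.dim] at h3
    exact absurd h3 (lt_irrefl _)
  have : Surjective f := ⟨hsurj⟩
  have hiso : IsIso f := isIso_of_isClosedImmersion_of_surjective f
  refine ⟨asIso f, hfp, ?_⟩
  have h4 : pull f (K463.Plane.ell k) = PnTw.tw k 2 f 1 := by
    rw [K463.Plane.ell, PnTw.tw, PnTw.tw, pull_mk, mk_eq_iff]
    exact ⟨(Scheme.Modules.pullback f).mapIso ((Scheme.Modules.pullbackId _).app _)⟩
  rw [asIso_hom, h4]
  exact (mk_eq_iff _ _).mpr ⟨ef⟩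

end K463.Net
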