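import Groth.Agent.Surf.K463.PtsBlow
import Groth.Agent.Surf.K463.Roof
import Groth.Agent.Surf.K461.BlowChi
import Groth.Agent.Surf.K461.LerayAmp

/-!
# Numerical invariants of rational surfaces

* `UM k s`: the intersection form of the surface is unimodular;
* `RS k s`: `ρ + K² = 10`, the form is unimodular, `χ(O) = 1`; a birational invariant, true for rational surfaces.
-/

set_option autoImplicit false
set_option linter.unusedSectionVars false
universe u
open CategoryTheory CategoryTheory.Limits AlgebraicGeometry Opposite TopologicalSpace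

namespace K463.RS

open Groth.Agent Groth.Agent.Grpsch.PicGrp K464.Base K463.Bir K463.Noether K463.Plane Groth.Agent.Dix.PointIdeal
  K463.PtsBlow

local notation "Sp" k:max => Spec (CommRingCat.of k)

/-- The intersection form is unimodular. -/
def UM (k : Type u) [Field k] {X : Scheme.{u}} (s : X ⟶ Sp k) : Prop :=
  letI : X.Over (Sp k) := ⟨s⟩
  ∀ φ : Additive (Pic X) →+ ℤ, ∃ a : Pic X, ∀ b : Pic X, φ (Additive.ofMul b) = dot k X a b

/-- The numerical invariants of a rational surface. -/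
def RS (k : Type u) [Field k] {X : Scheme.{u}} (s : X ⟶ Sp k) : Prop :=
  letI : X.Over (Sp k) := ⟨s⟩
  NF k s ∧ UM k s ∧ chi k X 1 = 1

section

variable {k : Type u} [Field k]

theorem chi_iso {X Y : Scheme.{u}} {s : X ⟶ Sp k} {t : Y ⟶ Sp k} (e : X ≅ Y) (he : e.hom ≫ t = s) (ht : SPS k t) :
    letI : X.Over (Sp k) := ⟨s⟩; letI : Y.Over (Sp k) := ⟨t⟩
    ∀ a : Pic Y, chi k X (pull e.hom a) = chi k Y a := by
  have hs := ht.of_iso e he
  letI : X.Over (Sp k) := ⟨s⟩
  letI : Y.Over (Sp k) := ⟨t⟩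
  have := hs.int
  have : IsProper (X ↘ (Sp k)) := hs.proper
  have : Smooth (X ↘ (Sp k)) := hs.smooth
  have := ht.int
  have : IsProper (Y ↘ (Sp k)) := ht.proper
  have : Smooth (Y ↘ (Sp k)) := ht.smooth
  intro a
  obtain ⟨L, hL, rfl⟩ := exists_mk a
  rw [pull_mk, chi_mk, chi_mk]
  exact CurvesC.DegIso.euler_pullback_iso k e he L

theorem dot_iso {X Y : Scheme.{u}} {s : X ⟶ Sp k} {t : Y ⟶ Sp k} (e : X ≅ Y) (he : e.hom ≫ t = s) (ht : SPS k t) :
    letI : X.Over (Sp k) := ⟨s⟩; letI : Y.Over (Sp k) := ⟨t⟩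
    ∀ a b : Pic Y, dot k X (pull e.hom a) (pull e.hom b) = dot k Y a b := by
  letI : X.Over (Sp k) := ⟨s⟩
  letI : Y.Over (Sp k) := ⟨t⟩
  intro a b
  have h := chi_iso e he ht
  rw [dot_def, dot_def, ← map_mul, h, h, h, ← h 1, map_one]

theorem UM_iso {X Y : Scheme.{u}} {s : X ⟶ Sp k} {t : Y ⟶ Sp k} (e : X ≅ Y) (he : e.hom ≫ t = s) (ht : SPS k t) :
    UM k s ↔ UM k t := by
  letI : X.Over (Sp k) := ⟨s⟩
  letI : Y.Over (Sp k) := ⟨t⟩
  have hdot := dot_iso e he ht
  have h1 : ∀ a : Pic X, pull e.hom (pull e.inv a) = a := fun a => by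
    rw [← pull_comp, e.hom_inv_id, pull_id]
  have h2 : ∀ a : Pic Y, pull e.inv (pull e.hom a) = a := fun a => by
    rw [← pull_comp, e.inv_hom_id, pull_id]
  constructor
  · intro h φ
    obtain ⟨a, ha⟩ := h (φ.comp (MonoidHom.toAdditive (pull e.inv)))
    refine ⟨pull e.inv a, fun b => ?_⟩
    have h3 := ha (pull e.hom b)
    have h4 : φ (Additive.ofMul (pull e.inv (pull e.hom b))) = dot k X a (pull e.hom b) := h3
    rw [h2] at h4
    rw [h4]
    conv_lhs => rw [← h1 a]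
    exact hdot _ _
  · intro h φ
    obtain ⟨a, ha⟩ := h (φ.comp (MonoidHom.toAdditive (pull e.hom)))
    refine ⟨pull e.hom a, fun b => ?_⟩
    have h3 : φ (Additive.ofMul (pull e.hom (pull e.inv b))) = dot k Y a (pull e.inv b) := ha (pull e.inv b)
    rw [h1] at h3
    rw [h3]
    conv_rhs => rw [← h1 b]
    exact (hdot _ _).symm

variable [IsAlgClosed k]

theorem UM_blow {X Y : Scheme.{u}} {t : Y ⟶ Sp k} (h : SPS k t) (y : Y) (hy : IsClosed ({y} : Set Y)) (π : X ⟶ Y)
    (hπ : BlowUp.IsBlowUp π (pt y hy)) : UM k (π ≫ t) ↔ UM k t := by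
  letI : X.Over (Sp k) := ⟨π ≫ t⟩
  letI : Y.Over (Sp k) := ⟨t⟩
  have hX := h.blowUp y hy π hπ
  have := hX.int
  have : IsProper (X ↘ (Sp k)) := hX.proper
  have : Smooth (X ↘ (Sp k)) := hX.smooth
  have := h.int
  have : IsProper (Y ↘ (Sp k)) := h.proper
  have : Smooth (Y ↘ (Sp k)) := h.smooth
  obtain ⟨h1, h2, h3, h4, h5⟩ := blow_data h y hy π hπ
  have hd' : topologicalKrullDim X ≤ (2 : ℕ) := hX.dim.le
  have hd : topologicalKrullDim Y ≤ (2 : ℕ) := h.dim.le
  set e := ic ((pt y hy).comap π) hπ.1 with he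
  have h2' : ∀ (a : Pic Y) (n : ℤ), dot k X (pull π a) (e ^ n) = 0 := fun a n => by
    rw [dot_zpow_right k X hd', h2, mul_zero]
  let f : (Additive (Pic Y) × ℤ) →+ Additive (Pic X) :=
    (MonoidHom.toAdditive (pull π)).coprod ((zmultiplesHom (Additive (Pic X))) (Additive.ofMul e))
  have hf : ∀ (a : Pic Y) (n : ℤ), f (Additive.ofMul a, n) = Additive.ofMul (pull π a * e ^ n) := fun a n => rfl
  have hinj : Function.Injective f := by
    rw [injective_iff_map_eq_zero]
    rintro ⟨a, n⟩ han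
    have h6 : pull π a.toMul * e ^ n = 1 := han
    have h7 : dot k X (pull π a.toMul * e ^ n) e = -n := by
      rw [dot_mul_left k X hd', h2, dot_zpow_left k X hd', h3]; ring
    rw [h6, dot_one_left] at h7
    obtain rfl : n = 0 := by omega
    rw [zpow_zero, mul_one] at h6
    have h8 : a.toMul = 1 := h5 (by rw [h6, map_one])
    exact Prod.ext h8 rfl
  have hsurj : Function.Surjective f := by
    intro a
    obtain ⟨b, n, hb⟩ := h4 a.toMul
    exact ⟨(Additive.ofMul b, n), (hf b n).trans (congrArg Additive.ofMul hb.symm)⟩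
  let F := AddEquiv.ofBijective f ⟨hinj, hsurj⟩
  have hF : ∀ (a : Pic Y) (n : ℤ), F (Additive.ofMul a, n) = Additive.ofMul (pull π a * e ^ n) := fun a n => rfl
  constructor
  · intro hU φ
    obtain ⟨a, ha⟩ := hU ((φ.comp (AddMonoidHom.fst _ _)).comp F.symm.toAddMonoidHom)
    obtain ⟨c, m, hcm⟩ := h4 a
    refine ⟨c, fun b => ?_⟩
    have h6 : φ ((F.symm (Additive.ofMul (pull π b))).1) = dot k X a (pull π b) := ha (pull π b)
    have h7 : F.symm (Additive.ofMul (pull π b)) = (Additive.ofMul b, 0) := by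
      rw [AddEquiv.symm_apply_eq, hF, zpow_zero, mul_one]
    rw [h7] at h6
    change φ (Additive.ofMul b) = _ at h6
    rw [h6, hcm, dot_mul_left k X hd', h1, dot_comm k X (e ^ m), h2', add_zero]
  · intro hU φ
    obtain ⟨c, hc⟩ := hU (φ.comp (MonoidHom.toAdditive (pull π)))
    refine ⟨pull π c * e ^ (-φ (Additive.ofMul e)), fun b => ?_⟩
    obtain ⟨d, n, rfl⟩ := h4 b
    have h6 : φ (Additive.ofMul (pull π d)) = dot k Y c d := hc d
    have h7 : Additive.ofMul (pull π d * e ^ n) = Additive.ofMul (pull π d) + n • Additive.ofMul e := rfl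
    rw [h7, map_add, map_zsmul, h6, dot_mul_left k X hd', dot_mul_right k X hd', dot_mul_right k X hd', h1, h2',
      dot_zpow_left k X hd', dot_zpow_left k X hd', dot_comm k X e (pull π d), h2, dot_zpow_right k X hd', h3]
    simp only [smul_eq_mul]
    ring

theorem chi_blow {X Y : Scheme.{u}} {t : Y ⟶ Sp k} (h : SPS k t) (y : Y) (hy : IsClosed ({y} : Set Y)) (π : X ⟶ Y)
    (hπ : BlowUp.IsBlowUp π (pt y hy)) : letI : X.Over (Sp k) := ⟨π ≫ t⟩; letI : Y.Over (Sp k) := ⟨t⟩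
    ∀ a : Pic Y, chi k X (pull π a) = chi k Y a := by
  letI : X.Over (Sp k) := ⟨π ≫ t⟩
  letI : Y.Over (Sp k) := ⟨t⟩
  have hX := h.blowUp y hy π hπ
  have := hX.int
  have : IsProper (X ↘ (Sp k)) := hX.proper
  have : Smooth (X ↘ (Sp k)) := hX.smooth
  have := h.int
  have : IsProper (Y ↘ (Sp k)) := h.proper
  have : Smooth (Y ↘ (Sp k)) := h.smooth
  have := h.noeth
  have := hX.noeth
  have hp : IsProper π := (isBir_blowUp h y hy π hπ).proper
  intro a
  obtain ⟨L, hL, rfl⟩ := exists_mk a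
  rw [pull_mk, chi_mk, chi_mk]
  refine K461.BlowChi.euler_pull_points k π rfl h.isSurf.regular ⟨{y}, hy⟩ ?_ ?_ hπ
    (K461.LerayAmp.isFinLocFree_of_isInvertible hL)
  · rintro x (rfl : x = y)
    exact hy
  · intro hu
    have h1 := h.stalk_dim y hy
    have h2 : genericPoint Y = y := by
      have : genericPoint Y ∈ ({y} : Set Y) := by
        change ({y} : Set Y) = Set.univ at hu
        rw [hu]; trivial
      exact this
    rw [← h2] at h1
    have h3 : ringKrullDim (Y.presheaf.stalk (genericPoint Y)) = 0 := by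
      exact ringKrullDim_eq_zero_of_isField (Field.toIsField Y.functionField)
    rw [h3] at h1
    exact absurd h1 (by norm_num)

theorem RS_iso {X Y : Scheme.{u}} {s : X ⟶ Sp k} {t : Y ⟶ Sp k} (e : X ≅ Y) (he : e.hom ≫ t = s) (ht : SPS k t) :
    RS k s ↔ RS k t := by
  letI : X.Over (Sp k) := ⟨s⟩
  letI : Y.Over (Sp k) := ⟨t⟩
  have h1 := chi_iso e he ht 1
  rw [map_one] at h1
  unfold RS
  exact and_congr (NF_iso e he ht) (and_congr (UM_iso e he ht) (by rw [h1]))

theorem RS_blow {X Y : Scheme.{u}} {t : Y ⟶ Sp k} (h : SPS k t) (y : Y) (hy : IsClosed ({y} : Set Y)) (π : X ⟶ Y)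
    (hπ : BlowUp.IsBlowUp π (pt y hy)) : RS k (π ≫ t) ↔ RS k t := by
  letI : X.Over (Sp k) := ⟨π ≫ t⟩
  letI : Y.Over (Sp k) := ⟨t⟩
  have h1 := chi_blow h y hy π hπ 1
  rw [map_one] at h1
  unfold RS
  exact and_congr (NF_blow h y hy π hπ) (and_congr (UM_blow h y hy π hπ) (by rw [h1]))

theorem RS_plane : RS k (CohB1.ProjSpace.toSpec 2 k) := by
  refine ⟨nf k, ?_, chi_one k⟩
  intro φ
  have : IsProper (CohB1.ProjSpace 2 k ↘ (Sp k)) := VarietyB.EulerBinom.isProper_over k 2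
  refine ⟨ell k ^ (φ (Additive.ofMul (ell k))), fun b => ?_⟩
  obtain ⟨m, rfl⟩ := exists_pow k b
  have h1 : φ (Additive.ofMul (ell k ^ m)) = m * φ (Additive.ofMul (ell k)) := by
    have : Additive.ofMul (ell k ^ m) = m • Additive.ofMul (ell k) := rfl
    rw [this, map_zsmul, smul_eq_mul]
  have h2 := dot_pow k (φ (Additive.ofMul (ell k))) m
  rw [h1, mul_comm]
  exact h2.symm

/-- Rational surfaces. -/
theorem RS_of_rat {X : Scheme.{u}} {s : X ⟶ Sp k} (hs : SPS k s)
    (hrat : ∃ (U : X.Opens) (j : (U : Scheme.{u}) ⟶ CohB1.ProjSpace 2 k), (U : Set X).Nonempty ∧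
      IsOpenImmersion j ∧ j ≫ CohB1.ProjSpace.toSpec 2 k = U.ι ≫ s) : RS k s := by
  obtain ⟨U, j, hU, hj, hjk⟩ := hrat
  obtain ⟨X', r, g, hX'i, hXi, hs', hr, hg1, hg2⟩ := K463.Roof.exists_roof hs 2 U hU j hjk
  have hP := K463.Plane.sps k
  have := hP.int
  have hgp : IsProper g := by
    have h1 := hs'.proper
    have h2 := hP.proper
    rw [← hg1] at h1
    exact IsProper.of_comp g (CohB1.ProjSpace.toSpec 2 k)
  have hgb := K463.Roof.isBir_of_open r hr U hU j g hg2
  exact (bir_iff (fun s => RS k s) RS_iso RS_blow hs' hs r rfl hr).mp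
    ((bir_iff (fun s => RS k s) RS_iso RS_blow hs' hP g hg1 hgb).mpr RS_plane)

end

end K463.RS
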