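import Groth.Agent.Surf.K463.Min
import Groth.Agent.Surf.K463.RS
import Groth.Agent.Dix.Cast5
import Groth.Agent.VarietyB.GenLocusTensor
import Groth.Agent.VarietyA.Dim1GlobGen
import Groth.Agent.Surf.K465.NakSurf
import Groth.Agent.Ega2.Weight

/-!
# Surfaces with ample anticanonical class without negative curves: the case of a pencil

`X` with `w⁻¹` ample, no curve of negative self-intersection, and a curve `C` with `C² = 0`, `K·C = -2`: the Picard group
is generated by two classes `a, b` with `a² = b² = 0`, `a·b = 1`, `w = a⁻² b⁻²`, both globally generated with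
`h⁰ = 2`, and `a b` ample.
-/

set_option autoImplicit false
set_option linter.unusedSectionVars false
universe u
open CategoryTheory CategoryTheory.Limits AlgebraicGeometry TopologicalSpace IsLocalRing

namespace K463.Pencil

open Groth.Agent Groth.Agent.Grpsch.PicGrp K464.Base K464.Curves K463.HC K463.PtsBlow K463.NumConn K463.Min K463.RS
  K463.Noether

local notation "Sp" k:max => Spec (CommRingCat.of k)

variable (k : Type u) [Field k] [IsAlgClosed k] {X : Scheme.{u}} [X.Over (Sp k)]
  [IsProper (X ↘ (Sp k))] [Smooth (X ↘ (Sp k))] [IsIntegral X]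

/-- No curve has negative self-intersection. -/
def NoNeg : Prop := ∀ (C : X.IdealSheafData) (_ : IsCurve C) (hE : BlowUp.IsEffCartierIdeal C),
  0 ≤ dot k X (ic C hE) (ic C hE)

variable {k} {w : Pic X} (P : DPX k w)

include P

theorem isCurve_of_one {D : X.IdealSheafData} (hD : BlowUp.IsEffCartierIdeal D) (h : dot k X (ic D hD) w = 1) :
    IsCurve D := by
  have hne : D ≠ ⊤ := by
    rintro rfl
    rw [show ic ⊤ hD = 1 from ic_top, dot_one_left] at h
    exact absurd h (by norm_num)
  obtain ⟨x, hx⟩ := exists_mem hne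
  obtain ⟨C, J, hC, -, hJ, hmul⟩ := exists_comp P hD hx
  have hCe := isEff P hC
  rw [ic_eq hCe hJ hD hmul, dot_mul_left k X P.dim.le] at h
  have h1 := eff_pos P hCe (ne_top_of_isCurve hC)
  have h2 : J = ⊤ := by
    by_contra hJne
    have := eff_pos P hJ hJne
    omega
  subst h2
  have h3 : C * (⊤ : X.IdealSheafData) = C := mul_one C
  rw [← hmul, h3]
  exact hC

variable (hN : NoNeg k (X := X))

/-- A pencil: `a² = 0`, `K·a = -2`, `h⁰(K + a) = 0`. -/
structure IsPencil (k : Type u) [Field k] {X : Scheme.{u}} [X.Over (Sp k)] (w a : Pic X) : Prop where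
  sq : dot k X a a = 0
  deg : dot k X a w = -2
  adj : hc k X 0 (w * a) = 0

include hN in
theorem two_le {C : X.IdealSheafData} (hC : IsCurve C) (hE : BlowUp.IsEffCartierIdeal C)
    (h0 : hc k X 0 (w * (ic C hE)⁻¹) = 0) : 2 ≤ dot k X (ic C hE) w := by
  have h1 := curve_data P hC hE h0
  have h2 := hN C hC hE
  omega

theorem h0_ge {a : Pic X} (ha : IsPencil k w a) : 2 ≤ hc k X 0 a := by
  have h1 := rr P a
  rw [ha.sq, ha.deg] at h1
  have h2 := Min.chi_le P (a := a) (by rw [ha.deg]; have := ww_pos P; omega)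
  have h3 : (2 : ℤ) ≤ hc k X 0 a := by linarith
  exact_mod_cast h3

include hN in
theorem isCurve {a : Pic X} (ha : IsPencil k w a) {D : X.IdealSheafData} (hD : BlowUp.IsEffCartierIdeal D)
    (haD : a = (ic D hD)⁻¹) : IsCurve D := by
  have h1 := ha.deg
  rw [haD, dot_inv_left k X P.dim.le] at h1
  refine isCurve_of_min P (m := 2) (fun C hC hE h0 => two_le P hN hC hE h0) hD ?_ ?_ (by omega)
  · rintro rfl
    rw [show ic ⊤ hD = 1 from ic_top, dot_one_left] at h1
    exact absurd h1 (by norm_num)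
  · rw [← haD]; exact ha.adj

/-- A member through a point. -/
theorem exists_member {a : Pic X} (ha : IsPencil k w a) (p : X) (hp : IsClosed ({p} : Set X)) :
    ∃ (D : X.IdealSheafData) (hD : BlowUp.IsEffCartierIdeal D), a = (ic D hD)⁻¹ ∧ p ∈ D.support := by
  have h2 := h0_ge P ha
  obtain ⟨L, hL, rfl⟩ := exists_mk a
  rw [hc_mk] at h2
  obtain ⟨D, hD, h1, h3⟩ := Sys.exists_through k hL (n := 1) (fun _ => p) (fun _ => hp) (by omega)
  exact ⟨D, hD, h1, h3 0⟩

theorem exists_closed {D : X.IdealSheafData} (hne : D ≠ ⊤) : ∃ p : X, p ∈ D.support ∧ IsClosed ({p} : Set X) := by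
  have : IsNoetherian X := CurvesB.CurveRR.isNoetherian_of_proper k X
  obtain ⟨x, hx⟩ := exists_mem hne
  obtain ⟨p, hp, hpc⟩ := IsClosed.exists_closed_singleton (X := X) D.support.isClosed ⟨x, hx⟩
  exact ⟨p, hp, hpc⟩

include hN in
/-- The product with a curve is nonnegative, and zero only for members. -/
theorem nef {a : Pic X} (ha : IsPencil k w a) {C : X.IdealSheafData} (hC : IsCurve C)
    (hE : BlowUp.IsEffCartierIdeal C) :
    dot k X a (ic C hE) ≤ 0 ∧ (dot k X a (ic C hE) = 0 → a = (ic C hE)⁻¹) := by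
  obtain ⟨p, hpC, hp⟩ := exists_closed P (ne_top_of_isCurve hC)
  obtain ⟨D, hD, haD, hpD⟩ := exists_member P ha p hp
  have hDc := isCurve P hN ha hD haD
  by_cases hDC : D = C
  · subst hDC
    refine ⟨?_, fun _ => haD⟩
    have h1 := ha.sq
    rw [haD, dot_inv_inv k X P.dim.le] at h1
    rw [haD, dot_inv_left k X P.dim.le, h1, neg_zero]
  · have h1 := dot_ic_ic_pos k hDc hD hE (gp_notMem hDc hC hDC) (by
      rw [Set.not_disjoint_iff]
      exact ⟨p, hpD, hpC⟩)
    have h2 : dot k X a (ic C hE) = - dot k X (ic D hD) (ic C hE) := by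
      rw [haD, dot_inv_left k X P.dim.le]
    refine ⟨by omega, fun h0 => ?_⟩
    omega

include hN in
theorem nef_prod {a : Pic X} (ha : IsPencil k w a) (s : Multiset X.IdealSheafData) (hs : ∀ C ∈ s, IsCurve C) :
    ∀ hE : BlowUp.IsEffCartierIdeal s.prod, dot k X a (ic s.prod hE) ≤ 0 ∧
      (dot k X a (ic s.prod hE) = 0 → ∃ n : ℤ, ic s.prod hE = a ^ n) := by
  induction s using Multiset.induction_on with
  | empty =>
    intro hE
    have h1 : ic (0 : Multiset X.IdealSheafData).prod hE = 1 := by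
      rw [ic_congr hE isEff_one Multiset.prod_zero, ic_one]
    rw [h1, dot_one_right]
    exact ⟨le_rfl, fun _ => ⟨0, by rw [zpow_zero]⟩⟩
  | cons C s ih =>
    intro hE
    have hC := hs C (Multiset.mem_cons_self _ _)
    have hs' : ∀ D ∈ s, IsCurve D := fun D hD => hs D (Multiset.mem_cons_of_mem hD)
    have hsE := K458.Ram.isEff_prod s fun D hD => isEff P (hs' D hD)
    have hCe := isEff P hC
    have h1 : ic (C ::ₘ s).prod hE = ic C hCe * ic s.prod hsE := by
      rw [← ic_mul hCe hsE]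
      exact ic_congr _ _ (Multiset.prod_cons _ _)
    obtain ⟨h2, h3⟩ := nef P hN ha hC hCe
    obtain ⟨h4, h5⟩ := ih hs' hsE
    rw [h1, dot_mul_right k X P.dim.le]
    refine ⟨by omega, fun h0 => ?_⟩
    obtain ⟨n, hn⟩ := h5 (by omega)
    have h6 := h3 (by omega)
    refine ⟨n - 1, ?_⟩
    rw [hn, zpow_sub_one, mul_comm, h6, inv_inv]

include hN in
/-- Classes orthogonal to the pencil are powers. -/
theorem ker {a : Pic X} (ha : IsPencil k w a) {b : Pic X} (hb : dot k X b a = 0) : ∃ n : ℤ, b = a ^ n := by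
  have hd := P.dim.le
  set N : ℕ := (dot k X b b).natAbs + (dot k X b w).natAbs with hNdef
  set c := b * a ^ N with hcdef
  have h1 : dot k X c w = dot k X b w - 2 * N := by
    rw [hcdef, dot_mul_left k X hd, dot_pow_left k X hd, ha.deg]; ring
  have h2 : dot k X c c = dot k X b b := by
    rw [hcdef, dot_mul_left k X hd, dot_mul_right k X hd, dot_mul_right k X hd, dot_pow_left k X hd, dot_pow_left k X hd,
      dot_pow_right k X hd, dot_pow_right k X hd, ha.sq, dot_comm k X a b, hb]; ring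
  have h3 := rr P c
  rw [h1, h2] at h3
  have h4 := ww_pos P
  have h5 := Min.chi_le P (a := c) (by rw [h1]; omega)
  have h6 : 0 < hc k X 0 c := by
    have : (0 : ℤ) < HC.hc k X 0 c := by omega
    exact_mod_cast this
  obtain ⟨D, hD, hcD⟩ := exists_div k h6
  obtain ⟨s, hs, rfl⟩ := exists_multiset k P.dim D hD
  obtain ⟨-, h7⟩ := nef_prod P hN ha s hs hD
  obtain ⟨n, hn⟩ := h7 (by
    have h8 : dot k X a c = 0 := by rw [hcdef, dot_mul_right k X hd, dot_comm k X a b, hb, dot_pow_right k X hd, ha.sq]; ring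
    rw [hcD, dot_inv_right k X hd] at h8
    omega)
  refine ⟨-n - N, ?_⟩
  rw [hn] at hcD
  have h9 : b = c * (a ^ N)⁻¹ := by rw [hcdef, mul_inv_cancel_right]
  rw [h9, hcD, zpow_sub, zpow_neg, zpow_natCast]

omit [Smooth (X ↘ (Sp k))] [IsAlgClosed k] [IsIntegral X] in
/-- A class with product one with the pencil. -/
theorem exists_one [Smooth (X ↘ (Sp k))] [IsAlgClosed k] [IsIntegral X]
    (hUM : UM k (X ↘ (Sp k))) {a : Pic X} (ha : IsPencil k w a) : ∃ b : Pic X, dot k X b a = 1 := by
  have hd := P.dim.le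
  by_cases hev : ∀ b : Pic X, 2 ∣ dot k X b a
  · exfalso
    let φ : Additive (Pic X) →+ ℤ := AddMonoidHom.mk' (fun b => dot k X b.toMul a / 2) (fun b c => by
      have h1 : dot k X (b + c).toMul a = dot k X b.toMul a + dot k X c.toMul a := by
        rw [toMul_add, dot_mul_left k X hd]
      rw [h1]
      exact Int.add_ediv_of_dvd_left (hev _))
    obtain ⟨g, hg⟩ := hUM φ
    have hg' : ∀ b : Pic X, dot k X b a / 2 = dot k X g b := hg
    have h1 : dot k X g a = 0 := by rw [← hg', ha.sq]; rfl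
    have h2 : dot k X g g = 0 := by rw [← hg', h1]; rfl
    have h3 : dot k X g w = -1 := by rw [← hg', dot_comm k X w a, ha.deg]; rfl
    have h4 := rr P g
    rw [h2, h3] at h4
    omega
  · push Not at hev
    obtain ⟨b, hb⟩ := hev
    refine ⟨b * w ^ (dot k X b a / 2), ?_⟩
    rw [dot_mul_left k X hd, dot_zpow_left k X hd, dot_comm k X w a, ha.deg]
    omega

/-- The normal form of the Picard group. -/
theorem gen {hN : NoNeg k (X := X)} {a b : Pic X} (ha : IsPencil k w a) (hb : dot k X b a = 1) (c : Pic X) :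
    ∃ i j : ℤ, c = b ^ i * a ^ j := by
  have hd := P.dim.le
  obtain ⟨n, hn⟩ := ker P hN ha (b := c * b ^ (-(dot k X c a))) (by
    rw [dot_mul_left k X hd, dot_zpow_left k X hd, hb]; ring)
  refine ⟨dot k X c a, n, ?_⟩
  rw [← hn, mul_comm c, ← mul_assoc, ← zpow_add, add_neg_cancel, zpow_zero, one_mul]

include hN in
/-- The self-intersection of the canonical class. -/
theorem ww_eq (hNF : NF k (X ↘ (Sp k))) {a b : Pic X} (ha : IsPencil k w a) (hb : dot k X b a = 1) :
    dot k X w w = 8 := by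
  have hd := P.dim.le
  have hinj : ∀ i j : ℤ, b ^ i * a ^ j = 1 → i = 0 ∧ j = 0 := by
    intro i j h
    have h1 : dot k X (b ^ i * a ^ j) a = 0 := by rw [h, dot_one_left]
    have h2 : dot k X (b ^ i * a ^ j) b = 0 := by rw [h, dot_one_left]
    rw [dot_mul_left k X hd, dot_zpow_left k X hd, dot_zpow_left k X hd, hb, ha.sq] at h1
    rw [dot_mul_left k X hd, dot_zpow_left k X hd, dot_zpow_left k X hd, dot_comm k X a b, hb] at h2
    have h3 : i = 0 := by linarith
    subst h3
    exact ⟨rfl, by linarith⟩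
  let φ : ℤ × ℤ →+ Additive (Pic X) := AddMonoidHom.mk' (fun x => Additive.ofMul (b ^ x.1 * a ^ x.2)) (fun x y => by
    rw [← ofMul_mul]
    congr 1
    rw [Prod.fst_add, Prod.snd_add, zpow_add, zpow_add]
    exact mul_mul_mul_comm _ _ _ _)
  have hφ : Function.Bijective φ := by
    constructor
    · rw [injective_iff_map_eq_zero]
      rintro ⟨i, j⟩ h
      obtain ⟨h1, h2⟩ := hinj i j h
      rw [h1, h2]
      rfl
    · intro c
      obtain ⟨i, j, h⟩ := gen P (hN := hN) ha hb c.toMul
      exact ⟨(i, j), by change Additive.ofMul (b ^ i * a ^ j) = c; rw [← h]; rfl⟩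
  have e : (ℤ × ℤ) ≃ₗ[ℤ] Additive (Pic X) := (AddEquiv.ofBijective φ hφ).toIntLinearEquiv
  have hrank : Module.finrank ℤ (Additive (Pic X)) = 2 := by
    rw [← e.finrank_eq, Module.finrank_prod, Module.finrank_self]
  obtain ⟨W, hWi, hW, rfl⟩ := P.can
  have h1 := hNF.2.2 W hWi hW
  rw [hrank] at h1
  have h2 : (2 : ℤ) + dot k X (mk W hWi) (mk W hWi) = 10 := by exact_mod_cast h1
  linarith

include hN in
/-- The two rulings. -/
theorem exists_pair (hRS : RS k (X ↘ (Sp k))) {a : Pic X} (ha : IsPencil k w a) :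
    ∃ b : Pic X, IsPencil k w b ∧ dot k X a b = 1 ∧ dot k X w w = 8 ∧ w = (a * b) ^ (-2 : ℤ) := by
  have hd := P.dim.le
  obtain ⟨hNF, hUM, -⟩ := hRS
  obtain ⟨b₀, hb₀⟩ := exists_one P hUM ha
  obtain ⟨b, hb, hbb⟩ : ∃ b : Pic X, dot k X b a = 1 ∧ (dot k X b b = 0 ∨ dot k X b b = -1) := by
    have h1 : ∀ n : ℤ, dot k X (b₀ * a ^ n) a = 1 ∧ dot k X (b₀ * a ^ n) (b₀ * a ^ n) = dot k X b₀ b₀ + 2 * n := by
      intro n
      constructor
      · rw [dot_mul_left k X hd, dot_zpow_left k X hd, ha.sq, hb₀]; ring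
      · rw [dot_mul_left k X hd, dot_mul_right k X hd, dot_mul_right k X hd, dot_zpow_left k X hd,
          dot_zpow_left k X hd, dot_zpow_right k X hd, dot_zpow_right k X hd, ha.sq, dot_comm k X a b₀, hb₀]; ring
    rcases Int.even_or_odd' (dot k X b₀ b₀) with ⟨q, hq | hq⟩
    · refine ⟨b₀ * a ^ (-q), (h1 _).1, Or.inl ?_⟩
      rw [(h1 _).2, hq]; ring
    · refine ⟨b₀ * a ^ (-q - 1), (h1 _).1, Or.inr ?_⟩
      rw [(h1 _).2, hq]; ring
  have hww := ww_eq P hN hNF ha hb
  obtain ⟨i, j, hij⟩ := gen P (hN := hN) ha hb w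
  have h1 : i = -2 := by
    have h2 := ha.deg
    rw [dot_comm, hij, dot_mul_left k X hd, dot_zpow_left k X hd, dot_zpow_left k X hd, hb, ha.sq] at h2
    linarith
  subst h1
  have h3 : j = dot k X b b - 2 := by
    have h4 := hww
    rw [hij, dot_mul_left k X hd, dot_mul_right k X hd, dot_mul_right k X hd, dot_zpow_left k X hd,
      dot_zpow_left k X hd, dot_zpow_left k X hd, dot_zpow_left k X hd, dot_zpow_right k X hd, dot_zpow_right k X hd,
      dot_zpow_right k X hd, dot_zpow_right k X hd, ha.sq, dot_comm k X a b, hb] at h4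
    linarith
  have h5 : dot k X b w = -2 - dot k X b b := by
    rw [hij, dot_mul_right k X hd, dot_zpow_right k X hd, dot_zpow_right k X hd, hb, h3]
    ring
  rcases hbb with h0 | h0
  · rw [h0] at h3 h5
    refine ⟨b, ⟨h0, by rw [h5]; rfl, h0_zero P ?_⟩, by rw [dot_comm]; exact hb, hww, ?_⟩
    · rw [dot_mul_left k X hd, hww, h5]; norm_num
    · rw [mul_zpow, mul_comm]
      conv_lhs => rw [hij, h3]
      rfl
  · exfalso
    rw [h0] at h5
    have h6 := rr P b
    rw [h0, h5] at h6
    have h7 := Min.chi_le P (a := b) (by rw [h5, hww]; norm_num)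
    have h8 : 0 < hc k X 0 b := by
      have : (0 : ℤ) < hc k X 0 b := by omega
      exact_mod_cast this
    obtain ⟨D, hD, hbD⟩ := exists_div k h8
    have h9 : dot k X (ic D hD) w = 1 := by
      rw [hbD, dot_inv_left k X hd] at h5
      omega
    have h10 := hN D (isCurve_of_one P hD h9) hD
    rw [hbD, dot_inv_inv k X hd] at h0
    omega

theorem exists_closed_off {D : X.IdealSheafData} (hD : BlowUp.IsEffCartierIdeal D) :
    ∃ p : X, p ∉ D.support ∧ IsClosed ({p} : Set X) := by
  have : IsNoetherian X := CurvesB.CurveRR.isNoetherian_of_proper k X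
  have : JacobsonSpace X := LocallyOfFiniteType.jacobsonSpace (X ↘ (Sp k))
  obtain ⟨p, hp, hpc⟩ := nonempty_inter_closedPoints (X := X) (Z := (D.support : Set X)ᶜ)
    ⟨genericPoint X, K464.PtCurve.genericPoint_notMem hD⟩ D.support.isClosed.isOpen_compl.isLocallyClosed
  exact ⟨p, hp, hpc⟩

/-- A section of an inverse of an effective Cartier ideal, generating off the divisor (after K460). -/
theorem exists_section_off {X : Scheme.{u}} {F : X.IdealSheafData} (hF : BlowUp.IsEffCartierIdeal F)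
    {L : X.Modules} (hL : PicF.IsInvertible L) (h : mk L hL = (ic F hF)⁻¹) {x : X} (hx : x ∉ F.support) :
    ∃ s : Coh.structureModule X ⟶ L, x ∈ CohB1.genLocus L s := by
  have h1 := Dix.Cast5.exists_section F.subschemeι (by rw [F.ker_subschemeι]; exact hF)
  rw [F.ker_subschemeι] at h1
  obtain ⟨s, hs⟩ := h1
  rw [ic, inv_mk, mk_eq_iff] at h
  obtain ⟨e⟩ := h
  refine ⟨s ≫ e.inv, ?_⟩
  rw [Ega2.Weight.genLocus_comp]
  have h2 : x ∈ (CohB1.genLocus _ s : Set X) := by
    rw [hs, F.range_subschemeι]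
    exact hx
  exact h2

include hN in
/-- Two disjoint members. -/
theorem exists_two_members {a : Pic X} (ha : IsPencil k w a) :
    ∃ (D D' : X.IdealSheafData) (hD : BlowUp.IsEffCartierIdeal D) (hD' : BlowUp.IsEffCartierIdeal D'),
      a = (ic D hD)⁻¹ ∧ a = (ic D' hD')⁻¹ ∧ Disjoint (D.support : Set X) D'.support := by
  obtain ⟨p, -, hp⟩ := exists_closed_off P (X := X) (k := k) (D := 1) isEff_one
  obtain ⟨D, hD, haD, hpD⟩ := exists_member P ha p hp
  obtain ⟨q, hqD, hq⟩ := exists_closed_off P hD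
  obtain ⟨D', hD', haD', hqD'⟩ := exists_member P ha q hq
  have hDc := isCurve P hN ha hD haD
  have hDc' := isCurve P hN ha hD' haD'
  have hne : D ≠ D' := by rintro rfl; exact hqD hqD'
  refine ⟨D, D', hD, hD', haD, haD', ?_⟩
  rw [← dot_ic_ic_eq_zero_iff k hDc hD hD' (gp_notMem hDc hDc' hne)]
  have h1 := ha.sq
  nth_rw 1 [haD] at h1
  rw [haD', dot_inv_inv k X P.dim.le] at h1
  exact h1

include hN in
/-- Pencils are globally generated. -/
theorem gg {L : X.Modules} (hL : PicF.IsInvertible L) (ha : IsPencil k w (mk L hL)) : Curv2.IsGloballyGenerated L := by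
  obtain ⟨D, D', hD, hD', haD, haD', hdis⟩ := exists_two_members P hN ha
  have h1 : ∀ x : X, ∃ s : Coh.structureModule X ⟶ L, x ∈ CohB1.genLocus L s := by
    intro x
    by_cases hx : x ∈ D.support
    · exact exists_section_off P hD' hL haD' (fun h => Set.disjoint_left.mp hdis hx h)
    · exact exists_section_off P hD hL haD hx
  choose f hf using h1
  exact VarietyA.Dim1GlobGen.isGloballyGenerated f fun x => ⟨x, hf x⟩

include hN in
/-- `h⁰ = 2`. -/
theorem h0_eq {a : Pic X} (ha : IsPencil k w a) : hc k X 0 a = 2 := by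
  have h2 := h0_ge P ha
  by_contra hne
  have h3 : 2 < hc k X 0 a := by omega
  obtain ⟨p, -, hp⟩ := exists_closed_off P (X := X) (k := k) (D := 1) isEff_one
  obtain ⟨D, hD, haD, hpD⟩ := exists_member P ha p hp
  obtain ⟨q, hqD, hq⟩ := exists_closed_off P hD
  obtain ⟨L, hL, rfl⟩ := exists_mk a
  rw [hc_mk] at h3
  obtain ⟨D', hD', haD', hD'2⟩ := Sys.exists_through k hL (n := 2) ![p, q] (fun i => by
    fin_cases i
    · exact hp
    · exact hq) h3
  have hpD' : p ∈ D'.support := hD'2 0
  have hqD' : q ∈ D'.support := hD'2 1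
  have hDc := isCurve P hN ha hD haD
  have hDc' := isCurve P hN ha hD' haD'
  have hne : D ≠ D' := by rintro rfl; exact hqD hqD'
  have h4 := dot_ic_ic_pos k hDc hD hD' (gp_notMem hDc hDc' hne) (by
    rw [Set.not_disjoint_iff]
    exact ⟨p, hpD, hpD'⟩)
  have h1 := ha.sq
  nth_rw 1 [haD] at h1
  rw [haD', dot_inv_inv k X P.dim.le] at h1
  omega

/-- The product of the two rulings is ample. -/
theorem ample {a b : Pic X} (hw : w = (a * b) ^ (-2 : ℤ)) {M : X.Modules} (hM : PicF.IsInvertible M)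
    (hMab : mk M hM = a * b) : CohB1.IsAmple M := by
  have hd := P.dim.le
  refine K465.NakSurf.nak k P.dim M hM ?_ ?_
  · have h1 := ww_pos P
    rw [hw, dot_zpow_left k X hd, dot_zpow_right k X hd] at h1
    rw [hMab]
    omega
  · intro D hD
    have hDe := isEff P hD
    have h1 := eff_pos P hDe (ne_top_of_isCurve hD)
    rw [hw, dot_zpow_right k X hd] at h1
    rw [hMab, degOn_eq_neg_dot k X hDe]
    omega

end K463.Pencil
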