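import Groth.Agent.Surf.K463.Exc

/-!
# Exceptional curves of a birational morphism of projective regular surfaces are bounded by the Picard number

`f : X ⟶ Y` proper birational, `X`, `Y` regular integral proper surfaces over `k` with ample modules.

* `coheight_of_mem`, `exc_const`: the exceptional points have codimension one, their closures are contracted.
* `ncard_le`: if `p` curves of `X` detect numerical triviality then `f` has at most `p` exceptional curves.
-/

set_option autoImplicit false
set_option linter.unusedSectionVars false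
universe u
open CategoryTheory CategoryTheory.Limits AlgebraicGeometry Opposite TopologicalSpace

namespace K463.PicBound

open Groth.Agent Groth.Agent.Grpsch.PicGrp Groth.Agent.Pic13.H950.NumCl K463.Cl K463.Form K463.Exc
open Groth.Agent.Dix.ExcPts

local notation "Sp" k:max => Spec (CommRingCat.of k)

theorem coheight_zero {X : Scheme.{u}} [IsIntegral X] {ξ : X} (h : Order.coheight ξ = 0) : ξ = genericPoint X := by
  rw [Order.coheight_eq_zero] at h
  have h1 : genericPoint X ⤳ ξ := (genericPoint_spec X).specializes trivial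
  have h2 : ξ ⤳ genericPoint X := h h1
  exact (h2.antisymm h1).eq

theorem coheight_one_of_ne {X : Scheme.{u}} [IsIntegral X] {ξ : X} (h : Order.coheight ξ ≤ 1)
    (hne : ξ ≠ genericPoint X) : Order.coheight ξ = 1 := by
  refine le_antisymm h ?_
  by_contra hcon
  push Not at hcon
  exact hne (coheight_zero (Order.lt_one_iff.mp hcon))

/-- Points of codimension one do not specialize to each other. -/
theorem not_specializes {X : Scheme.{u}} {ξ η : X} (hξ : Order.coheight ξ = 1) (hη : Order.coheight η = 1)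
    (hne : ξ ≠ η) : ¬ ξ ⤳ η := by
  intro h
  have h2 := Order.coheight_add_one_le (Dix.BlowIrr.lt_of_specializes h hne.symm)
  rw [hξ, hη] at h2
  exact absurd h2 (by decide)

section

variable {X Y : Scheme.{u}} [IsIntegral X] [IsIntegral Y] (hX : IsSurf X) (hY : IsSurf Y) (f : X ⟶ Y) (hb : IsBir f)

include hb in
theorem coheight_of_mem {ξ : X} (h : ξ ∈ excPts f) : Order.coheight ξ = 1 := by
  refine coheight_one_of_ne h.1 ?_
  rintro rfl
  exact h.2 hb.bir

include hX hY hb in
theorem exc_const {ξ x : X} (h : ξ ∈ excPts f) (hx : ξ ⤳ x) : f x = f ξ := by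
  have h1 := isClosed_of_big hY f hb _ (big_of_mem hX hY f hb ξ h.2)
  have h2 : f ξ ⤳ f x := hx.map f.continuous
  have h3 : f x ∈ closure {f ξ} := specializes_iff_mem_closure.mp h2
  rw [h1.closure_eq] at h3
  exact h3

end

section bound

variable (k : Type u) [Field k] {X Y : Scheme.{u}} [X.Over (Sp k)] [Y.Over (Sp k)] [IsIntegral X] [IsIntegral Y]
  [IsProper (X ↘ (Sp k))] [IsProper (Y ↘ (Sp k))] (hdX : topologicalKrullDim X = 2) (hdY : topologicalKrullDim Y = 2)
  (hX : IsSurf X) (hY : IsSurf Y) {A : X.Modules} (hA : CohB1.IsAmple A) {H : Y.Modules} (hH : CohB1.IsAmple H)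
  (f : X ⟶ Y) (hf : f ≫ (Y ↘ (Sp k)) = X ↘ (Sp k)) (hb : IsBir f)

theorem dim_support_unit : topologicalKrullDim (CohB1.support (Coh.structureModule Y)) = topologicalKrullDim Y := by
  rw [Fga.HodgeAsm.support_unit]
  exact (Homeomorph.Set.univ Y).isHomeomorph.topologicalKrullDim_eq _

include hdY hH in
/-- The self-intersection of an ample class is positive. -/
theorem intNum_ample_pos {L' : Y.Modules} (hLL' : Nonempty (CohB1.tensorMod H L' ≅ Coh.structureModule Y)) :
    0 < FGA.intNum k Y 2 ![L', L'] (Coh.structureModule Y) := by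
  refine S3233.result k Y 2 hdY.le ![H, H] ![L', L'] (fun i => by fin_cases i <;> exact hH)
    (fun i => by fin_cases i <;> exact hLL') _ (CurvesC.UnitCoh.isCoh_unit Y) ?_
  rw [dim_support_unit, hdY]
  rfl

include hdY hH hdX hA hf hb in
/-- A pull-back of an ample class with a section has positive self-intersection. -/
theorem bil_pull_pos :
    0 < bil k X hdX.le (Additive.ofMul (pull f (mk H hH.1))) (Additive.ofMul (pull f (mk H hH.1))) := by
  obtain ⟨L', hL', e⟩ := exists_inverse hH.1
  have h1 := intNum_ample_pos k hdY hH e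
  obtain ⟨a, c, ha, hc, h2⟩ := Fga.HodgeAsm.sign_transfer k Y X f hf ⟨surjective f hb⟩ 2 hdY.le hdX.le hA
    ![L', L'] (fun i => by fin_cases i <;> exact hL')
  rw [Fga.HodgeAsm.pull_two, intNum_eq_bil k X hdX.le (Fdesc.LocGen.isInvertible_pullback f hL')
    (Fdesc.LocGen.isInvertible_pullback f hL')] at h2
  have h3 : mk _ (Fdesc.LocGen.isInvertible_pullback f hL') = (pull f (mk H hH.1))⁻¹ := by
    rw [← map_inv, ← mk_inverse Y hH.1 hL' e]
    rfl
  rw [h3, bil_inv_left, bil_inv_right, neg_neg] at h2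
  have h4 : (0 : ℤ) < c * FGA.intNum k Y 2 ![L', L'] (Coh.structureModule Y) :=
    mul_pos (by exact_mod_cast hc) h1
  rw [h2] at h4
  exact (mul_pos_iff_of_pos_left (by exact_mod_cast ha)).mp h4

/-- The curve of a point of codimension one. -/
noncomputable def crv {ξ : X} (h : Order.coheight ξ = 1) : Curve X :=
  curveOf (cl ξ) inferInstance (by rw [coe_support_cl]; exact dim_cl (X ↘ (Sp k)) hdX h)

/-- The class of the ideal of a curve. -/
noncomputable def ic {X : Scheme.{u}} (hX : IsSurf X) {ξ : X} (h : Order.coheight ξ = 1) : Additive (Pic X) :=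
  haveI := hX.noeth
  Additive.ofMul (mk _ (Dix.IdealModCartier.isInvertible_idealMod (isEff_cl hX.regular h)))

theorem bil_ic {ξ : X} (h : Order.coheight ξ = 1) (a : Additive (Pic X)) :
    bil k X hdX.le (ic hX h) a = - degOn k X (crv k hdX h) a :=
  haveI := hX.noeth
  bil_curve k X hdX.le (cl ξ) (Dix.IdealModCartier.isInvertible_idealMod (isEff_cl hX.regular h)) inferInstance
    (by rw [coe_support_cl]; exact dim_cl (X ↘ (Sp k)) hdX h) a.toMul

theorem crv_genericPoint {ξ : X} (h : Order.coheight ξ = 1) :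
    (crv k hdX h).ι (genericPoint (crv k hdX h).Y) = ξ := ι_genericPoint ξ

/-- `C_ξ · C_η ≥ 0` for different curves. -/
theorem bil_ic_nonneg {ξ η : X} (h : Order.coheight ξ = 1) (h' : Order.coheight η = 1) (hne : ξ ≠ η) :
    0 ≤ bil k X hdX.le (ic hX h) (ic hX h') := by
  have := hX.noeth
  rw [bil_ic k hdX hX h]
  have h1 := dgc_ideal_nonpos k X (crv k hdX h) (isEff_cl hX.regular h') (by
    rw [crv_genericPoint, mem_support_cl]
    exact not_specializes h' h hne.symm)
  have h2 : degOn k X (crv k hdX h) (ic hX h') ≤ 0 := h1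
  omega

include hA in
theorem bil_ample_neg {ξ : X} (h : Order.coheight ξ = 1) :
    bil k X hdX.le (ic hX h) (Additive.ofMul (mk A hA.1)) < 0 := by
  rw [bil_ic k hdX hX h]
  have h1 : 0 < degOn k X (crv k hdX h) (Additive.ofMul (mk A hA.1)) := dgc_ample_pos k X (crv k hdX h) hA
  omega

include hX hY hb in
theorem bil_pull_zero {ξ : X} (hξ : ξ ∈ excPts f) (a : Pic Y) :
    bil k X hdX.le (ic hX (coheight_of_mem f hb hξ)) (Additive.ofMul (pull f a)) = 0 := by
  rw [bil_ic k hdX hX, neg_eq_zero]
  refine dgc_pull_eq_zero k X (crv k hdX (coheight_of_mem f hb hξ)) f (f ξ) (fun c => ?_) a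
  exact exc_const hX hY f hb hξ (ι_specializes ξ c)

include hX hY hA hH hf hb hdX hdY in
theorem ncard_le {p : ℕ} (Γ : Fin p → Curve X)
    (hΓ : ∀ a : Pic X, (∀ j, dgc k X (Γ j) a = 0) → a ∈ numCl k X) : (excPts f).ncard ≤ p := by
  classical
  have hfin := excPts_finite hX hY f hb
  have : Fintype (excPts f) := hfin.fintype
  rw [← Nat.card_coe_set_eq, Nat.card_eq_fintype_card]
  let B := bil k X hdX.le
  let e : excPts f → Additive (Pic X) := fun ξ => ic hX (coheight_of_mem f hb ξ.2)
  have hs : ∀ v w, B v w = B w v := bil_symm k X hdX.le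
  -- a section of a power of `H`
  obtain ⟨n, s, hs1, -⟩ := hH.2.2 (genericPoint Y)
  have hL : PicF.IsInvertible (CohB1.tensorPow H (n + 1)) := Fdesc.LocGen.isInvertible_tensorPow hH.1 (n + 1)
  let m : Additive (Pic X) := Additive.ofMul (pull f (mk _ hL))
  have hm : m = (n + 1) • Additive.ofMul (pull f (mk H hH.1)) := by
    have h1 : mk _ hL = mk H hH.1 ^ (n + 1) := mk_tensorPow hH.1 (n + 1)
    change Additive.ofMul (pull f (mk _ hL)) = _
    rw [h1, map_pow, ofMul_pow]
  have hmm : 0 < B m m := by
    rw [hm, map_nsmul, map_nsmul, AddMonoidHom.nsmul_apply, smul_smul, nsmul_eq_mul]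
    exact mul_pos (by positivity) (bil_pull_pos k hdX hdY hA hH f hf hb)
  have hodge : ∀ v, B m m * B v v ≤ (B m v) ^ 2 := by
    intro v
    refine Form.hodge k X hdX.le (Fdesc.LocGen.isInvertible_pullback f hL) (Fdesc.LocGen.pullHom f s) ?_ hmm v
    refine Pic13.H967.NoSec.ne_zero_of_mem_genLocus (x := genericPoint X) _ ?_
    rw [Ega1.AmpFam.genLocus_pullHom f hL s]
    change f (genericPoint X) ∈ CohB1.genLocus _ s
    rw [hb.gen]
    exact hs1
  have hneg : ∀ b : excPts f → ℤ, (∀ i, 0 ≤ b i) → b ≠ 0 → B (∑ i, b i • e i) (∑ i, b i • e i) < 0 := by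
    intro b hb0 hbne
    refine Gram.neg_of_hodge B hs m (Additive.ofMul (mk A hA.1)) _ hmm hodge ?_ ?_
    · rw [map_sum]
      refine Finset.sum_eq_zero fun i _ => ?_
      rw [map_zsmul, hs]
      have := bil_pull_zero k hdX hX hY f hb i.2 (mk _ hL)
      change b i • B (e i) m = 0
      rw [show B (e i) m = 0 from this, smul_zero]
    · rw [map_sum]
      refine ne_of_lt ?_
      obtain ⟨j, hj⟩ := Function.ne_iff.mp hbne
      refine Finset.sum_neg' (fun i _ => ?_) ⟨j, Finset.mem_univ j, ?_⟩
      · rw [map_zsmul, hs, smul_eq_mul]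
        exact mul_nonpos_of_nonneg_of_nonpos (hb0 i) (bil_ample_neg k hdX hX hA (coheight_of_mem f hb i.2)).le
      · rw [map_zsmul, hs, smul_eq_mul]
        exact mul_neg_of_pos_of_neg (lt_of_le_of_ne (hb0 j) (Ne.symm hj))
          (bil_ample_neg k hdX hX hA (coheight_of_mem f hb j.2))
  refine Gram.card_le B e hs (fun i j hij => ?_) hneg (AddMonoidHom.pi fun j => degOn k X (Γ j)) (fun v hv j => ?_)
  · exact bil_ic_nonneg k hdX hX _ _ (fun h => hij (Subtype.ext h))
  · have h1 : v.toMul ∈ numCl k X := hΓ _ (fun i => congrFun hv i)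
    rw [hs]
    change bil k X hdX.le (ic hX _) v = 0
    rw [bil_ic k hdX hX, neg_eq_zero]
    exact h1 _

end bound

end K463.PicBound
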