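import Groth.Agent.Surf.K464.Curves
import Groth.Agent.Surf.K464.Cohom
import Groth.Agent.S0227
import Groth.Agent.CurvSt.K898.HZeroOne
import Groth.Agent.Divis.CartierStalk
import Mathlib.Topology.Separation.Connected

/-!
# Transversal intersections

If a curve `C` and an effective divisor `D` without common component have intersection number one, they meet in exactly
one point, and their local equations generate the maximal ideal there.
-/

set_option autoImplicit false
set_option linter.unusedSectionVars false
universe u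
open CategoryTheory CategoryTheory.Limits AlgebraicGeometry TopologicalSpace IsLocalRing

namespace K463.Transv

open Groth.Agent Groth.Agent.Grpsch.PicGrp K464.Base K464.Curves K464.Cohom Groth.Agent.Divis.CartierBasic
  Groth.Agent.Divis.CartierStalk

local notation "Sp" k:max => Spec (CommRingCat.of k)

theorem finite_of_isClosed {X : Type*} [TopologicalSpace X] [IrreducibleSpace X] [QuasiSober X] [NoetherianSpace X]
    (hdim : ∀ x : X, x ≠ genericPoint X → IsClosed ({x} : Set X)) {C : Set X} (hC : IsClosed C)
    (hne : genericPoint X ∉ C) : C.Finite := by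
  obtain ⟨S, hSf, hSc, hSi, rfl⟩ := NoetherianSpace.exists_finite_set_isClosed_irreducible hC
  refine Set.Finite.sUnion hSf fun Z hZ => ?_
  obtain ⟨x, hx⟩ := QuasiSober.sober (hSi Z hZ) (hSc Z hZ)
  have hxZ : x ∈ Z := hx.mem
  have hxg : x ≠ genericPoint X := by
    rintro rfl
    exact hne (Set.mem_sUnion.mpr ⟨Z, hZ, hxZ⟩)
  have h2 : Z = {x} := by
    have := hx.def
    rw [(hdim x hxg).closure_eq] at this
    exact this.symm
  rw [h2]
  exact Set.finite_singleton x

/-- A finite discrete scheme with `Γ = k` is a reduced point. -/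
theorem point (k : Type u) [Field k] {V : Scheme.{u}} [V.Over (Sp k)] [Finite V]
    (hcl : ∀ v : V, IsClosed ({v} : Set V)) (h0 : Module.finrank k (Coh.HH V (Coh.structureModule V) 0) = 1) :
    (∀ v v' : V, v = v') ∧ ∀ v : V, maximalIdeal (V.presheaf.stalk v) = ⊥ := by
  have : T1Space V := ⟨hcl⟩
  have : ConnectedSpace V := K898.HZeroOne.connectedSpace_of_finrank k V h0
  have hsub : Subsingleton V := PreconnectedSpace.trivial_of_discrete
  have hiso := K898.HZeroOne.isIso_appTop_of_finrank k V h0
  refine ⟨fun v v' => Subsingleton.elim _ _, fun v => ?_⟩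
  have haff : IsAffine V := by
    obtain ⟨U, hU, hvU, -⟩ := exists_isAffineOpen_mem_and_subset (X := V) (x := v) (U := ⊤) trivial
    have hUt : U = ⊤ := by
      rw [eq_top_iff]
      intro z _
      rw [Subsingleton.elim z v]
      exact hvU
    rw [hUt] at hU
    have : IsAffine ((⊤ : V.Opens) : Scheme.{u}) := hU
    exact .of_isIso V.topIso.inv
  have hiso2 : IsIso (V ↘ (Sp k)) := by
    have h1 := Scheme.isoSpec_hom_naturality (V ↘ (Sp k))
    have h2 : (V ↘ (Sp k)) = V.isoSpec.hom ≫ Spec.map ((V ↘ (Sp k)).appTop) ≫ (Sp k).isoSpec.inv := by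
      rw [reassoc_of% h1, Iso.hom_inv_id, Category.comp_id]
    rw [h2]
    infer_instance
  have hint : IsIntegral V := isIntegral_of_isOpenImmersion (V ↘ (Sp k))
  have hv : v = genericPoint V := Subsingleton.elim _ _
  subst hv
  have hF : IsField V.functionField := Field.toIsField _
  exact isField_iff_maximalIdeal_eq.mp hF

variable (k : Type u) [Field k] {X : Scheme.{u}} [X.Over (Sp k)] [IsProper (X ↘ (Sp k))]

theorem transversal {C D : X.IdealSheafData} (hC : IsCurve C) (hD : BlowUp.IsEffCartierIdeal D)
    (hgp : gp hC ∉ D.support) (h1 : degOn k X C (ic D hD) = -1) :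
    (∀ P Q : X, P ∈ C.support → P ∈ D.support → Q ∈ C.support → Q ∈ D.support → P = Q) ∧
      ∀ P : X, P ∈ C.support → P ∈ D.support →
        maximalIdeal (X.presheaf.stalk P) ≤ stalkIdeal C P ⊔ stalkIdeal D P := by
  letI := overC k X C
  have := isProper_sub k X C
  have := hC.integral
  have hd : topologicalKrullDim C.subscheme = 1 := (dim_sub X C).trans hC.dim
  set J := D.comap C.subschemeι with hJ
  letI := overC k C.subscheme J
  have := isProper_sub k C.subscheme J
  have h2 := degOn_ic k hC hD hgp
  rw [h1] at h2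
  have h3 : Module.finrank k (Coh.HH J.subscheme (Coh.structureModule J.subscheme) 0) = 1 := by
    rw [← (hhSub0 k J 0).finrank_eq]
    have h4 : ((Module.finrank k (Coh.HH C.subscheme (ClSub.quotMod J) 0) : ℕ) : ℤ) = 1 := by
      rw [hJ]; linarith
    exact_mod_cast h4
  have hN : IsNoetherian C.subscheme := CurvesB.CurveRR.isNoetherian_of_proper k C.subscheme
  have hcl : ∀ y : C.subscheme, y ≠ genericPoint C.subscheme → IsClosed ({y} : Set C.subscheme) :=
    fun y hy => S0227.isClosed_of_ne C.subscheme hd y hy
  have hgen : genericPoint C.subscheme ∉ (J.support : Set C.subscheme) := by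
    intro h
    rw [hJ, Scheme.IdealSheafData.support_comap] at h
    exact hgp h
  have hfin : (J.support : Set C.subscheme).Finite := finite_of_isClosed hcl J.support.isClosed hgen
  have hVfin : Finite J.subscheme := by
    rw [← J.range_subschemeι] at hfin
    have : Finite (Set.range J.subschemeι) := hfin
    exact Finite.of_injective (fun a => (⟨J.subschemeι a, a, rfl⟩ : Set.range J.subschemeι))
      (fun a b h => J.subschemeι.isClosedEmbedding.injective (by simpa using h))
  have hVcl : ∀ v : J.subscheme, IsClosed ({v} : Set J.subscheme) := by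
    intro v
    have h4 : IsClosed ({J.subschemeι v} : Set C.subscheme) := by
      refine hcl _ fun h => hgen ?_
      rw [← h, ← J.range_subschemeι]
      exact ⟨v, rfl⟩
    have h5 := h4.preimage J.subschemeι.continuous
    have h6 : J.subschemeι ⁻¹' {J.subschemeι v} = {v} := by
      ext z
      simp only [Set.mem_preimage, Set.mem_singleton_iff]
      exact ⟨fun h => J.subschemeι.isClosedEmbedding.injective h, fun h => by rw [h]⟩
    rwa [h6] at h5
  obtain ⟨huniq, hmax⟩ := point k hVcl h3
  have hlift : ∀ P : X, P ∈ C.support → P ∈ D.support → ∃ v : J.subscheme,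
      C.subschemeι (J.subschemeι v) = P := by
    intro P hPC hPD
    obtain ⟨y, rfl⟩ := exists_subscheme_apply_eq C hPC
    have h4 : y ∈ J.support := by
      rw [hJ, Scheme.IdealSheafData.support_comap]
      exact hPD
    obtain ⟨v, rfl⟩ := exists_subscheme_apply_eq J h4
    exact ⟨v, rfl⟩
  refine ⟨fun P Q hPC hPD hQC hQD => ?_, fun P hPC hPD => ?_⟩
  · obtain ⟨v, rfl⟩ := hlift P hPC hPD
    obtain ⟨v', rfl⟩ := hlift Q hQC hQD
    rw [huniq v v']
  · obtain ⟨v, rfl⟩ := hlift P hPC hPD
    set y := J.subschemeι v with hy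
    intro r hr
    have h4 : (C.subschemeι.stalkMap y).hom r ∈ maximalIdeal (C.subscheme.presheaf.stalk y) := by
      rw [mem_maximalIdeal, mem_nonunits_iff] at hr ⊢
      exact fun h => hr (IsLocalHom.map_nonunit (f := (C.subschemeι.stalkMap y).hom) _ h)
    have h5 : (J.subschemeι.stalkMap v).hom ((C.subschemeι.stalkMap y).hom r) ∈
        maximalIdeal (J.subscheme.presheaf.stalk v) := by
      rw [mem_maximalIdeal, mem_nonunits_iff] at h4 ⊢
      exact fun h => h4 (IsLocalHom.map_nonunit (f := (J.subschemeι.stalkMap v).hom) _ h)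
    have h8 : stalkIdeal J y = (stalkIdeal D (C.subschemeι y)).map (C.subschemeι.stalkMap y).hom :=
      stalkIdeal_comap D C.subschemeι y
    rw [hmax v, Ideal.mem_bot, ← RingHom.mem_ker, ker_stalkMap_subschemeι] at h5
    have h9 : (C.subschemeι.stalkMap y).hom r ∈ stalkIdeal J y := h5
    rw [h8] at h9
    have h6 : r ∈ Ideal.comap (C.subschemeι.stalkMap y).hom
        (Ideal.map (C.subschemeι.stalkMap y).hom (stalkIdeal D (C.subschemeι y))) := h9
    rw [Ideal.comap_map_of_surjective _ (stalkMap_subschemeι_surjective C y)] at h6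
    have h7 : Ideal.comap (C.subschemeι.stalkMap y).hom ⊥ = stalkIdeal C (C.subschemeι y) :=
      ker_stalkMap_subschemeι C y
    rw [h7, sup_comm] at h6
    exact h6

end K463.Transv
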