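import Groth.Agent.Surf.K463.Pencil
import Groth.Agent.Surf.K463.Transv
import Groth.Agent.ProjDeg.K657.PtCrit

/-!
# The morphisms to the projective line given by the rulings
-/

set_option autoImplicit false
set_option linter.unusedSectionVars false
universe u
open CategoryTheory CategoryTheory.Limits AlgebraicGeometry TopologicalSpace IsLocalRing

namespace K463.Ruling

open Groth.Agent Groth.Agent.Grpsch.PicGrp K464.Base K464.Curves K463.HC K463.PtsBlow K463.NumConn K463.Min
  K463.Pencil K464.PtCurve K464.DegCurve K463.PnTw Groth.Agent.Divis.CartierBasic Groth.Agent.Divis.CartierStalk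

local notation "Sp" k:max => Spec (CommRingCat.of k)

section line

variable (k : Type u) [Field k]

/-- The class of `O(1)` on the projective line. -/
noncomputable def o1 : Pic (CohB1.ProjSpace 1 k) := tw k 1 (𝟙 _) 1

theorem mk_twist (m : ℤ) : mk (Twist.twistProjSpace 1 k m) (Ega3B.ProjFrame.isInvertible_twistProjSpace 1 k m) =
    o1 k ^ m := by
  rw [o1, ← tw_eq_pow, tw, mk_eq_iff]
  exact ⟨(Scheme.Modules.pullbackId _).symm.app _⟩

theorem isProper_line : IsProper (CohB1.ProjSpace 1 k ↘ (Sp k)) := VarietyB.EulerBinom.isProper_over k 1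

theorem dim_line : topologicalKrullDim (CohB1.ProjSpace 1 k) = 1 := K463.Plane.dim_projSpace k 1

theorem degC_o1 : degC k (CohB1.ProjSpace 1 k) (o1 k) = 1 := by
  rw [← zpow_one (o1 k), ← mk_twist, degC_mk]
  have h1 := VarietyB.EulerBinom.euler_twist k 1 1
  have h0 : Curv2.euler k (CohB1.ProjSpace 1 k) (Coh.structureModule (CohB1.ProjSpace 1 k)) = 1 := by
    have h2 := VarietyB.EulerBinom.euler_twist k 1 0
    have h3 : chi k (CohB1.ProjSpace 1 k) (o1 k ^ (0 : ℤ)) = VarietyB.EulerBinom.c 1 0 := by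
      rw [← mk_twist, chi_mk, ← h2]
    rw [zpow_zero, K464.Base.chi_one] at h3
    rw [h3]
    norm_num [VarietyB.EulerBinom.c, CI2.N_eq]
  unfold Curv2.deg
  rw [h1, h0]
  norm_num [VarietyB.EulerBinom.c, CI2.N_eq]

theorem isEff_point {p : CohB1.ProjSpace 1 k} (hp : IsClosed ({p} : Set (CohB1.ProjSpace 1 k))) :
    BlowUp.IsEffCartierIdeal (K464.PtCurve.pt hp) := by
  have := isProper_line k
  have h1 : SmoothOfRelativeDimension 1 (CohB1.ProjSpace 1 k ↘ (Sp k)) := Groth.Agent.Sga5.ProjSmooth.smooth_toSpec 1 k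
  have : Smooth (CohB1.ProjSpace 1 k ↘ (Sp k)) := SmoothOfRelativeDimension.smooth 1 _
  exact isEff_pt k (CohB1.ProjSpace 1 k ↘ (Sp k)) (dim_line k) (fun b => S1535.result k _ b) hp

theorem ic_pt [IsAlgClosed k] {p : CohB1.ProjSpace 1 k} (hp : IsClosed ({p} : Set (CohB1.ProjSpace 1 k))) :
    ic (K464.PtCurve.pt hp) (isEff_point k hp) = (o1 k)⁻¹ := by
  have := isProper_line k
  obtain ⟨d, ⟨e⟩⟩ := S1697.result k 1 _ (Dix.IdealModCartier.isInvertible_idealMod (isEff_point k hp))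
  have h1 : ic (K464.PtCurve.pt hp) (isEff_point k hp) = o1 k ^ d := by
    rw [ic, ← mk_twist, mk_eq_iff]
    exact ⟨e⟩
  have h2 := degC_pt k (dim_line k) hp (isEff_point k hp)
  rw [h1, degC_zpow k _ (dim_line k), degC_o1, mul_one] at h2
  rw [h1, h2, zpow_neg_one]

end line

variable {k : Type u} [Field k] [IsAlgClosed k] {X : Scheme.{u}} [X.Over (Sp k)]
  [IsProper (X ↘ (Sp k))] [Smooth (X ↘ (Sp k))] [IsIntegral X] {w : Pic X} (P : DPX k w)

/-- The canonical section of the inverse of an effective Cartier ideal. -/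
theorem exists_section_eq {X : Scheme.{u}} {F : X.IdealSheafData} (hF : BlowUp.IsEffCartierIdeal F)
    {L : X.Modules} (hL : PicF.IsInvertible L) (h : mk L hL = (ic F hF)⁻¹) :
    ∃ s : Coh.structureModule X ⟶ L, (CohB1.genLocus L s : Set X) = (F.support : Set X)ᶜ := by
  have h1 := Dix.Cast5.exists_section F.subschemeι (by rw [F.ker_subschemeι]; exact hF)
  rw [F.ker_subschemeι] at h1
  obtain ⟨s, hs⟩ := h1
  rw [ic, inv_mk, mk_eq_iff] at h
  obtain ⟨e⟩ := h
  refine ⟨s ≫ e.inv, ?_⟩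
  rw [Ega2.Weight.genLocus_comp, hs, F.range_subschemeι]

include P

/-- The ruling. -/
theorem exists_map (hN : NoNeg k (X := X)) {a : Pic X} (ha : IsPencil k w a) :
    ∃ φ : X ⟶ CohB1.ProjSpace 1 k, φ ≫ CohB1.ProjSpace.toSpec 1 k = X ↘ (Sp k) ∧ pull φ (o1 k) = a := by
  obtain ⟨D, D', hD, hD', haD, haD', hdis⟩ := exists_two_members P hN ha
  obtain ⟨L, hL, rfl⟩ := exists_mk a
  obtain ⟨s, hs⟩ := exists_section_eq hD hL haD
  obtain ⟨s', hs'⟩ := exists_section_eq hD' hL haD'
  have hcov : ⨆ i, CohB1.genLocus L ((![s, s'] : Fin 2 → (Coh.structureModule X ⟶ L)) i) = ⊤ := by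
    rw [eq_top_iff]
    intro x _
    rw [Opens.mem_iSup]
    by_cases hx : x ∈ D.support
    · refine ⟨1, ?_⟩
      have h1 : x ∈ (CohB1.genLocus L s' : Set X) := by
        rw [hs']
        exact fun h => Set.disjoint_left.mp hdis hx h
      exact h1
    · refine ⟨0, ?_⟩
      have h1 : x ∈ (CohB1.genLocus L s : Set X) := by
        rw [hs]
        exact hx
      exact h1
  obtain ⟨φ, -, hφ, -, -, e, -⟩ := CurvesC.ProjMap.exists_morphism (X ↘ (Sp k)) L _ hcov
  refine ⟨φ, hφ, ?_⟩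
  have h4 : pull φ (o1 k) = PnTw.tw k 1 φ 1 := by
    rw [o1, PnTw.tw, PnTw.tw, pull_mk, mk_eq_iff]
    exact ⟨(Scheme.Modules.pullback φ).mapIso ((Scheme.Modules.pullbackId _).app _)⟩
  rw [h4]
  exact (mk_eq_iff _ _).mpr ⟨e⟩

/-- The fibres of the ruling. -/
theorem fibre (hN : NoNeg k (X := X)) {a : Pic X} (ha : IsPencil k w a) (φ : X ⟶ CohB1.ProjSpace 1 k)
    (hφ : pull φ (o1 k) = a) {p : CohB1.ProjSpace 1 k} (hp : IsClosed ({p} : Set (CohB1.ProjSpace 1 k))) :
    ∃ hE : BlowUp.IsEffCartierIdeal ((K464.PtCurve.pt hp).comap φ),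
      a = (ic ((K464.PtCurve.pt hp).comap φ) hE)⁻¹ ∧ IsCurve ((K464.PtCurve.pt hp).comap φ) := by
  have hgen : φ (genericPoint X) ∉ (K464.PtCurve.pt hp).support := by
    intro h
    rw [mem_support_pt] at h
    have hconst : ∀ x : X, φ x = p := by
      intro x
      have h1 : φ (genericPoint X) ⤳ φ x := (genericPoint_specializes x).map φ.continuous
      rw [h] at h1
      exact h1.mem_closed hp rfl
    have := isProper_line k
    have : JacobsonSpace (CohB1.ProjSpace 1 k) :=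
      LocallyOfFiniteType.jacobsonSpace (CohB1.ProjSpace 1 k ↘ (Sp k))
    obtain ⟨q, hq, hqc⟩ := nonempty_inter_closedPoints (X := CohB1.ProjSpace 1 k) (Z := ({p} : Set _)ᶜ)
      ⟨genericPoint _, fun h => ne_generic (dim_line k) hp h.symm⟩ hp.isOpen_compl.isLocallyClosed
    have hqc' : IsClosed ({q} : Set (CohB1.ProjSpace 1 k)) := hqc
    obtain ⟨e⟩ := nonempty_pullback_idealMod φ (isEff_point k hqc') (fun y hy => by
      rw [mem_support_pt] at hy
      exact hq ((hconst y).symm.trans hy).symm)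
    have h1 : pull φ (ic (K464.PtCurve.pt hqc') (isEff_point k hqc')) = 1 := by
      rw [ic, pull_mk, mk_eq_one_iff]; exact ⟨e⟩
    rw [ic_pt, map_inv, hφ] at h1
    have h2 := ha.deg
    rw [inv_eq_one.mp h1, dot_one_left] at h2
    exact absurd h2 (by norm_num)
  have hE := K464.DegCurve.isEff_comap φ (isEff_point k hp) hgen
  have h1 : a = (ic ((K464.PtCurve.pt hp).comap φ) hE)⁻¹ := by
    rw [← K464.DegCurve.pull_ic φ (isEff_point k hp) hE, ic_pt, map_inv, inv_inv, hφ]
  exact ⟨hE, h1, Pencil.isCurve P hN ha hE h1⟩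

end K463.Ruling
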