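import Groth.Agent.Surf.K463.SmoothSurf
import Groth.Agent.Dix.HasBlow
import Groth.Agent.Surf.K455.BlowDim
import Groth.Agent.Surf.K455.CMCut
import Groth.Agent.Surf.K455.Proj
import Groth.Agent.Surf.K455.RelDim

/-!
# Smooth proper surfaces and birational induction

* `SPS k s`: `s : X ⟶ Spec k` is a smooth proper integral surface; `SPS.blowUp`: its blow-ups in closed points are again.
* `bir_iff`: a property of smooth proper surfaces invariant under isomorphisms and blow-ups of closed points is invariant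
  under proper birational morphisms.
-/

set_option autoImplicit false
set_option linter.unusedSectionVars false
universe u
open CategoryTheory CategoryTheory.Limits AlgebraicGeometry Opposite TopologicalSpace

namespace K463.Bir

open Groth.Agent Groth.Agent.Dix.ExcPts Groth.Agent.Dix.PointIdeal

local notation "Sp" k:max => Spec (CommRingCat.of k)

/-- A smooth proper integral surface over the field `k`. -/
structure SPS (k : Type u) [Field k] {X : Scheme.{u}} (s : X ⟶ Sp k) : Prop where
  int : IsIntegral X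
  dim : topologicalKrullDim X = 2
  proper : IsProper s
  smooth : Smooth s

section basic

variable {k : Type u} [Field k] {X Y Z : Scheme.{u}} {s : X ⟶ Sp k} {t : Y ⟶ Sp k}

theorem SPS.isSurf (h : SPS k s) : IsSurf X := by
  letI : X.Over (Sp k) := ⟨s⟩
  have := h.int
  have : IsProper (X ↘ (Sp k)) := h.proper
  have : Smooth (X ↘ (Sp k)) := h.smooth
  exact SmoothSurf.isSurf k X h.dim

theorem SPS.noeth (h : SPS k s) : IsNoetherian X := h.isSurf.noeth

theorem SPS.stalk_dim (h : SPS k s) (x : X) (hx : IsClosed ({x} : Set X)) : ringKrullDim (X.presheaf.stalk x) = 2 := by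
  letI : X.Over (Sp k) := ⟨s⟩
  have := h.int
  have : IsProper (X ↘ (Sp k)) := h.proper
  have := h.noeth
  have := h.isSurf.regular x
  apply le_antisymm
  · refine le_trans ?_ h.dim.le
    rw [Dix.ContractSurf.topologicalKrullDim_eq X]
    exact le_iSup (fun z : X => ringKrullDim (X.presheaf.stalk z)) x
  · exact K455.CMCut.le_ringKrullDim_stalk k X 2 (K455.Proj.dim_components h.dim) x hx

theorem SPS.of_iso (h : SPS k t) (e : X ≅ Y) (he : e.hom ≫ t = s) : SPS k s := by
  have := h.int
  have := h.proper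
  have := h.smooth
  subst he
  refine ⟨?_, ?_, inferInstance, inferInstance⟩
  · have : Nonempty X := ⟨e.inv (genericPoint Y)⟩
    exact isIntegral_of_isOpenImmersion e.hom
  · rw [← h.dim]
    exact IsHomeomorph.topologicalKrullDim_eq e.hom e.hom.homeomorph.isHomeomorph

/-- The blow-up of a closed point. -/
theorem SPS.blowUp [IsAlgClosed k] (h : SPS k t) (y : Y) (hy : IsClosed ({y} : Set Y)) (π : X ⟶ Y)
    (hπ : BlowUp.IsBlowUp π (pt y hy)) : SPS k (π ≫ t) := by
  have := h.int
  have := h.proper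
  have := h.smooth
  have := h.noeth
  have hr := h.isSurf.regular y
  have hd := h.stalk_dim y hy
  obtain ⟨hint, hS, hbir, -, z, hz⟩ := Dix.HasBlow.isSurf_blowUp h.isSurf y hy hd π hπ
  have hp := hbir.proper
  have := hS.noeth
  refine ⟨hint, ?_, inferInstance, K455.RelDim.smooth_of_regular k (π ≫ t) hS.regular⟩
  apply le_antisymm
  · exact K455.BlowDim.dim_blowUp_le π y hy hd hπ h.dim.le
  · rw [Groth.Agent.CurvesB.DimPts.krullDim_eq]
    have h1 : (Order.coheight z : WithBot ℕ∞) ≤ Order.krullDim X := Order.coheight_le_krullDim z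
    rw [hz] at h1
    exact h1

theorem isBir_blowUp [IsIntegral X] [IsIntegral Y] (h : SPS k t) (y : Y) (hy : IsClosed ({y} : Set Y)) (π : X ⟶ Y)
    (hπ : BlowUp.IsBlowUp π (pt y hy)) : IsBir π := by
  obtain ⟨hint, hS, hbir, -⟩ := Dix.HasBlow.isSurf_blowUp h.isSurf y hy (h.stalk_dim y hy) π hπ
  exact hbir

theorem isBir_comp [IsIntegral X] [IsIntegral Y] [IsIntegral Z] {f : X ⟶ Y} {g : Y ⟶ Z} (hf : IsBir f) (hg : IsBir g) :
    IsBir (f ≫ g) := by
  have := hf.proper
  have := hg.proper
  refine ⟨inferInstance, ?_, ?_⟩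
  · rw [Scheme.Hom.comp_apply, hf.gen, hg.gen]
  · have h1 := hf.bir
    have h2 : IsIso (g.stalkMap (f (genericPoint X))) := by
      rw [hf.gen]
      exact hg.bir
    rw [Scheme.Hom.stalkMap_comp]
    exact IsIso.comp_isIso' h2 h1

theorem isBir_of_isIso [IsIntegral X] [IsIntegral Y] (f : X ⟶ Y) [IsIso f] : IsBir f := by
  refine ⟨inferInstance, ?_, inferInstance⟩
  exact genericPoint_eq_of_isOpenImmersion f

end basic

section induct

variable {k : Type u} [Field k] [IsAlgClosed k] (P : ∀ {X : Scheme.{u}}, (X ⟶ Sp k) → Prop)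
  (hiso : ∀ {X Y : Scheme.{u}} {s : X ⟶ Sp k} {t : Y ⟶ Sp k} (e : X ≅ Y), e.hom ≫ t = s → SPS k t → (P s ↔ P t))
  (hblow : ∀ {X Y : Scheme.{u}} {t : Y ⟶ Sp k} (_ : SPS k t) (y : Y) (hy : IsClosed ({y} : Set Y)) (π : X ⟶ Y),
    BlowUp.IsBlowUp π (pt y hy) → (P (π ≫ t) ↔ P t))

include hiso hblow in
theorem bir_iff_aux (n : ℕ) : ∀ {Z X : Scheme.{u}} {s : Z ⟶ Sp k} {t : X ⟶ Sp k} (_ : SPS k s) (_ : SPS k t)
    [IsIntegral Z] [IsIntegral X] (q : Z ⟶ X), q ≫ t = s → IsBir q → (excPts q).ncard ≤ n → (P s ↔ P t) := by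
  induction n with
  | zero =>
    intro Z X s t hs ht _ _ q hqt hq hn
    have h1 := (Set.ncard_eq_zero (excPts_finite hs.isSurf ht.isSurf q hq)).mp (Nat.le_zero.mp hn)
    have h2 : IsIso q := isIso_of_excPts_eq_empty hs.isSurf ht.isSurf q hq h1
    exact hiso (asIso q) hqt ht
  | succ n ih =>
    intro Z X s t hs ht _ _ q hqt hq hn
    rcases isIso_or_exists_big hs.isSurf ht.isSurf q hq with h2 | ⟨y, hbig⟩
    · exact hiso (asIso q) hqt ht
    · have := ht.noeth
      have hy := isClosed_of_big ht.isSurf q hq y hbig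
      obtain ⟨W, π, hπ⟩ := Groth.Agent.Flat2C.BlowExist.exists_isBlowUp (pt y hy)
      have hW := ht.blowUp y hy π hπ
      have := hW.int
      obtain ⟨h, hh, hbir, hlt⟩ := exists_factor hs.isSurf ht.isSurf q hq y hy hbig hW.isSurf π hπ
      have h3 : h ≫ π ≫ t = s := by rw [← Category.assoc, hh, hqt]
      exact (ih hs hW h h3 hbir (by omega)).trans (hblow ht y hy π hπ)

include hiso hblow in
/-- **Birational induction.** -/
theorem bir_iff {Z X : Scheme.{u}} {s : Z ⟶ Sp k} {t : X ⟶ Sp k} (hs : SPS k s) (ht : SPS k t)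
    [IsIntegral Z] [IsIntegral X] (q : Z ⟶ X) (hqt : q ≫ t = s) (hq : IsBir q) : P s ↔ P t :=
  bir_iff_aux P hiso hblow _ hs ht q hqt hq le_rfl

end induct

end K463.Bir
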