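import Groth.Agent.Surf.K460.ZGeo
import Groth.Agent.Pi1C.LefFinal
import Groth.Agent.AdjLin.K801.Amp

/-!
# The non-vanishing locus of a section of an ample module is affine (cocycle form)
-/

set_option autoImplicit false
universe u
open CategoryTheory CategoryTheory.Limits AlgebraicGeometry TopologicalSpace Opposite IsLocalRing

namespace Groth.Agent.Surf.K463.ZAff

open Groth.Agent Groth.Agent.Fdesc.LocGen Groth.Agent.Lefpen.H725.CocDef Groth.Agent.Lefpen.H521.CartierCoc
open K801.Cousin K801.CousinH1 K801.LEq K460.ZSec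

attribute [local instance] algK

/-- the non-vanishing locus of a section of an ample module is affine -/
theorem exists_affine (k : Type u) [Field k] {X : Scheme.{u}} [X.Over (Spec (CommRingCat.of k))] [IsIntegral X]
    [IsProper (X ↘ Spec (CommRingCat.of k))] {D : X.Modules} (hD : CohB1.IsAmple D) {δ : X → X.functionField}
    (hδ : HasCoc D δ) {y : X.functionField} (hy : y ∈ secs k (fun x => δ x ^ (1 : ℤ))) :
    ∃ U : X.Opens, IsAffineOpen U ∧ ∀ x, x ∈ U ↔ UnitAt x (y / δ x ^ (1 : ℤ)) := by
  obtain ⟨E⟩ := nonempty_dat hδ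
  obtain ⟨s, hs⟩ := _root_.K801.Amp.exists_sv E y (fun x => by
    have := hy x
    simp only [zpow_one] at this
    exact this)
  refine ⟨CohB1.genLocus D s, Pi1C.LefFinal.isAffineOpen_genLocus (X ↘ Spec (CommRingCat.of k)) hD s, fun x => ?_⟩
  rw [_root_.K801.Amp.unitAt_sv_iff E s x, hs, zpow_one]

end Groth.Agent.Surf.K463.ZAff
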