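import Groth.Agent.Surf.K463.ZEq
import Groth.Agent.Surf.K405.AmpFrac

/-!
# The branch curve `w = 0` of a del Pezzo surface of degree one

* `exists_curve`: it is an integral curve.
* `not_mem_sq`: it has no double point.
-/

set_option autoImplicit false
universe u
open CategoryTheory CategoryTheory.Limits AlgebraicGeometry TopologicalSpace Opposite IsLocalRing

namespace Groth.Agent.Surf.K463.ZB

open Groth.Agent Groth.Agent.Fdesc.LocGen Groth.Agent.Lefpen.H725.CocDef Groth.Agent.Lefpen.H521.CartierCoc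
open K801.Cousin K801.CousinH1 K801.LEq Groth.Agent.Grpsch.PicGrp K464.Curves K464.Base Groth.Agent.Divis.CartierBasic
open K460.SurfKit K460.DelPezzo K460.ZSec K460.ZCurve K460.PicZ K460.PicZ.Gr K460.ZGeo ZRes ZSeq ZPt ZWei ZRep ZEq

attribute [local instance] algK

theorem Wt.C {k : Type*} [Field k] {b : Polynomial k} {n : ℕ} (h : b.natDegree ≤ n) :
    Wt (n : ℤ) (Polynomial.C b) := by
  intro c a hc
  rw [Polynomial.coeff_C] at hc
  split_ifs at hc with h0
  · subst h0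
    have := Polynomial.le_natDegree_of_ne_zero hc
    push_cast
    omega
  · simp at hc

theorem Wt.neg {k : Type*} [Field k] {p : Polynomial (Polynomial k)} {n : ℤ} (h : Wt n p) : Wt n (-p) := by
  intro c a hc
  refine h c a fun h0 => hc ?_
  rw [Polynomial.coeff_neg, Polynomial.coeff_neg, h0, neg_zero]

theorem Wt.sub {k : Type*} [Field k] {p q : Polynomial (Polynomial k)} {n : ℤ} (hp : Wt n p) (hq : Wt n q) :
    Wt n (p - q) := by
  rw [sub_eq_add_neg]
  exact hp.add (Wt.neg hq)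

theorem Wt.sum {k ι : Type*} [Field k] (s : Finset ι) {p : ι → Polynomial (Polynomial k)} {n : ℤ} (hp : ∀ i ∈ s, Wt n (p i)) :
    Wt n (∑ i ∈ s, p i) := by
  classical
  induction s using Finset.induction_on with
  | empty => simpa using Wt.zero n
  | insert a s ha ih =>
    rw [Finset.sum_insert ha]
    exact (hp a (Finset.mem_insert_self _ _)).add (ih fun i hi => hp i (Finset.mem_insert_of_mem hi))

theorem Wt.mul {k : Type*} [Field k] {p q : Polynomial (Polynomial k)} {n m : ℤ} (hp : Wt n p) (hq : Wt m q) :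
    Wt (n + m) (p * q) := by
  intro c a hc
  rw [Polynomial.coeff_mul] at hc
  rw [Polynomial.finset_sum_coeff] at hc
  obtain ⟨⟨i, j⟩, hij, h1⟩ := Finset.exists_ne_zero_of_sum_ne_zero hc
  rw [Polynomial.coeff_mul] at h1
  obtain ⟨⟨i', j'⟩, hij', h2⟩ := Finset.exists_ne_zero_of_sum_ne_zero h1
  have h3 := hp i i' (left_ne_zero_of_mul h2)
  have h4 := hq j j' (right_ne_zero_of_mul h2)
  rw [Finset.HasAntidiagonal.mem_antidiagonal] at hij hij'
  simp only at hij hij'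
  omega

variable {k : Type u} [Field k] [IsAlgClosed k] {X : Scheme.{u}} [X.Over (Spec (CommRingCat.of k))]
  [IsIntegral X] [IsProper (X ↘ Spec (CommRingCat.of k))] [Smooth (X ↘ Spec (CommRingCat.of k))]
  {W D : X.Modules} {P : DP k X W D} {hpic : ∀ c : Pic X, ∃ n : ℤ, c = mk W P.hWi ^ n}
  {δ : X → X.functionField} {hδ : HasCoc D δ}
  {x y z w : X.functionField} {p : X} (g : Gen P hpic hδ x y z w p)

include g

/-- No `ω` in degree at most two. -/
theorem rep_low {n : ℕ} (hn : n ≤ 2) {f : X.functionField} (hf : f ∈ (gr P hpic hδ).V n) :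
    ∃ p : Polynomial (Polynomial k), Wt n p ∧ f = y ^ n * ev k (z / y ^ 2) (x / y) p := by
  obtain ⟨p, q, hp, hq, hf⟩ := rep g n f hf
  have hq0 : q = 0 := by
    ext i j
    by_contra hne
    have := hq i j hne
    omega
  rw [hq0, map_zero, mul_zero, add_zero] at hf
  exact ⟨p, hp, hf⟩

theorem w_irr : ∀ (i j : ℤ) (a b : X.functionField), 0 < i → 0 < j → i + j = 3 →
    a ∈ (gr P hpic hδ).V i → b ∈ (gr P hpic hδ).V j → w ≠ a * b := by
  intro i j a b hi hj hij ha hb hw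
  obtain ⟨i, rfl⟩ := Int.eq_ofNat_of_zero_le hi.le
  obtain ⟨j, rfl⟩ := Int.eq_ofNat_of_zero_le hj.le
  obtain ⟨pa, -, ea⟩ := rep_low g (by omega) ha
  obtain ⟨pb, -, eb⟩ := rep_low g (by omega) hb
  have hy0 := g.hy0
  have h1 : y ^ i * y ^ j = y ^ 3 := by
    rw [← pow_add]
    congr 1
    omega
  have h2 : ev k (z / y ^ 2) (x / y) 0 + w / y ^ 3 * ev k (z / y ^ 2) (x / y) 1 =
      ev k (z / y ^ 2) (x / y) (pa * pb) + w / y ^ 3 * ev k (z / y ^ 2) (x / y) 0 := by
    simp only [map_zero, map_one, map_mul, mul_zero, add_zero, zero_add, mul_one]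
    rw [hw, ea, eb, ← h1]
    field_simp
  exact one_ne_zero (inj' g _ _ _ _ h2).2

theorem w_ne : w ≠ 0 := by
  rintro rfl
  have := unitAt_ne_zero g.hwp
  simp at this

/-- The curve `w = 0`. -/
theorem exists_curve : ∃ (C : X.IdealSheafData) (_ : IsCurve C) (d : X → X.functionField), IsLEq C d ∧
      ∀ x, UnitAt x (w / δ x ^ (3 : ℤ) / d x) :=
  exists_curve_eq P hpic hδ (by norm_num) g.hw (w_ne g) (w_irr g)

theorem symm : Gen P hpic hδ y x z w p where
  hx := g.hy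
  hy := g.hx
  hz := g.hz
  hw := g.hw
  hx0 := g.hy0
  hy0 := g.hx0
  h1 := fun f hf => by
    obtain ⟨a, b, h⟩ := g.h1 f hf
    exact ⟨b, a, by rw [h, add_comm]⟩
  hp := g.hp
  hxp := g.hyp
  hyp := g.hxp
  huniq := fun q h1 h2 => g.huniq q h2 h1
  hzp := g.hzp
  hwp := g.hwp
  hker := fun n s hs h => by
    obtain ⟨a, ha, b, hb, h⟩ := g.hker n s hs h
    exact ⟨b, hb, a, ha, by rw [h, add_comm]⟩
  hdim := g.hdim

omit g in
omit [IsAlgClosed k] [IsProper (X ↘ Spec (CommRingCat.of k))] [Smooth (X ↘ Spec (CommRingCat.of k))] in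
theorem regAt_ev {b : X} {s t : X.functionField} (hs : RegAt b s) (ht : RegAt b t) (p : Polynomial (Polynomial k)) :
    RegAt b (ev k s t p) := by
  obtain ⟨B, hB⟩ := exists_bound p
  rw [ev_eq_sum p (m := B) (n := fun _ => B) hB]
  rw [regAt_iff]
  refine Subring.sum_mem _ fun c _ => Subring.sum_mem _ fun a _ => ?_
  rw [Algebra.smul_def]
  exact Subring.mul_mem _ ((regAt_iff _ _).1 (regAt_algebraMap k b _))
    (Subring.mul_mem _ (Subring.pow_mem _ ((regAt_iff _ _).1 ht) _) (Subring.pow_mem _ ((regAt_iff _ _).1 hs) _))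

omit g in
omit [IsAlgClosed k] [X.Over (Spec (CommRingCat.of k))] [IsProper (X ↘ Spec (CommRingCat.of k))] [Smooth (X ↘ Spec (CommRingCat.of k))] [IsIntegral X] in
/-- Taylor expansion of order one. -/
theorem taylor (s₀ t₀ : k) (p : Polynomial (Polynomial k)) : ∃ a b : Polynomial (Polynomial k),
    p = Polynomial.C (Polynomial.C (ev k s₀ t₀ p)) + Polynomial.C (Polynomial.X - Polynomial.C t₀) * a +
      (Polynomial.X - Polynomial.C (Polynomial.C s₀)) * b := by
  have h1 := Polynomial.modByMonic_add_div p (Polynomial.X - Polynomial.C (Polynomial.C s₀))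
  rw [Polynomial.modByMonic_X_sub_C_eq_C_eval] at h1
  set r := p.eval (Polynomial.C s₀) with hr
  have h2 := Polynomial.modByMonic_add_div r (Polynomial.X - Polynomial.C t₀)
  rw [Polynomial.modByMonic_X_sub_C_eq_C_eval] at h2
  have h3 : r.eval t₀ = ev k s₀ t₀ p := by
    have h4 := congrArg (ev k s₀ t₀) h1
    rw [map_add, map_mul, map_sub, ev_X, ev_C, ev_C] at h4
    simp only [Polynomial.aeval_C, Algebra.algebraMap_self, RingHom.id_apply, sub_self, zero_mul, add_zero] at h4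
    rw [← h4]
    rfl
  refine ⟨Polynomial.C (r /ₘ (Polynomial.X - Polynomial.C t₀)), p /ₘ (Polynomial.X - Polynomial.C (Polynomial.C s₀)), ?_⟩
  rw [← h3]
  conv_lhs => rw [← h1, ← h2]
  rw [Polynomial.C_add, Polynomial.C_mul]

theorem unit_div_y {b : X} (hyb : UnitAt b (y / δ b ^ (1 : ℤ))) {n : ℕ} {f : X.functionField}
    (hf : UnitAt b (f / δ b ^ (n : ℤ))) : UnitAt b (f / y ^ n) := by
  rw [zpow_one] at hyb
  have h1 := unitAt_mul hf (unitAt_zpow hyb (-n))
  have hy0 := g.hy0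
  have hδ0 := hδ.1 b
  rwa [show f / δ b ^ (n : ℤ) * (y / δ b) ^ (-(n : ℤ)) = f / y ^ n by
    rw [zpow_neg, zpow_natCast, zpow_natCast, div_pow]
    field_simp] at h1

theorem regAt_div_y {b : X} (hyb : UnitAt b (y / δ b ^ (1 : ℤ))) {n : ℕ} {f : X.functionField}
    (hf : f ∈ (gr P hpic hδ).V n) : RegAt b (f / y ^ n) := by
  rw [zpow_one] at hyb
  have h1 := regAt_mul (hf b) (unitAt_regAt (unitAt_zpow hyb (-n)))
  have hy0 := g.hy0
  have hδ0 := hδ.1 b
  rwa [show f / δ b ^ (n : ℤ) * (y / δ b) ^ (-(n : ℤ)) = f / y ^ n by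
    rw [zpow_neg, zpow_natCast, zpow_natCast, div_pow]
    field_simp] at h1

/-- The curve `w = 0` has no double point. -/
theorem not_mem_sq {b₂ b₄ b₆ : Polynomial k}
    (hweq : (w / y ^ 3) ^ 2 = (z / y ^ 2) ^ 3 + Polynomial.aeval (x / y) b₂ * (z / y ^ 2) ^ 2 +
        Polynomial.aeval (x / y) b₄ * (z / y ^ 2) + Polynomial.aeval (x / y) b₆)
    {b : X} (hb : IsClosed ({b} : Set X)) (hyb : UnitAt b (y / δ b ^ (1 : ℤ)))
    (r : X.presheaf.stalk b) (hrm : r ∈ maximalIdeal (X.presheaf.stalk b))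
    (hr : algebraMap _ X.functionField r = w / y ^ 3) :
    r ∉ maximalIdeal (X.presheaf.stalk b) ^ 2 := by
  intro hr2
  have hy0 := g.hy0
  have hNN : IsNoetherian X := CurvesB.CurveRR.isNoetherian_of_proper k X
  have hNs : IsNoetherianRing (X.presheaf.stalk b) := inferInstance
  have ht : RegAt b (x / y) := by
    have := regAt_div_y g hyb (n := 1) (by exact_mod_cast g.hx)
    rwa [pow_one] at this
  have hζ : RegAt b (z / y ^ 2) := regAt_div_y g hyb (by exact_mod_cast g.hz)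
  have hω : RegAt b (w / y ^ 3) := regAt_div_y g hyb (by exact_mod_cast g.hw)
  have hωn : ¬ UnitAt b (w / y ^ 3) := by
    rw [not_unitAt_iff hω]
    exact ⟨r, hrm, hr⟩
  obtain ⟨t₀, ht₀⟩ := exists_val k hb ht
  obtain ⟨s₀, hs₀⟩ := exists_val k hb hζ
  have hRt := regAt_sub ht (regAt_algebraMap k b t₀)
  have hRs := regAt_sub hζ (regAt_algebraMap k b s₀)
  obtain ⟨T, hT, hTe⟩ := (not_unitAt_iff hRt).1 ht₀
  obtain ⟨Z, hZ, hZe⟩ := (not_unitAt_iff hRs).1 hs₀
  have evr : ∀ q : Polynomial (Polynomial k), RegAt b (ev k (z / y ^ 2) (x / y) q) := fun q => regAt_ev hζ ht q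
  have tay : ∀ q : Polynomial (Polynomial k), ∃ a c : Polynomial (Polynomial k), ev k (z / y ^ 2) (x / y) q =
      algebraMap k X.functionField (ev k s₀ t₀ q) + (x / y - algebraMap k X.functionField t₀) *
        ev k (z / y ^ 2) (x / y) a + (z / y ^ 2 - algebraMap k X.functionField s₀) * ev k (z / y ^ 2) (x / y) c := by
    intro q
    obtain ⟨a, c, h⟩ := taylor s₀ t₀ q
    refine ⟨a, c, ?_⟩
    have h1 := congrArg (ev k (z / y ^ 2) (x / y)) h
    simp only [map_add, map_mul, map_sub, ev_C, ev_X, Polynomial.aeval_X, Polynomial.aeval_C] at h1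
    exact h1
  have zero_of : ∀ c : k, ¬ UnitAt b (algebraMap k X.functionField c) → c = 0 := by
    intro c hc
    by_contra hne
    exact hc (unitAt_of_regAt (regAt_algebraMap k b c) (regAt_algebraMap k b c⁻¹)
      (by rw [← map_mul, mul_inv_cancel₀ hne, map_one]))
  -- the maximal ideal
  have hm : maximalIdeal (X.presheaf.stalk b) ≤ Ideal.span {T, Z, r} := by
    intro φ hφ
    obtain ⟨n, f, g', hf, hg', hgu, hu⟩ := K405.AmpFrac.exists_frac k P.hamp hδ ((regAt_iff b _).2 ⟨φ, rfl⟩)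
    obtain ⟨pf, qf, -, -, hpf⟩ := rep g n f hf
    obtain ⟨a, c, hac⟩ := tay pf
    have hγ := unit_div_y g hyb hgu
    have hγ0 := unitAt_ne_zero hγ
    have hg0 : g' ≠ 0 := fun h => hγ0 (by rw [h, zero_div])
    have hyn := pow_ne_zero n hy0
    have hφu : ¬ UnitAt b (algebraMap _ X.functionField φ) :=
      (not_unitAt_iff ((regAt_iff b _).2 ⟨φ, rfl⟩)).2 ⟨φ, hφ, rfl⟩
    have e1 : algebraMap _ X.functionField φ * (g' / y ^ n) =
        ev k (z / y ^ 2) (x / y) pf + w / y ^ 3 * ev k (z / y ^ 2) (x / y) qf := by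
      rw [hu, hpf]
      field_simp
    have e2 : algebraMap k X.functionField (ev k s₀ t₀ pf) = algebraMap _ X.functionField φ * (g' / y ^ n) +
        ((x / y - algebraMap k X.functionField t₀) * (-ev k (z / y ^ 2) (x / y) a) +
        ((z / y ^ 2 - algebraMap k X.functionField s₀) * (-ev k (z / y ^ 2) (x / y) c) +
          w / y ^ 3 * (-ev k (z / y ^ 2) (x / y) qf))) := by
      rw [e1, hac]
      ring
    have n1 := not_unitAt_mul ((regAt_iff b _).2 ⟨φ, rfl⟩) (unitAt_regAt hγ) hφu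
    have n2 := not_unitAt_mul hRt (regAt_neg (evr a)) ht₀
    have n3 := not_unitAt_mul hRs (regAt_neg (evr c)) hs₀
    have n4 := not_unitAt_mul hω (regAt_neg (evr qf)) hωn
    have r1 := regAt_mul ((regAt_iff b _).2 ⟨φ, rfl⟩) (unitAt_regAt hγ)
    have r2 := regAt_mul hRt (regAt_neg (evr a))
    have r3 := regAt_mul hRs (regAt_neg (evr c))
    have r4 := regAt_mul hω (regAt_neg (evr qf))
    have e3 : ev k s₀ t₀ pf = 0 := by
      apply zero_of
      rw [e2]
      exact not_unitAt_add r1 (regAt_add r2 (regAt_add r3 r4)) n1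
        (not_unitAt_add r2 (regAt_add r3 r4) n2 (not_unitAt_add r3 r4 n3 n4))
    rw [e3, map_zero, zero_add] at hac
    obtain ⟨A, hA⟩ := exists_stalk (evr a)
    obtain ⟨Cc, hCc⟩ := exists_stalk (evr c)
    obtain ⟨Qf, hQf⟩ := exists_stalk (evr qf)
    obtain ⟨Γ', hΓ'⟩ := exists_stalk (unitAt_regAt (unitAt_inv hγ))
    have e4 : φ = Γ' * A * T + Γ' * Cc * Z + Γ' * Qf * r := by
      apply IsFractionRing.injective _ X.functionField
      simp only [map_add, map_mul, hA, hCc, hQf, hΓ', hTe, hZe, hr]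
      have e5 : algebraMap _ X.functionField φ = (g' / y ^ n)⁻¹ *
          (ev k (z / y ^ 2) (x / y) pf + w / y ^ 3 * ev k (z / y ^ 2) (x / y) qf) := by
        rw [← e1]
        field_simp
      rw [e5, hac]
      ring
    rw [e4]
    refine Ideal.add_mem _ (Ideal.add_mem _ ?_ ?_) ?_
    · exact Ideal.mul_mem_left _ _ (Ideal.subset_span (by simp))
    · exact Ideal.mul_mem_left _ _ (Ideal.subset_span (by simp))
    · exact Ideal.mul_mem_left _ _ (Ideal.subset_span (by simp))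
  have hm' : maximalIdeal (X.presheaf.stalk b) ≤ Ideal.span {T, Z} := by
    refine Submodule.le_of_le_smul_of_le_jacobson_bot (I := maximalIdeal (X.presheaf.stalk b)) (IsNoetherian.noetherian _)
      (IsLocalRing.maximalIdeal_le_jacobson _) ?_
    refine hm.trans ?_
    rw [Ideal.span_le]
    rintro a (rfl | rfl | rfl)
    · exact Submodule.mem_sup_left (Ideal.subset_span (by simp))
    · exact Submodule.mem_sup_left (Ideal.subset_span (by simp))
    · refine Submodule.mem_sup_right ?_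
      rw [smul_eq_mul, ← pow_two]
      exact hr2
  obtain ⟨A, B, hAB⟩ := Ideal.mem_span_pair.1 (hm' hrm)
  obtain ⟨n₁, f₁, g₁, hf₁, hg₁, hgu₁, hu₁⟩ := K405.AmpFrac.exists_frac k P.hamp hδ ((regAt_iff b _).2 ⟨A, rfl⟩)
  obtain ⟨n₂, f₂, g₂, hf₂, hg₂, hgu₂, hu₂⟩ := K405.AmpFrac.exists_frac k P.hamp hδ ((regAt_iff b _).2 ⟨B, rfl⟩)
  obtain ⟨a₁, c₁, -, -, ef₁⟩ := rep g n₁ f₁ hf₁
  obtain ⟨a₂, c₂, -, -, ef₂⟩ := rep g n₂ f₂ hf₂
  obtain ⟨p₁, q₁, -, -, eg₁⟩ := rep g n₁ g₁ hg₁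
  obtain ⟨p₂, q₂, -, -, eg₂⟩ := rep g n₂ g₂ hg₂
  have hγ₁ := unit_div_y g hyb hgu₁
  have hγ₂ := unit_div_y g hyb hgu₂
  have hyn₁ := pow_ne_zero n₁ hy0
  have hyn₂ := pow_ne_zero n₂ hy0
  have hg₁0 : g₁ ≠ 0 := fun h => unitAt_ne_zero hγ₁ (by rw [h, zero_div])
  have hg₂0 : g₂ ≠ 0 := fun h => unitAt_ne_zero hγ₂ (by rw [h, zero_div])
  have d₁ : g₁ / y ^ n₁ = ev k (z / y ^ 2) (x / y) p₁ + w / y ^ 3 * ev k (z / y ^ 2) (x / y) q₁ := by
    rw [eq_comm, eq_div_iff hyn₁, mul_comm]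
    exact eg₁.symm
  have d₂ : g₂ / y ^ n₂ = ev k (z / y ^ 2) (x / y) p₂ + w / y ^ 3 * ev k (z / y ^ 2) (x / y) q₂ := by
    rw [eq_comm, eq_div_iff hyn₂, mul_comm]
    exact eg₂.symm
  have d₃ : f₁ / y ^ n₁ = ev k (z / y ^ 2) (x / y) a₁ + w / y ^ 3 * ev k (z / y ^ 2) (x / y) c₁ := by
    rw [eq_comm, eq_div_iff hyn₁, mul_comm]
    exact ef₁.symm
  have d₄ : f₂ / y ^ n₂ = ev k (z / y ^ 2) (x / y) a₂ + w / y ^ 3 * ev k (z / y ^ 2) (x / y) c₂ := by
    rw [eq_comm, eq_div_iff hyn₂, mul_comm]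
    exact ef₂.symm
  set F : Polynomial (Polynomial k) := Polynomial.X ^ 3 + Polynomial.C b₂ * Polynomial.X ^ 2 +
    Polynomial.C b₄ * Polynomial.X + Polynomial.C b₆ with hF
  have evF : ev k (z / y ^ 2) (x / y) F = (w / y ^ 3) ^ 2 := by
    rw [hweq, hF]
    simp only [map_add, map_mul, map_pow, ev_C, ev_X]
  have hω2 : w / y ^ 3 = f₁ / g₁ * (x / y - algebraMap k X.functionField t₀) +
      f₂ / g₂ * (z / y ^ 2 - algebraMap k X.functionField s₀) := by
    have h1 := congrArg (algebraMap _ X.functionField) hAB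
    rw [map_add, map_mul, map_mul, hTe, hZe, hr, hu₁, hu₂] at h1
    exact h1.symm
  have h1 : g₁ / y ^ n₁ * (g₂ / y ^ n₂) * (w / y ^ 3) =
      f₁ / y ^ n₁ * (g₂ / y ^ n₂) * (x / y - algebraMap k X.functionField t₀) +
      f₂ / y ^ n₂ * (g₁ / y ^ n₁) * (z / y ^ 2 - algebraMap k X.functionField s₀) := by
    rw [hω2]
    field_simp
  rw [d₁, d₂, d₃, d₄] at h1
  have h2 : ev k (z / y ^ 2) (x / y) (F * (p₁ * q₂ + q₁ * p₂)) + w / y ^ 3 *
        ev k (z / y ^ 2) (x / y) (p₁ * p₂ + F * (q₁ * q₂)) =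
      ev k (z / y ^ 2) (x / y) ((a₁ * p₂ + F * (c₁ * q₂)) * Polynomial.C (Polynomial.X - Polynomial.C t₀) +
        (a₂ * p₁ + F * (c₂ * q₁)) * (Polynomial.X - Polynomial.C (Polynomial.C s₀))) + w / y ^ 3 *
      ev k (z / y ^ 2) (x / y) ((a₁ * q₂ + c₁ * p₂) * Polynomial.C (Polynomial.X - Polynomial.C t₀) +
        (a₂ * q₁ + c₂ * p₁) * (Polynomial.X - Polynomial.C (Polynomial.C s₀))) := by
    simp only [map_add, map_mul, map_sub, evF, ev_C, ev_X, Polynomial.aeval_X, Polynomial.aeval_C]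
    linear_combination h1
  have h3 := (inj' g _ _ _ _ h2).2
  have h4 : ev k s₀ t₀ (p₁ * p₂ + F * (q₁ * q₂)) = 0 := by
    rw [h3]
    simp only [map_add, map_mul, map_sub, ev_C, ev_X, Polynomial.aeval_X, Polynomial.aeval_C, Algebra.algebraMap_self,
      RingHom.id_apply, sub_self, mul_zero, add_zero]
  obtain ⟨a, c, hac⟩ := tay (p₁ * p₂ + F * (q₁ * q₂))
  rw [h4, map_zero, zero_add] at hac
  have h5 : g₁ / y ^ n₁ * (g₂ / y ^ n₂) = (x / y - algebraMap k X.functionField t₀) *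
        ev k (z / y ^ 2) (x / y) a + ((z / y ^ 2 - algebraMap k X.functionField s₀) * ev k (z / y ^ 2) (x / y) c +
        w / y ^ 3 * ev k (z / y ^ 2) (x / y) (p₁ * q₂ + q₁ * p₂)) := by
    rw [← add_assoc, ← hac, d₁, d₂]
    simp only [map_add, map_mul, evF]
    ring
  have r1 := regAt_mul hRt (evr a)
  have r2 := regAt_mul hRs (evr c)
  have r3 := regAt_mul hω (evr (p₁ * q₂ + q₁ * p₂))
  refine not_unitAt_add r1 (regAt_add r2 r3) (not_unitAt_mul hRt (evr a) ht₀)
    (not_unitAt_add r2 r3 (not_unitAt_mul hRs (evr c) hs₀) (not_unitAt_mul hω (evr _) hωn)) ?_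
  rw [← h5]
  exact unitAt_mul hγ₁ hγ₂

end Groth.Agent.Surf.K463.ZB
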