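import Groth.Agent.Surf.K463.ZB
import Groth.Agent.Surf.K947.SmoothCrv

/-!
# The branch curve is smooth of genus four
-/

set_option autoImplicit false
universe u
open CategoryTheory CategoryTheory.Limits AlgebraicGeometry TopologicalSpace Opposite IsLocalRing

namespace Groth.Agent.Surf.K463.ZCrv

open Groth.Agent Groth.Agent.Fdesc.LocGen Groth.Agent.Lefpen.H725.CocDef Groth.Agent.Lefpen.H521.CartierCoc
open K801.Cousin K801.CousinH1 K801.LEq Groth.Agent.Grpsch.PicGrp K464.Curves K464.Base Groth.Agent.Divis.CartierBasic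
open K460.SurfKit K460.DelPezzo K460.ZSec K460.ZCurve K460.PicZ K460.PicZ.Gr K460.ZGeo ZRes ZSeq ZPt ZWei ZRep ZEq ZB

attribute [local instance] algK

theorem reflect_eq {k L : Type*} [Field k] [Field L] [Algebra k L] {x y : L} (hx : x ≠ 0) (hy : y ≠ 0)
    (q : Polynomial k) {n : ℕ} (hq : q.natDegree ≤ n) :
    Polynomial.aeval (y / x) (Polynomial.reflect n q) * x ^ n = Polynomial.aeval (x / y) q * y ^ n := by
  have : Invertible (x / y) := invertibleOfNonzero (div_ne_zero hx hy)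
  have h1 := Polynomial.eval₂_reflect_mul_pow (algebraMap k L) (x / y) n q hq
  rw [invOf_eq_inv, inv_div, div_pow] at h1
  change Polynomial.eval₂ (algebraMap k L) (y / x) (Polynomial.reflect n q) * x ^ n =
    Polynomial.eval₂ (algebraMap k L) (x / y) q * y ^ n
  rw [← h1]
  field_simp

variable {k : Type u} [Field k] [IsAlgClosed k] {X : Scheme.{u}} [X.Over (Spec (CommRingCat.of k))]
  [IsIntegral X] [IsProper (X ↘ Spec (CommRingCat.of k))] [Smooth (X ↘ Spec (CommRingCat.of k))]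
  {W D : X.Modules} {P : DP k X W D} {hpic : ∀ c : Pic X, ∃ n : ℤ, c = mk W P.hWi ^ n}
  {δ : X → X.functionField} {hδ : HasCoc D δ}
  {x y z w : X.functionField} {p : X} (g : Gen P hpic hδ x y z w p)

include g

theorem weq_symm {b₂ b₄ b₆ : Polynomial k} (h₂ : b₂.natDegree ≤ 2) (h₄ : b₄.natDegree ≤ 4) (h₆ : b₆.natDegree ≤ 6)
    (hweq : (w / y ^ 3) ^ 2 = (z / y ^ 2) ^ 3 + Polynomial.aeval (x / y) b₂ * (z / y ^ 2) ^ 2 +
        Polynomial.aeval (x / y) b₄ * (z / y ^ 2) + Polynomial.aeval (x / y) b₆) :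
    (w / x ^ 3) ^ 2 = (z / x ^ 2) ^ 3 + Polynomial.aeval (y / x) (Polynomial.reflect 2 b₂) * (z / x ^ 2) ^ 2 +
        Polynomial.aeval (y / x) (Polynomial.reflect 4 b₄) * (z / x ^ 2) +
        Polynomial.aeval (y / x) (Polynomial.reflect 6 b₆) := by
  have hx := g.hx0
  have hy := g.hy0
  have e2 := reflect_eq hx hy b₂ h₂
  have e4 := reflect_eq hx hy b₄ h₄
  have e6 := reflect_eq hx hy b₆ h₆
  have e2' : Polynomial.aeval (y / x) (Polynomial.reflect 2 b₂) = Polynomial.aeval (x / y) b₂ * y ^ 2 / x ^ 2 := by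
    rw [← e2]; field_simp
  have e4' : Polynomial.aeval (y / x) (Polynomial.reflect 4 b₄) = Polynomial.aeval (x / y) b₄ * y ^ 4 / x ^ 4 := by
    rw [← e4]; field_simp
  have e6' : Polynomial.aeval (y / x) (Polynomial.reflect 6 b₆) = Polynomial.aeval (x / y) b₆ * y ^ 6 / x ^ 6 := by
    rw [← e6]; field_simp
  rw [e2', e4', e6']
  have h1 : (w / x ^ 3) ^ 2 = (w / y ^ 3) ^ 2 * (y ^ 6 / x ^ 6) := by field_simp
  rw [h1, hweq]
  field_simp

/-- The branch curve is smooth. -/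
theorem smooth_curve {b₂ b₄ b₆ : Polynomial k} (h₂ : b₂.natDegree ≤ 2) (h₄ : b₄.natDegree ≤ 4) (h₆ : b₆.natDegree ≤ 6)
    (hweq : (w / y ^ 3) ^ 2 = (z / y ^ 2) ^ 3 + Polynomial.aeval (x / y) b₂ * (z / y ^ 2) ^ 2 +
        Polynomial.aeval (x / y) b₄ * (z / y ^ 2) + Polynomial.aeval (x / y) b₆)
    {C : X.IdealSheafData} (hC : IsCurve C) {d : X → X.functionField} (hd : IsLEq C d)
    (he : ∀ x, UnitAt x (w / δ x ^ (3 : ℤ) / d x)) :
    letI := overC k X C
    Smooth (C.subscheme ↘ Spec (CommRingCat.of k)) := by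
  refine K947.SmoothCrv.smooth_of_not_le_sq k P.hdim hC ?_
  intro q hq hqc hle
  have hwq : ¬ UnitAt q (w / δ q ^ (3 : ℤ)) := (support_iff hd he q).1 hq
  obtain ⟨r₀, hr₀, hr₀d⟩ := stalk_leq hd q
  have hr₀m : r₀ ∈ maximalIdeal (X.presheaf.stalk q) ^ 2 := hle (hr₀ ▸ Ideal.mem_span_singleton_self r₀)
  have key : ∀ x y : X.functionField, Gen P hpic hδ x y z w p → ∀ b₂ b₄ b₆ : Polynomial k,
      (w / y ^ 3) ^ 2 = (z / y ^ 2) ^ 3 + Polynomial.aeval (x / y) b₂ * (z / y ^ 2) ^ 2 +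
        Polynomial.aeval (x / y) b₄ * (z / y ^ 2) + Polynomial.aeval (x / y) b₆ →
      ¬ UnitAt q (y / δ q ^ (1 : ℤ)) := by
    intro x y g b₂ b₄ b₆ hweq hyq
    have hω : RegAt q (w / y ^ 3) := regAt_div_y g hyq (by exact_mod_cast g.hw)
    have hy0 := g.hy0
    have hδ0 := hδ.1 q
    have hd0 := hd.ne_zero q
    have hyq' := hyq
    rw [zpow_one] at hyq'
    have hu := unitAt_mul (he q) (unitAt_zpow hyq' (-3))
    obtain ⟨v, hv⟩ := exists_stalk (unitAt_regAt hu)
    have e1 : algebraMap _ X.functionField (v * r₀) = w / y ^ 3 := by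
      rw [map_mul, hv, hr₀d, zpow_neg]
      have : (δ q ^ (3 : ℤ)) = δ q ^ 3 := by norm_cast
      rw [this]
      have : ((y / δ q) ^ (3 : ℤ)) = (y / δ q) ^ 3 := by norm_cast
      rw [this]
      field_simp
    have h1 : v * r₀ ∈ maximalIdeal (X.presheaf.stalk q) ^ 2 := Ideal.mul_mem_left _ _ hr₀m
    exact not_mem_sq g hweq hqc hyq (v * r₀) (Ideal.pow_le_self two_ne_zero h1) e1 h1
  have hy := key x y g b₂ b₄ b₆ hweq
  have hx := key y x (symm g) _ _ _ (weq_symm g h₂ h₄ h₆ hweq)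
  have hqp := g.huniq q hx hy
  subst hqp
  exact hwq g.hwp

theorem hyξ {C : X.IdealSheafData} (hC : IsCurve C) {d : X → X.functionField} (hd : IsLEq C d)
    (he : ∀ x, UnitAt x (w / δ x ^ (3 : ℤ) / d x)) : UnitAt (gp hC) (y / δ (gp hC)) := by
  by_contra hne
  have h1 := div_mem P hδ hC hd he g.hy (by rwa [zpow_one])
  have h2 := V_neg P hδ (by norm_num) h1
  rw [div_eq_zero_iff] at h2
  exact h2.elim g.hy0 (w_ne g)

theorem rs_w {C : X.IdealSheafData} (hC : IsCurve C) {d : X → X.functionField} (hd : IsLEq C d)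
    (he : ∀ x, UnitAt x (w / δ x ^ (3 : ℤ) / d x)) :
    haveI := hC.integral
    RegAt (gp hC) (w / y ^ 3) ∧ rs C.subschemeι (w / y ^ 3) = 0 := by
  haveI := hC.integral
  have hy := hyξ g hC hd he
  have h1 : RegAt (gp hC) (w / y ^ 3) := by
    have := regAt_sec hδ hC hy g.hw
    exact_mod_cast this
  refine ⟨h1, (rs_eq_zero_iff h1).2 fun h2 => ?_⟩
  have h3 := (support_iff hd he (gp hC)).1 (gp_mem hC)
  apply h3
  have h4 := unitAt_mul h2 (unitAt_zpow hy 3)
  have hy0 := g.hy0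
  have hδ0 := hδ.1 (gp hC)
  rwa [show w / y ^ 3 * (y / δ (gp hC)) ^ (3 : ℤ) = w / δ (gp hC) ^ (3 : ℤ) by
    rw [div_zpow]
    norm_cast
    field_simp] at h4

variable (hK : Kod k X) (hd1 : dot k X (mk W P.hWi) (mk W P.hWi) = 1)

include hK hd1 in
theorem genus_curve {C : X.IdealSheafData} (hC : IsCurve C) {d : X → X.functionField} (hd : IsLEq C d)
    (he : ∀ x, UnitAt x (w / δ x ^ (3 : ℤ) / d x)) :
    letI := overC k X C
    Curv2.genus k C.subscheme = 4 := by
  letI := overC k X C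
  have := isProper_sub k X C
  have := hC.integral
  have hdim : topologicalKrullDim C.subscheme = 1 := (dim_sub X C).trans hC.dim
  have hCe := isEff_of_smooth k P.hdim hC
  have h1 := euler_quotMod_eq k X hCe
  rw [euler_quotMod_sub, CurvesC.CurveCoh.euler_eq k _ hdim, VarietyA.CurveFin.finrank_h0_structure k C.subscheme] at h1
  have hic := ic_eq P hδ hd he hCe
  have h2 := P.rr' hK (ic C hCe)
  have h3 := P.rr' hK 1
  rw [dot_one_left, dot_one_left] at h3
  have hw : mk D P.hamp.1 ^ (-(3 : ℤ)) = mk W P.hWi ^ 3 := by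
    rw [P.mk_D, inv_zpow, ← zpow_neg, neg_neg]
    norm_cast
  rw [hic, hw, dot_pow_left k X P.hdim.le, dot_pow_left k X P.hdim.le, dot_pow_right k X P.hdim.le, hd1] at h2
  rw [hic, hw] at h1
  have h4 : ((Curv2.genus k C.subscheme : ℕ) : ℤ) = 4 := by
    rw [Curv2.genus]
    push_cast at h1 h2
    linarith
  exact_mod_cast h4

include hd1 in
theorem deg_curve {C : X.IdealSheafData} (hC : IsCurve C) {d : X → X.functionField} (hd : IsLEq C d)
    (he : ∀ x, UnitAt x (w / δ x ^ (3 : ℤ) / d x)) (n : ℤ) :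
    degOn k X C (mk D P.hamp.1 ^ n) = 3 * n := by
  have hCe := isEff_of_smooth k P.hdim hC
  rw [degOn_eq_neg_dot k X hCe, ic_eq P hδ hd he hCe, dot_zpow_left k X P.hdim.le, dot_zpow_right k X P.hdim.le,
    P.mk_D, dot_inv_inv k X P.hdim.le, hd1]
  ring

end Groth.Agent.Surf.K463.ZCrv
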