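import Groth.Agent.Surf.K463.ZRes
import Groth.Agent.Surf.K405.AmpFrac
import Groth.Agent.CurvesB.SmoothCurveFacts
import Mathlib.RingTheory.DedekindDomain.AdicValuation

/-!
# Sections over the non-vanishing locus of a section; valuations of a Dedekind chart
-/

set_option autoImplicit false
universe u
open CategoryTheory CategoryTheory.Limits AlgebraicGeometry TopologicalSpace Opposite IsLocalRing

namespace Groth.Agent.Surf.K463.ZDedA

open Groth.Agent.Fdesc.LocGen Groth.Agent.Lefpen.H725.CocDef Groth.Agent.Lefpen.H521.CartierCoc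
open K801.Cousin K801.CousinH1 K801.LEq K460.ZSec K460.ZCurve ZRes Groth.Agent.Dix.IdealModCartier

section restr

variable {X Y : Scheme.{u}} [IsIntegral X] [IsIntegral Y] {i : Y ⟶ X}

theorem unitAt_of_rs {q : Y} {u : X.functionField} (hu : RegAt (i q) u) (h : UnitAt q (rs i u)) : UnitAt (i q) u := by
  obtain ⟨U, hq, hη, g, rfl⟩ := hu
  rw [rs_ff' i U (mem_of_mem i hq) hη (mem_of_mem i hq) g, unitAt_iff (U := i ⁻¹ᵁ U) hq] at h
  rw [unitAt_iff hq]
  rw [← Scheme.preimage_basicOpen] at h
  exact h

end restr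

variable {X : Scheme.{u}} [IsIntegral X]

/-- A rational function regular on the non-vanishing locus of a section becomes regular after multiplication with a
power of the section. -/
theorem exists_ext [CompactSpace X] {L : X.Modules} {c : X → X.functionField} (hc : HasCoc L c) {s : X.functionField}
    (hs0 : s ≠ 0) (hs : ∀ z, RegAt z (s / c z)) {u : X.functionField} (hu : ∀ z, UnitAt z (s / c z) → RegAt z u) :
    ∃ m : ℕ, ∀ z, RegAt z ((s / c z) ^ m * u) := by
  classical
  obtain ⟨E⟩ := nonempty_dat hc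
  have key : ∀ y : X, ∃ (V : X.Opens) (N : ℕ), y ∈ V ∧ ∀ m, N ≤ m → ∀ z ∈ V,
      RegAt z ((s / c z) ^ m * u) := by
    intro y
    obtain ⟨V, hyV, hV⟩ := exists_affine_mem_le (E.U y) y (E.hU y)
    obtain ⟨t, ht⟩ := exists_of_regAt (V := V.1) (gen_mem hyV) (u := s / c y) (fun z hz => by
      have h1 := E.unitAt_of_mem (hV hz)
      have h2 : s / c y = s / c z * (c z / c y) := by
        rw [div_mul_div_cancel₀ (E.h0 z)]
      rw [h2]
      exact regAt_mul (hs z) (unitAt_regAt h1))
    have ht0 : t ≠ 0 := by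
      rintro rfl
      rw [map_zero] at ht
      exact div_ne_zero hs0 (E.h0 y) ht.symm
    have hz' : ∀ z ∈ X.basicOpen t, RegAt z u := by
      intro z hz
      have hzV : z ∈ V.1 := X.basicOpen_le t hz
      have h1 : UnitAt z (s / c y) := by
        rw [← ht]
        exact (unitAt_iff hzV t).2 hz
      have h2 := unitAt_div h1 (E.unitAt_of_mem (hV hzV))
      rw [div_div_div_cancel_right₀ (E.h0 y)] at h2
      exact hu z h2
    obtain ⟨N, hN⟩ := K405.AmpFrac.exists_pow V.2 (gen_mem hyV) t ht0 hz'
    refine ⟨V.1, N, hyV, fun m hm z hz => ?_⟩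
    have h1 := hN m hm z hz
    rw [ht] at h1
    have h2 := unitAt_regAt (K405.AmpFrac.unitAt_pow (unitAt_inv (E.unitAt_of_mem (hV hz))) m)
    have h3 := regAt_mul h2 h1
    rw [inv_div, ← mul_assoc, ← mul_pow, mul_comm (c y / c z), div_mul_div_cancel₀ (E.h0 y)] at h3
    exact h3
  choose V N hyV hN using key
  obtain ⟨T, hT⟩ := isCompact_univ.elim_finite_subcover (fun y => (V y : Set X)) (fun y => (V y).2)
    (fun y _ => Set.mem_iUnion.2 ⟨y, hyV y⟩)
  refine ⟨T.sup N, fun z => ?_⟩
  obtain ⟨y, hy, hz⟩ := Set.mem_iUnion₂.1 (hT (Set.mem_univ z))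
  exact hN y _ (Finset.le_sup hy) z hz

/-- Units at the point of a prime have valuation one. -/
theorem exists_point {U : X.Opens} (hU : IsAffineOpen U) [Nonempty U] [IsDedekindDomain Γ(X, U)]
    [IsFractionRing Γ(X, U) X.functionField] (P : IsDedekindDomain.HeightOneSpectrum Γ(X, U)) :
    ∃ q ∈ U, ∀ u, UnitAt q u → P.valuation X.functionField u = 1 := by
  obtain ⟨q, hq⟩ := CurvesB.SmoothCurveFacts.exists_point hU P.asIdeal P.isPrime
  refine ⟨q.1, q.2, ?_⟩
  have := hU.isLocalization_stalk q
  have key : ∀ u, RegAt q.1 u → P.valuation X.functionField u ≤ 1 := by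
    intro u hu
    obtain ⟨a, rfl⟩ := exists_stalk hu
    obtain ⟨⟨b, s⟩, hbs⟩ := IsLocalization.surj (hU.primeIdealOf q).asIdeal.primeCompl a
    have h1 := congrArg (algebraMap _ X.functionField) hbs
    simp only [map_mul] at h1
    rw [← IsScalarTower.algebraMap_apply, ← IsScalarTower.algebraMap_apply] at h1
    have h2 := congrArg (P.valuation X.functionField) h1
    rw [map_mul] at h2
    have hs : P.valuation X.functionField (algebraMap Γ(X, U) X.functionField s.1) = 1 := by
      rw [P.valuation_eq_one_iff_notMem, ← hq]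
      exact s.2
    rw [hs, mul_one] at h2
    rw [h2]
    exact P.valuation_le_one b
  intro u hu
  refine le_antisymm (key u (unitAt_regAt hu)) ?_
  have h3 := key _ (unitAt_regAt (unitAt_inv hu))
  rw [map_inv₀] at h3
  have h4 : P.valuation X.functionField u ≠ 0 := (Valuation.ne_zero_iff _).2 (unitAt_ne_zero hu)
  exact (inv_le_one₀ (zero_lt_iff.2 h4)).1 h3

end Groth.Agent.Surf.K463.ZDedA
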