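import Groth.Agent.Surf.K463.ZWei

/-!
# The Weierstrass equation of a del Pezzo surface of degree one
-/

set_option autoImplicit false
universe u
open CategoryTheory CategoryTheory.Limits AlgebraicGeometry TopologicalSpace Opposite IsLocalRing

namespace Groth.Agent.Surf.K463.ZEq

open Groth.Agent Groth.Agent.Fdesc.LocGen Groth.Agent.Lefpen.H725.CocDef Groth.Agent.Lefpen.H521.CartierCoc
open K801.Cousin K801.CousinH1 K801.LEq Groth.Agent.Grpsch.PicGrp K464.Curves K464.Base Groth.Agent.Divis.CartierBasic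
open K460.SurfKit K460.DelPezzo K460.ZSec K460.ZCurve K460.PicZ K460.PicZ.Gr K460.ZGeo ZRes ZSeq ZPt ZWei ZRep

attribute [local instance] algK

variable {k : Type u} [Field k] [IsAlgClosed k] {X : Scheme.{u}} [X.Over (Spec (CommRingCat.of k))]
  [IsIntegral X] [IsProper (X ↘ Spec (CommRingCat.of k))] [Smooth (X ↘ Spec (CommRingCat.of k))]
  {W D : X.Modules} {P : DP k X W D} {hpic : ∀ c : Pic X, ∃ n : ℤ, c = mk W P.hWi ^ n}
  {δ : X → X.functionField} {hδ : HasCoc D δ}
  {x y z w : X.functionField} {p : X} (g : Gen P hpic hδ x y z w p)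

include g

theorem split {n : ℤ} {s τ : X.functionField} (hs : s ∈ (gr P hpic hδ).V n) (hτ : τ ∈ (gr P hpic hδ).V n)
    (hu : UnitAt p (τ / δ p ^ n)) : ∃ (c : k), ∃ a ∈ (gr P hpic hδ).V (n - 1), ∃ b ∈ (gr P hpic hδ).V (n - 1),
      s = c • τ + (x * a + y * b) := by
  have hδp := zpow_ne_zero n (hδ.1 p)
  have hτ0 : τ ≠ 0 := by
    rintro rfl
    exact unitAt_ne_zero hu (zero_div _)
  have h1 : RegAt p (s / τ) := by
    have h2 := regAt_mul (hs p) (unitAt_regAt (unitAt_inv hu))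
    rwa [show s / δ p ^ n * (τ / δ p ^ n)⁻¹ = s / τ by field_simp] at h2
  obtain ⟨c, hc⟩ := exists_val k g.hp h1
  have h2 : s - c • τ ∈ (gr P hpic hδ).V n := Submodule.sub_mem _ hs (Submodule.smul_mem _ _ hτ)
  obtain ⟨a, ha, b, hb, h3⟩ := g.hker n _ h2 (by
    intro h4
    apply hc
    have h5 := unitAt_mul h4 (unitAt_inv hu)
    rwa [show (s - c • τ) / δ p ^ n * (τ / δ p ^ n)⁻¹ = s / τ - algebraMap k X.functionField c by
      rw [Algebra.smul_def]
      field_simp] at h5)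
  exact ⟨c, a, ha, b, hb, by rw [← h3]; ring⟩

theorem hev (m : ℕ) : ∀ f ∈ (gr P hpic hδ).V (2 * m + 2), ∃ (c : k), ∃ a ∈ (gr P hpic hδ).V (2 * m + 1),
    ∃ b ∈ (gr P hpic hδ).V (2 * m + 1), f = c • z ^ (m + 1) + (x * a + y * b) := by
  intro f hf
  have h1 : z ^ (m + 1) ∈ (gr P hpic hδ).V (2 * m + 2) := by
    have := pow_mem g.hz (m + 1)
    convert this using 2
    push_cast
    ring
  obtain ⟨c, a, ha, b, hb, h⟩ := split g hf h1 (by
    have h2 := unitAt_zpow g.hzp ((m : ℤ) + 1)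
    convert h2 using 1
    rw [div_zpow, ← zpow_mul, show (2 : ℤ) * ((m : ℤ) + 1) = 2 * m + 2 by ring]
    congr 1
    rw [← zpow_natCast]
    push_cast
    rfl)
  refine ⟨c, a, ?_, b, ?_, h⟩
  · convert ha using 2; ring
  · convert hb using 2; ring

theorem hod (m : ℕ) : ∀ f ∈ (gr P hpic hδ).V (2 * m + 3), ∃ (c : k), ∃ a ∈ (gr P hpic hδ).V (2 * m + 2),
    ∃ b ∈ (gr P hpic hδ).V (2 * m + 2), f = c • (z ^ m * w) + (x * a + y * b) := by
  intro f hf
  have h1 : z ^ m * w ∈ (gr P hpic hδ).V (2 * m + 3) := by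
    exact mul_mem' (pow_mem g.hz m) g.hw (by ring)
  obtain ⟨c, a, ha, b, hb, h⟩ := split g hf h1 (by
    have h2 := unitAt_mul (unitAt_zpow g.hzp (m : ℤ)) g.hwp
    convert h2 using 1
    have := hδ.1 p
    rw [div_zpow, ← zpow_mul, show (2 : ℤ) * (m : ℤ) + 3 = 2 * m + 3 by ring, zpow_add₀ this, mul_div_mul_comm, zpow_natCast])
  refine ⟨c, a, ?_, b, ?_, h⟩
  · convert ha using 2; ring
  · convert hb using 2; ring

theorem rep (n : ℕ) : ∀ f ∈ (gr P hpic hδ).V n, ∃ p q : Polynomial (Polynomial k), Wt n p ∧ Wt (n - 3) q ∧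
    f = y ^ n * (ev k (z / y ^ 2) (x / y) p + w / y ^ 3 * ev k (z / y ^ 2) (x / y) q) :=
  ZRep.rep g.hy0 g.h1 (hev g) (hod g) n

theorem inj (p q : Polynomial (Polynomial k))
    (h : ev k (z / y ^ 2) (x / y) p + w / y ^ 3 * ev k (z / y ^ 2) (x / y) q = 0) : p = 0 ∧ q = 0 :=
  ZRep.inj g.hy0 g.h1 (hev g) (hod g) g.hdim p q h

theorem inj' (p q p' q' : Polynomial (Polynomial k))
    (h : ev k (z / y ^ 2) (x / y) p + w / y ^ 3 * ev k (z / y ^ 2) (x / y) q =
      ev k (z / y ^ 2) (x / y) p' + w / y ^ 3 * ev k (z / y ^ 2) (x / y) q') : p = p' ∧ q = q' := by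
  obtain ⟨h1, h2⟩ := inj g (p - p') (q - q') (by rw [map_sub, map_sub, mul_sub]; linear_combination h)
  exact ⟨sub_eq_zero.1 h1, sub_eq_zero.1 h2⟩

theorem mem_of_wt {n : ℕ} {p : Polynomial (Polynomial k)} (h : Wt n p) :
    y ^ n * ev k (z / y ^ 2) (x / y) p ∈ (gr P hpic hδ).V n := by
  have hy0 := g.hy0
  obtain ⟨B, hB⟩ := exists_bound p
  rw [ev_eq_sum p (m := B) (n := fun _ => B) hB, Finset.mul_sum]
  refine Submodule.sum_mem _ fun c _ => ?_
  rw [Finset.mul_sum]
  refine Submodule.sum_mem _ fun a _ => ?_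
  rw [mul_smul_comm]
  by_cases h0 : (p.coeff c).coeff a = 0
  · rw [h0, zero_smul]
    exact Submodule.zero_mem _
  · have h1 := h c a h0
    obtain ⟨b, hb⟩ : ∃ b : ℕ, n = a + 2 * c + b := ⟨n - (a + 2 * c), by omega⟩
    refine Submodule.smul_mem _ _ ?_
    have h2 : y ^ n * ((x / y) ^ a * (z / y ^ 2) ^ c) = x ^ a * z ^ c * y ^ b := by
      rw [hb, pow_add, pow_add, div_pow, div_pow, ← pow_mul]
      field_simp
    rw [h2]
    refine mul_mem' (mul_mem' (pow_mem g.hx a) (pow_mem g.hz c) rfl) (pow_mem g.hy b) ?_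
    rw [hb]
    push_cast
    ring

omit g in
/-- Generators with a Weierstrass equation. -/
theorem exists_wei [CharZero k] (hK : Kod k X) (hd1 : dot k X (mk W P.hWi) (mk W P.hWi) = 1) :
    ∃ x y z w p, Gen P hpic hδ x y z w p ∧ ∃ b₂ b₄ b₆ : Polynomial k, b₂.natDegree ≤ 2 ∧ b₄.natDegree ≤ 4 ∧
      b₆.natDegree ≤ 6 ∧ (w / y ^ 3) ^ 2 = (z / y ^ 2) ^ 3 + Polynomial.aeval (x / y) b₂ * (z / y ^ 2) ^ 2 +
        Polynomial.aeval (x / y) b₄ * (z / y ^ 2) + Polynomial.aeval (x / y) b₆ := by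
  obtain ⟨x, y, z, w, p, g⟩ := exists_gen P hpic hδ hK hd1
  have hy0 := g.hy0
  obtain ⟨c, a, ha, b, hb, hw2⟩ := hev g 2 (w ^ 2) (by
    have := pow_mem g.hw 2
    convert this using 2; norm_num)
  obtain ⟨pa, qa, hpa, hqa, ea⟩ := rep g 5 a (by convert ha using 2; norm_num)
  obtain ⟨pb, qb, hpb, hqb, eb⟩ := rep g 5 b (by convert hb using 2; norm_num)
  have hc : c ≠ 0 := by
    rintro rfl
    rw [zero_smul, zero_add] at hw2
    have h1 : UnitAt p (w ^ 2 / δ p ^ (6 : ℤ)) := by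
      have h2 := unitAt_zpow g.hwp 2
      convert h2 using 1
      rw [div_zpow, ← zpow_mul]
      norm_num
    rw [hw2, add_div] at h1
    have ha' := ha p
    have hb' := hb p
    have hx' := g.hx p
    have hy' := g.hy p
    have hδp := hδ.1 p
    have e1 : x * a / δ p ^ (6 : ℤ) = x / δ p ^ (1 : ℤ) * (a / δ p ^ (2 * ((2 : ℕ) : ℤ) + 1)) := by
      rw [div_mul_div_comm, ← zpow_add₀ hδp]
      norm_num
    have e2 : y * b / δ p ^ (6 : ℤ) = y / δ p ^ (1 : ℤ) * (b / δ p ^ (2 * ((2 : ℕ) : ℤ) + 1)) := by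
      rw [div_mul_div_comm, ← zpow_add₀ hδp]
      norm_num
    rw [e1, e2] at h1
    exact not_unitAt_add (regAt_mul hx' ha') (regAt_mul hy' hb') (not_unitAt_mul hx' ha' g.hxp)
      (not_unitAt_mul hy' hb' g.hyp) h1
  set Q : Polynomial (Polynomial k) := Polynomial.C Polynomial.X * qa + qb with hQ
  set R : Polynomial (Polynomial k) := Polynomial.C Polynomial.X * pa + pb with hR
  have hQw : Wt 3 Q := ((Wt.CX_mul hqa).mono (by norm_num)).add (hqb.mono (by norm_num))
  have hRw : Wt 6 R := ((Wt.CX_mul hpa).mono (by norm_num)).add (hpb.mono (by norm_num))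
  have hR3 : ∀ i, 3 ≤ i → R.coeff i = 0 := by
    intro i hi
    rw [hR, Polynomial.coeff_add, Polynomial.coeff_C_mul]
    have h1 : pa.coeff i = 0 := by
      ext j
      by_contra hne
      have := hpa i j hne
      omega
    have h2 : pb.coeff i = 0 := by
      ext j
      by_contra hne
      have := hpb i j hne
      omega
    rw [h1, h2, mul_zero, zero_add]
  have hQ2 : ∀ i, 2 ≤ i → Q.coeff i = 0 := by
    intro i hi
    ext j
    by_contra hne
    have := hQw i j hne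
    omega
  have hdegR : ∀ i, ((R.coeff i).natDegree : ℤ) + 2 * i ≤ 6 ∨ R.coeff i = 0 := by
    intro i
    by_cases h0 : R.coeff i = 0
    · exact Or.inr h0
    · exact Or.inl (hRw i _ (by rwa [Polynomial.coeff_natDegree, Ne, Polynomial.leadingCoeff_eq_zero]))
  have hdegQ : ∀ i, ((Q.coeff i).natDegree : ℤ) + 2 * i ≤ 3 ∨ Q.coeff i = 0 := by
    intro i
    by_cases h0 : Q.coeff i = 0
    · exact Or.inr h0
    · exact Or.inl (hQw i _ (by rwa [Polynomial.coeff_natDegree, Ne, Polynomial.leadingCoeff_eq_zero]))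
  have evR : ev k (z / y ^ 2) (x / y) R = Polynomial.aeval (x / y) (R.coeff 0) +
      Polynomial.aeval (x / y) (R.coeff 1) * (z / y ^ 2) + Polynomial.aeval (x / y) (R.coeff 2) * (z / y ^ 2) ^ 2 := by
    have h1 : R = Polynomial.C (R.coeff 0) + Polynomial.C (R.coeff 1) * Polynomial.X +
        Polynomial.C (R.coeff 2) * Polynomial.X ^ 2 := by
      ext1 i
      rcases i with _ | _ | _ | i
      · simp
      · simp
      · simp [Polynomial.coeff_X, Polynomial.coeff_C]
      · rw [hR3 _ (by omega)]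
        simp [Polynomial.coeff_X, Polynomial.coeff_C, Polynomial.coeff_X_pow]
    conv_lhs => rw [h1]
    simp only [map_add, map_mul, ev_C, ev_X, map_pow]
  have evQ : ev k (z / y ^ 2) (x / y) Q = Polynomial.aeval (x / y) (Q.coeff 0) +
      Polynomial.aeval (x / y) (Q.coeff 1) * (z / y ^ 2) := by
    have h1 : Q = Polynomial.C (Q.coeff 0) + Polynomial.C (Q.coeff 1) * Polynomial.X := by
      ext1 i
      rcases i with _ | _ | i
      · simp
      · simp
      · rw [hQ2 _ (by omega)]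
        simp [Polynomial.coeff_X, Polynomial.coeff_C]
    conv_lhs => rw [h1]
    simp only [map_add, map_mul, ev_C, ev_X]
  have hω : (w / y ^ 3) ^ 2 = algebraMap k X.functionField c * (z / y ^ 2) ^ 3 + ev k (z / y ^ 2) (x / y) R +
      w / y ^ 3 * ev k (z / y ^ 2) (x / y) Q := by
    have h1 : (w / y ^ 3) ^ 2 = w ^ 2 / y ^ 6 := by rw [div_pow]; ring
    rw [h1, hw2, ea, eb, hQ, hR, Algebra.smul_def]
    simp only [map_add, map_mul, ev_C, Polynomial.aeval_X]
    field_simp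
    ring
  have r0 : (R.coeff 0).natDegree ≤ 6 := by
    rcases hdegR 0 with h | h
    · push_cast at h; omega
    · rw [h]; simp
  have r1 : (R.coeff 1).natDegree ≤ 4 := by
    rcases hdegR 1 with h | h
    · push_cast at h; omega
    · rw [h]; simp
  have r2 : (R.coeff 2).natDegree ≤ 2 := by
    rcases hdegR 2 with h | h
    · push_cast at h; omega
    · rw [h]; simp
  have q0 : (Q.coeff 0).natDegree ≤ 3 := by
    rcases hdegQ 0 with h | h
    · push_cast at h; omega
    · rw [h]; simp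
  have q1 : (Q.coeff 1).natDegree ≤ 1 := by
    rcases hdegQ 1 with h | h
    · push_cast at h; omega
    · rw [h]; simp
  obtain ⟨κ, hκ⟩ := IsAlgClosed.exists_pow_nat_eq c (n := 3) (by norm_num)
  have hκ0 : κ ≠ 0 := by
    rintro rfl
    rw [zero_pow (by norm_num)] at hκ
    exact hc hκ.symm
  have h20 : (2 : X.functionField) ≠ 0 := by
    have : CharZero X.functionField := charZero_of_injective_algebraMap (algebraMap k X.functionField).injective
    norm_num
  set w' : X.functionField := w - (2⁻¹ : k) • (y ^ 3 * ev k (z / y ^ 2) (x / y) Q) with hw'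
  have hyQ : y ^ 3 * ev k (z / y ^ 2) (x / y) Q ∈ (gr P hpic hδ).V 3 := mem_of_wt g hQw
  have hw'm : w' ∈ (gr P hpic hδ).V 3 := Submodule.sub_mem _ g.hw (Submodule.smul_mem _ _ hyQ)
  have hω' : w' / y ^ 3 = w / y ^ 3 - ev k (z / y ^ 2) (x / y) Q / 2 := by
    rw [hw', Algebra.smul_def, map_inv₀, map_ofNat]
    field_simp
  have hw'p : UnitAt p (w' / δ p ^ (3 : ℤ)) := by
    by_contra hcon
    obtain ⟨α, hα, β, hβ, h1⟩ := g.hker 3 _ hw'm hcon
    obtain ⟨pα, qα, -, hqα, eα⟩ := rep g 2 α (by convert hα using 2; norm_num)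
    obtain ⟨pβ, qβ, -, hqβ, eβ⟩ := rep g 2 β (by convert hβ using 2; norm_num)
    have hq0 : ∀ q : Polynomial (Polynomial k), Wt (((2 : ℕ) : ℤ) - 3) q → q = 0 := by
      intro q hq
      ext i j
      by_contra hne
      have := hq i j hne
      push_cast at this
      omega
    rw [hq0 _ hqα, map_zero, mul_zero, add_zero] at eα
    rw [hq0 _ hqβ, map_zero, mul_zero, add_zero] at eβ
    have h2 : ev k (z / y ^ 2) (x / y) 0 + w / y ^ 3 * ev k (z / y ^ 2) (x / y) 1 =
        ev k (z / y ^ 2) (x / y) (Polynomial.C Polynomial.X * pα + pβ + Polynomial.C (Polynomial.C 2⁻¹) * Q) +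
          w / y ^ 3 * ev k (z / y ^ 2) (x / y) 0 := by
      have h3 : w' / y ^ 3 = x / y * ev k (z / y ^ 2) (x / y) pα + ev k (z / y ^ 2) (x / y) pβ := by
        rw [h1, eα, eβ]
        field_simp
      rw [hω'] at h3
      simp only [map_add, map_mul, map_zero, map_one, ev_C, Polynomial.aeval_X, Polynomial.aeval_C, map_inv₀, map_ofNat]
      rw [← h3]
      ring
    exact one_ne_zero (inj' g _ _ _ _ h2).2
  have hκu : UnitAt p (algebraMap k X.functionField κ) := unitAt_of_regAt (regAt_algebraMap k p κ)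
    (regAt_algebraMap k p κ⁻¹) (by rw [← map_mul, mul_inv_cancel₀ hκ0, map_one])
  refine ⟨x, y, κ • z, w', p, ⟨g.hx, g.hy, Submodule.smul_mem _ _ g.hz, hw'm, g.hx0, g.hy0, g.h1, g.hp, g.hxp, g.hyp,
    g.huniq, ?_, hw'p, g.hker, g.hdim⟩, Polynomial.C (κ⁻¹ ^ 2) * (R.coeff 2 + Polynomial.C 4⁻¹ * Q.coeff 1 ^ 2),
    Polynomial.C κ⁻¹ * (R.coeff 1 + Polynomial.C 2⁻¹ * (Q.coeff 0 * Q.coeff 1)),
    R.coeff 0 + Polynomial.C 4⁻¹ * Q.coeff 0 ^ 2, ?_, ?_, ?_, ?_⟩
  · rw [Algebra.smul_def, mul_div_assoc]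
    exact unitAt_mul hκu g.hzp
  · refine (Polynomial.natDegree_C_mul_le _ _).trans (Polynomial.natDegree_add_le_of_degree_le r2 ?_)
    refine (Polynomial.natDegree_C_mul_le _ _).trans (Polynomial.natDegree_pow_le.trans ?_)
    omega
  · refine (Polynomial.natDegree_C_mul_le _ _).trans (Polynomial.natDegree_add_le_of_degree_le r1 ?_)
    refine (Polynomial.natDegree_C_mul_le _ _).trans (Polynomial.natDegree_mul_le.trans ?_)
    omega
  · refine Polynomial.natDegree_add_le_of_degree_le r0 ?_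
    refine (Polynomial.natDegree_C_mul_le _ _).trans (Polynomial.natDegree_pow_le.trans ?_)
    omega
  · have hκ' : algebraMap k X.functionField κ ≠ 0 := (map_ne_zero _).2 hκ0
    rw [hω', sub_sq, hω, ← hκ]
    rw [evR, evQ]
    simp only [map_mul, map_add, map_pow, Polynomial.aeval_C, map_inv₀, map_ofNat, Algebra.smul_def]
    have h40 : (4 : X.functionField) = 2 * 2 := by norm_num
    rw [h40]
    field_simp
    ring

end Groth.Agent.Surf.K463.ZEq
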