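import Groth.Agent.Surf.K463.ZSeq
import Groth.Agent.Surf.K463.Transv

/-!
# The base point of the anticanonical pencil of a del Pezzo surface of degree one

* `exists_base`: the unique common zero `p` of `V 1 = ⟨x, y⟩`; every section vanishing at `p` is `x a + y b`.
-/

set_option autoImplicit false
universe u
open CategoryTheory CategoryTheory.Limits AlgebraicGeometry TopologicalSpace Opposite IsLocalRing

namespace Groth.Agent.Surf.K463.ZPt

open Groth.Agent Groth.Agent.Fdesc.LocGen Groth.Agent.Lefpen.H725.CocDef Groth.Agent.Lefpen.H521.CartierCoc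
open K801.Cousin K801.CousinH1 K801.LEq Groth.Agent.Grpsch.PicGrp K464.Curves K464.Base Groth.Agent.Divis.CartierBasic
open K460.SurfKit K460.DelPezzo K460.ZSec K460.ZCurve K460.PicZ K460.ZGeo ZRes ZSeq

attribute [local instance] algK

section leq

variable {X : Scheme.{u}} [IsIntegral X] {C : X.IdealSheafData} {d : X → X.functionField} (hd : IsLEq C d)

include hd

/-- The local equation generates the stalk of the ideal. -/
theorem stalk_leq (x : X) : ∃ r : X.presheaf.stalk x, stalkIdeal C x = Ideal.span {r} ∧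
    algebraMap _ X.functionField r = d x := by
  obtain ⟨U, a, hx, ha, hda⟩ := hd x
  refine ⟨X.presheaf.germ U.1 x hx a, ?_, ?_⟩
  · rw [stalkIdeal_eq C U hx, (ha U le_rfl).2, Ideal.map_span, Set.image_singleton]
    congr 2
    exact TopCat.Presheaf.germ_res_apply X.presheaf (homOfLE (le_rfl : U.1 ≤ U.1)) x hx a
  · rw [algebraMap_germ hx (gen_mem hx), hda]

theorem mem_support_iff (x : X) : x ∈ C.support ↔ ¬ UnitAt x (d x) := by
  obtain ⟨U, a, hx, ha, hda⟩ := hd x
  rw [Scheme.IdealSheafData.mem_support_iff_of_mem hx, Scheme.mem_zeroLocus_iff, hda, unitAt_iff hx]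
  have h1 : C.ideal U = Ideal.span {a} := by
    rw [(ha U le_rfl).2]
    congr 2
    exact ConcreteCategory.congr_hom (X.presheaf.map_id (op U.1)) a
  rw [h1]
  constructor
  · intro h
    exact h a (Ideal.mem_span_singleton_self a)
  · intro h f hf hxf
    obtain ⟨g, rfl⟩ := Ideal.mem_span_singleton'.1 hf
    rw [Scheme.basicOpen_mul] at hxf
    exact h hxf.2

end leq

variable {k : Type u} [Field k] [IsAlgClosed k] {X : Scheme.{u}} [X.Over (Spec (CommRingCat.of k))]
  [IsIntegral X] [IsProper (X ↘ Spec (CommRingCat.of k))] [Smooth (X ↘ Spec (CommRingCat.of k))]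
  {W D : X.Modules} (P : DP k X W D) (hpic : ∀ c : Pic X, ∃ n : ℤ, c = mk W P.hWi ^ n)
  {δ : X → X.functionField} (hδ : HasCoc D δ)

theorem support_iff {C : X.IdealSheafData} {d : X → X.functionField} (hd : IsLEq C d) {m : ℤ} {e : X.functionField}
    (he : ∀ x, UnitAt x (e / δ x ^ m / d x)) (x : X) : x ∈ C.support ↔ ¬ UnitAt x (e / δ x ^ m) := by
  rw [mem_support_iff hd]
  have h1 := he x
  have h2 := hd.ne_zero x
  refine not_congr ⟨fun h => ?_, fun h => ?_⟩
  · have := unitAt_mul h1 h
    rwa [div_mul_cancel₀ _ h2] at this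
  · have := unitAt_mul (unitAt_inv h1) h
    rwa [inv_div, div_mul_cancel₀] at this
    exact unitAt_ne_zero h

include P hpic in
theorem irr_one {y : X.functionField} : ∀ (i j : ℤ) (a b : X.functionField), 0 < i → 0 < j →
      i + j = 1 → a ∈ (gr P hpic hδ).V i → b ∈ (gr P hpic hδ).V j → y ≠ a * b := by
  intro i j a b hi hj hij
  omega

include hpic hδ in
/-- The base point. -/
theorem exists_base (hK : Kod k X) (hd1 : dot k X (mk W P.hWi) (mk W P.hWi) = 1) {x y : X.functionField}
    (hx : x ∈ secs k (fun x => δ x ^ (1 : ℤ))) (hy : y ∈ secs k (fun x => δ x ^ (1 : ℤ)))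
    (hli : LinearIndependent k ![x, y]) :
    ∃ p : X, IsClosed ({p} : Set X) ∧ ¬ UnitAt p (x / δ p ^ (1 : ℤ)) ∧ ¬ UnitAt p (y / δ p ^ (1 : ℤ)) ∧
      (∀ q : X, ¬ UnitAt q (x / δ q ^ (1 : ℤ)) → ¬ UnitAt q (y / δ q ^ (1 : ℤ)) → q = p) ∧
      ∀ (n : ℤ), ∀ s ∈ secs k (fun x => δ x ^ n), ¬ UnitAt p (s / δ p ^ n) →
        ∃ a ∈ secs k (fun x => δ x ^ (n - 1)), ∃ b ∈ secs k (fun x => δ x ^ (n - 1)), s = x * a + y * b := by
  have hx0 : x ≠ 0 := hli.ne_zero 0
  have hy0 : y ≠ 0 := hli.ne_zero 1
  obtain ⟨C, hC, dC, hdC, heC⟩ := exists_curve_eq P hpic hδ one_pos hy hy0 (irr_one P hpic hδ)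
  obtain ⟨C', hC', dC', hdC', heC'⟩ := exists_curve_eq P hpic hδ one_pos hx hx0 (irr_one P hpic hδ)
  have hCe := isEff_of_smooth k P.hdim hC
  have hCe' := isEff_of_smooth k P.hdim hC'
  have hxξ : UnitAt (gp hC) (x / δ (gp hC) ^ (1 : ℤ)) := by
    by_contra hne
    have h1 := div_mem P hδ hC hdC heC hx hne
    rw [sub_self] at h1
    obtain ⟨c, hc⟩ := V_zero P hδ h1
    rw [Fintype.linearIndependent_iff] at hli
    have h2 := hli ![1, -c] (by
      rw [Fin.sum_univ_two]
      simp only [Matrix.cons_val_zero, Matrix.cons_val_one, one_smul, neg_smul]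
      rw [Algebra.smul_def, ← hc, div_mul_cancel₀ _ hy0, add_neg_cancel]) 0
    simp at h2
  have hyC := support_iff (δ := δ) hdC heC
  have hxC' := support_iff (δ := δ) hdC' heC'
  have hgp : gp hC ∉ C'.support := fun h => (hxC' _).1 h hxξ
  have hdeg : degOn k X C (ic C' hCe') = -1 := by
    rw [degOn_eq_neg_dot k X hCe, ic_eq P hδ hdC heC hCe, ic_eq P hδ hdC' heC' hCe', zpow_neg, zpow_one,
      dot_inv_inv k X P.hdim.le, P.mk_D, dot_inv_inv k X P.hdim.le, hd1]
  obtain ⟨huniq, hmax⟩ := K463.Transv.transversal k hC hCe' hgp hdeg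
  obtain ⟨p, hpC, hpC'⟩ : ∃ p : X, p ∈ C.support ∧ p ∈ C'.support := by
    by_contra hne
    push Not at hne
    have h1 := degOn_ic_eq_zero k hC hCe' (Set.disjoint_left.2 fun q hq hq' => hne q hq hq')
    rw [hdeg] at h1
    norm_num at h1
  have hpcl : IsClosed ({p} : Set X) := by
    have := hC.integral
    letI := overC k X C
    have := isProper_sub k X C
    have hN : IsNoetherian C.subscheme := CurvesB.CurveRR.isNoetherian_of_proper k C.subscheme
    have hd : topologicalKrullDim C.subscheme = 1 := (dim_sub X C).trans hC.dim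
    have hpC2 : p ∈ (C.support : Set X) := hpC
    rw [← C.range_subschemeι] at hpC2
    obtain ⟨b, rfl⟩ := hpC2
    have h1 : b ≠ genericPoint C.subscheme := by
      rintro rfl
      exact hgp hpC'
    have h2 := S0227.isClosed_of_ne C.subscheme hd b h1
    have h3 := C.subschemeι.isClosedEmbedding.isClosedMap _ h2
    rwa [Set.image_singleton] at h3
  refine ⟨p, hpcl, (hxC' p).1 hpC', (hyC p).1 hpC, fun q hq hq' => ?_, fun n s hs hsp => ?_⟩
  · exact huniq q p ((hyC q).2 hq') ((hxC' q).2 hq) hpC hpC'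
  have := hC.integral
  letI := overC k X C
  have hδ0 := hδ.1
  simp only [zpow_one] at hxξ
  have hyξ : ¬ UnitAt (gp hC) (y / δ (gp hC)) := by
    have := (hyC (gp hC)).1 (gp_mem hC)
    rwa [zpow_one] at this
  have hyx : RegAt (gp hC) (y / x) := by
    have h1 := hy (gp hC)
    simp only [zpow_one] at h1
    have h2 := regAt_mul h1 (unitAt_regAt (unitAt_inv hxξ))
    rwa [show y / δ (gp hC) * (x / δ (gp hC))⁻¹ = y / x by
      have := hδ0 (gp hC)
      field_simp] at h2
  have hyx0 : rs C.subschemeι (y / x) = 0 := by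
    rw [rs_eq_zero_iff hyx]
    intro h
    apply hyξ
    have h2 := unitAt_mul h hxξ
    rwa [show y / x * (x / δ (gp hC)) = y / δ (gp hC) by
      have := hδ0 (gp hC)
      field_simp] at h2
  have hv : rs C.subschemeι (s / x ^ n) ∈
      secs k (fun b : C.subscheme => rs C.subschemeι (δ (C.subschemeι b) ^ (n - 1) / x ^ (n - 1))) := by
    intro b
    change RegAt b (rs C.subschemeι (s / x ^ n) / rs C.subschemeι (δ (C.subschemeι b) ^ (n - 1) / x ^ (n - 1)))
    have h2 : UnitAt (C.subschemeι (genericPoint C.subscheme)) (δ (C.subschemeι b) ^ (n - 1) / x ^ (n - 1)) := by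
      rw [← div_zpow]
      exact unitAt_zpow (unit_div hδ hC hxξ b) _
    rw [← rs_div (regAt_sec hδ hC hxξ hs) h2]
    have h3 : s / x ^ n / (δ (C.subschemeι b) ^ (n - 1) / x ^ (n - 1)) =
        s / δ (C.subschemeι b) ^ n * (δ (C.subschemeι b) / x) := by
      have := hδ0 (C.subschemeι b)
      have e1 := zpow_ne_zero n this
      have e2 := zpow_ne_zero n hx0
      rw [zpow_sub_one₀ this, zpow_sub_one₀ hx0]
      field_simp
    rw [h3]
    by_cases hu : UnitAt (C.subschemeι b) (x / δ (C.subschemeι b))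
    · have h4 := unitAt_inv hu
      rw [inv_div] at h4
      exact regAt_rs (regAt_mul (hs _) (unitAt_regAt h4))
    · have hbC : C.subschemeι b ∈ C.support := by
        have : C.subschemeι b ∈ (C.support : Set X) := by
          rw [← C.range_subschemeι]
          exact ⟨b, rfl⟩
        exact this
      have hbC' : C.subschemeι b ∈ C'.support := (hxC' _).2 (by rwa [zpow_one])
      have hbp : C.subschemeι b = p := huniq _ _ hbC hbC' hpC hpC'
      rw [hbp]
      obtain ⟨r, hr, hrd⟩ := stalk_leq hdC p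
      obtain ⟨r', hr', hrd'⟩ := stalk_leq hdC' p
      obtain ⟨σ, hσ⟩ := exists_stalk (hs p)
      have h5 : σ ∈ maximalIdeal (X.presheaf.stalk p) := by
        rw [mem_maximalIdeal, mem_nonunits_iff]
        intro hσu
        apply hsp
        have := K484.CocPull.unitAt_algebraMap hσu.unit
        rw [IsUnit.unit_spec, hσ] at this
        exact this
      have h6 := hmax p hpC hpC' h5
      rw [hr, hr', ← Ideal.span_insert, Ideal.mem_span_pair] at h6
      obtain ⟨α, β, h7⟩ := h6
      have h8 := congrArg (algebraMap _ X.functionField) h7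
      rw [map_add, map_mul, map_mul, hrd, hrd', hσ] at h8
      have h9 := heC p
      have h10 := heC' p
      rw [zpow_one] at h9 h10
      have hdp := hdC.ne_zero p
      have hdp' := hdC'.ne_zero p
      have hδp := hδ0 p
      have h11 : s / δ p ^ n * (δ p / x) =
          algebraMap _ X.functionField α * (y / δ p / dC p)⁻¹ * (y / x) +
            algebraMap _ X.functionField β * (x / δ p / dC' p)⁻¹ := by
        rw [← h8]
        field_simp
      have hα : RegAt p (algebraMap _ X.functionField α * (y / δ p / dC p)⁻¹) :=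
        regAt_mul ((regAt_iff _ _).2 ⟨α, rfl⟩) (unitAt_regAt (unitAt_inv h9))
      have hβ : RegAt p (algebraMap _ X.functionField β * (x / δ p / dC' p)⁻¹) :=
        regAt_mul ((regAt_iff _ _).2 ⟨β, rfl⟩) (unitAt_regAt (unitAt_inv h10))
      rw [h11]
      generalize algebraMap (X.presheaf.stalk p) X.functionField α * (y / δ p / dC p)⁻¹ = A at hα ⊢
      generalize algebraMap (X.presheaf.stalk p) X.functionField β * (x / δ p / dC' p)⁻¹ = B at hβ ⊢
      rw [← hbp] at hα hβ
      rw [rs_add (regAt_mul (regAt_gp _ hα) hyx) (regAt_gp _ hβ), rs_mul (regAt_gp _ hα) hyx, hyx0,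
        mul_zero, zero_add]
      exact regAt_rs hβ
  obtain ⟨a, ha, hav⟩ := surj P hδ hC hdC heC hCe hK (n - 1) hxξ _ hv
  have hxa : x * a ∈ secs k (fun x => δ x ^ n) := by
    have := (gr P hpic hδ).mul_mem hx ha
    rwa [show (1 : ℤ) + (n - 1) = n by ring] at this
  have hsa : s - x * a ∈ secs k (fun x => δ x ^ n) := Submodule.sub_mem _ hs hxa
  have h1 : rs C.subschemeι ((s - x * a) / x ^ n) = 0 := by
    rw [sub_div, rs_sub (regAt_sec hδ hC hxξ hs) (regAt_sec hδ hC hxξ hxa),
      show x * a / x ^ n = a / x ^ (n - 1) by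
        have := zpow_ne_zero n hx0
        rw [zpow_sub_one₀ hx0]
        field_simp, hav, sub_self]
  rw [rs_eq_zero_iff (regAt_sec hδ hC hxξ hsa)] at h1
  have h2 := div_mem P hδ hC hdC heC hsa (by
    intro h3
    apply h1
    have h4 := unitAt_mul h3 (unitAt_zpow hxξ (-n))
    rwa [show (s - x * a) / δ (gp hC) ^ n * (x / δ (gp hC)) ^ (-n) = (s - x * a) / x ^ n by
      have := zpow_ne_zero n (hδ0 (gp hC))
      have := zpow_ne_zero n hx0
      rw [div_zpow, zpow_neg, zpow_neg]
      field_simp] at h4)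
  exact ⟨a, ha, _, h2, by rw [mul_div_cancel₀ _ hy0]; ring⟩

end Groth.Agent.Surf.K463.ZPt
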