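import Groth.Agent.Surf.K460.ZProj

/-!
# Graded rings generated by elements of degrees 1, 1, 2, 3

* `rep`: normal form `y ^ n (p(t, ζ) + ω q(t, ζ))`, `t = x / y`, `ζ = z / y²`, `ω = w / y³`, of the elements of `V n`.
* `inj`: uniqueness, by counting dimensions.
-/

set_option autoImplicit false

namespace Groth.Agent.Surf.K463.ZRep

open Module Polynomial Groth.Agent.Surf.K460.PicZ Groth.Agent.Surf.K460.PicZ.Gr

variable {k L : Type*} [Field k] [Field L] [Algebra k L]

/-- Weights of polynomials: `X` (inner) has weight one, the outer variable weight two. -/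
def Wt (n : ℤ) (p : k[X][X]) : Prop := ∀ c a : ℕ, (p.coeff c).coeff a ≠ 0 → (a : ℤ) + 2 * c ≤ n

theorem Wt.zero (n : ℤ) : Wt n (0 : k[X][X]) := fun c a h => (h (by simp)).elim

theorem Wt.mono {n m : ℤ} {p : k[X][X]} (h : Wt n p) (hnm : n ≤ m) : Wt m p := fun c a h' => (h c a h').trans hnm

theorem Wt.add {n : ℤ} {p q : k[X][X]} (hp : Wt n p) (hq : Wt n q) : Wt n (p + q) := by
  intro c a h
  rw [coeff_add, coeff_add] at h
  by_cases h1 : (p.coeff c).coeff a = 0
  · rw [h1, zero_add] at h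
    exact hq c a h
  · exact hp c a h1

theorem Wt.CX_mul {n : ℤ} {p : k[X][X]} (hp : Wt n p) : Wt (n + 1) (C X * p) := by
  intro c a h
  rw [coeff_C_mul] at h
  cases a with
  | zero => rw [mul_coeff_zero, coeff_X_zero, zero_mul] at h; exact (h rfl).elim
  | succ a =>
    rw [coeff_X_mul] at h
    have := hp c a h
    push_cast
    omega

theorem Wt.const {n : ℤ} (c₀ : k) (m : ℕ) (h : 2 * (m : ℤ) ≤ n) : Wt n (C (C c₀) * X ^ m) := by
  intro c a ha
  rw [coeff_C_mul, coeff_X_pow] at ha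
  split_ifs at ha with hc
  · rw [mul_one, coeff_C] at ha
    split_ifs at ha with ha0
    · subst ha0 hc
      simpa using h
    · exact (ha rfl).elim
  · simp at ha

theorem ev_eq_sum {s t : L} (p : k[X][X]) {m : ℕ} {n : ℕ → ℕ} (hp : ∀ c a, (p.coeff c).coeff a ≠ 0 → c < m ∧ a < n c) :
    ev k s t p = ∑ c ∈ Finset.range m, ∑ a ∈ Finset.range (n c), (p.coeff c).coeff a • (t ^ a * s ^ c) := by
  have h1 : ev k s t p = ∑ c ∈ Finset.range m, aeval t (p.coeff c) * s ^ c := by
    rw [ev, coe_eval₂RingHom]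
    rw [eval₂_eq_sum, sum_def]
    refine Finset.sum_subset ?_ ?_
    · intro i hi
      rw [Polynomial.mem_support_iff] at hi
      rw [Finset.mem_range]
      by_contra hc
      apply hi
      ext a
      by_contra ha
      exact hc (hp i a ha).1
    · intro i _ hi
      rw [Polynomial.notMem_support_iff] at hi
      rw [hi, map_zero, zero_mul]
  rw [h1]
  refine Finset.sum_congr rfl fun c _ => ?_
  have h2 : aeval t (p.coeff c) = ∑ a ∈ Finset.range (n c), (p.coeff c).coeff a • t ^ a := by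
    rw [aeval_def, eval₂_eq_sum, sum_def]
    refine (Finset.sum_subset (s₂ := Finset.range (n c)) ?_ ?_).trans ?_
    · intro i hi
      rw [Polynomial.mem_support_iff] at hi
      rw [Finset.mem_range]
      exact (hp c i hi).2
    · intro i _ hi
      rw [Polynomial.notMem_support_iff] at hi
      rw [hi, map_zero, zero_mul]
    · exact Finset.sum_congr rfl fun a _ => (Algebra.smul_def _ _).symm
  rw [h2, Finset.sum_mul]
  exact Finset.sum_congr rfl fun a _ => smul_mul_assoc _ _ _

variable {G : Gr k L} {x y z w : L} (hx : x ∈ G.V 1) (hy : y ∈ G.V 1) (hz : z ∈ G.V 2) (hw : w ∈ G.V 3) (hy0 : y ≠ 0)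
  (h1 : ∀ f ∈ G.V 1, ∃ a b : k, f = a • x + b • y)
  (hev : ∀ (m : ℕ), ∀ f ∈ G.V (2 * m + 2), ∃ (c : k), ∃ a ∈ G.V (2 * m + 1), ∃ b ∈ G.V (2 * m + 1),
    f = c • z ^ (m + 1) + (x * a + y * b))
  (hod : ∀ (m : ℕ), ∀ f ∈ G.V (2 * m + 3), ∃ (c : k), ∃ a ∈ G.V (2 * m + 2), ∃ b ∈ G.V (2 * m + 2),
    f = c • (z ^ m * w) + (x * a + y * b))

include hy0 h1 hev hod

/-- Normal form. -/
theorem rep (n : ℕ) : ∀ f ∈ G.V n, ∃ p q : k[X][X], Wt n p ∧ Wt (n - 3) q ∧
    f = y ^ n * (ev k (z / y ^ 2) (x / y) p + w / y ^ 3 * ev k (z / y ^ 2) (x / y) q) := by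
  induction n with
  | zero =>
    intro f hf
    obtain ⟨c, hc⟩ := G.mem_zero f (by simpa using hf)
    refine ⟨C (C c) * X ^ 0, 0, Wt.const c 0 (by simp), Wt.zero _, ?_⟩
    rw [hc]
    simp
  | succ n ih =>
    have step : ∀ (τ : L) (pt qt : k[X][X]), Wt (n + 1) pt → Wt (n + 1 - 3) qt →
        τ = y ^ (n + 1) * (ev k (z / y ^ 2) (x / y) pt + w / y ^ 3 * ev k (z / y ^ 2) (x / y) qt) →
        ∀ a ∈ G.V n, ∀ b ∈ G.V n, ∃ p q : k[X][X], Wt (n + 1 : ℤ) p ∧ Wt (n + 1 - 3 : ℤ) q ∧
          τ + (x * a + y * b) =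
            y ^ (n + 1) * (ev k (z / y ^ 2) (x / y) p + w / y ^ 3 * ev k (z / y ^ 2) (x / y) q) := by
      intro τ pt qt hpt hqt hτ a ha b hb
      obtain ⟨pa, qa, hpa, hqa, rfl⟩ := ih a ha
      obtain ⟨pb, qb, hpb, hqb, rfl⟩ := ih b hb
      refine ⟨pt + (C X * pa + pb), qt + (C X * qa + qb), hpt.add ((Wt.CX_mul hpa).add (hpb.mono (by omega))),
        hqt.add (((Wt.CX_mul hqa).mono (by omega)).add (hqb.mono (by omega))), ?_⟩
      rw [hτ]
      simp only [map_add, map_mul, ev_C, aeval_X]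
      field_simp
      ring
    intro f hf
    push_cast at hf ⊢
    obtain ⟨m, rfl | rfl⟩ := n.even_or_odd'
    · cases m with
      | zero =>
        obtain ⟨a, b, rfl⟩ := h1 f (by simpa using hf)
        refine ⟨C (C a * X + C b), 0, ?_, Wt.zero _, ?_⟩
        · intro c i hi
          rw [coeff_C] at hi
          split_ifs at hi with hc
          · subst hc
            have hdeg : (C a * X + C b).natDegree ≤ 1 := natDegree_linear_le
            have := le_natDegree_of_ne_zero hi
            simp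
            omega
          · simp at hi
        · simp only [ev_C, map_add, map_mul, aeval_C, aeval_X, map_zero, mul_zero, add_zero, Algebra.smul_def]
          field_simp
          ring
      | succ m =>
        obtain ⟨c, a, ha, b, hb, rfl⟩ := hod m f (by convert hf using 2; push_cast; ring)
        refine step (c • (z ^ m * w)) 0 (C (C c) * X ^ m) (Wt.zero _) (Wt.const c m (by push_cast; omega)) ?_ a
          (by convert ha using 2; push_cast; ring) b (by convert hb using 2; push_cast; ring)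
        simp only [map_zero, zero_add, map_mul, map_pow, ev_C, ev_X, aeval_C, Algebra.smul_def]
        rw [div_pow, ← pow_mul, show 2 * (m + 1) + 1 = 2 * m + 3 by ring, pow_add]
        field_simp
    · obtain ⟨c, a, ha, b, hb, rfl⟩ := hev m f (by convert hf using 2; push_cast; ring)
      refine step (c • z ^ (m + 1)) (C (C c) * X ^ (m + 1)) 0 (Wt.const c (m + 1) (by push_cast; omega)) (Wt.zero _) ?_ a
        (by convert ha using 2; push_cast; ring) b (by convert hb using 2; push_cast; ring)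
      simp only [map_zero, mul_zero, add_zero, map_mul, map_pow, ev_C, ev_X, aeval_C, Algebra.smul_def]
      rw [div_pow, ← pow_mul, show 2 * m + 1 + 1 = 2 * (m + 1) by ring]
      field_simp

omit hy0 h1 hev hod

theorem sum_odd (n : ℕ) : ∑ c : Fin n, (2 * (n - c.1) - 1) = n ^ 2 := by
  rw [Fin.sum_univ_eq_sum_range (fun c => 2 * (n - c) - 1)]
  induction n with
  | zero => rfl
  | succ n ih =>
    rw [Finset.sum_range_succ']
    have : ∑ c ∈ Finset.range n, (2 * (n + 1 - (c + 1)) - 1) = n ^ 2 := by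
      rw [← ih]
      refine Finset.sum_congr rfl fun c _ => ?_
      rw [Nat.add_sub_add_right]
    rw [this]
    have : 2 * (n + 1 - 0) - 1 = 2 * n + 1 := by omega
    rw [this]
    ring

theorem sum_even (n : ℕ) : ∑ c : Fin n, 2 * (n - c.1) = n ^ 2 + n := by
  rw [Fin.sum_univ_eq_sum_range (fun c => 2 * (n - c))]
  induction n with
  | zero => rfl
  | succ n ih =>
    rw [Finset.sum_range_succ']
    have : ∑ c ∈ Finset.range n, 2 * (n + 1 - (c + 1)) = n ^ 2 + n := by
      rw [← ih]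
      refine Finset.sum_congr rfl fun c _ => ?_
      rw [Nat.add_sub_add_right]
    rw [this, Nat.sub_zero]
    ring

/-- Indices of the monomials of weight at most `2 n + 2`. -/
abbrev Ix (n : ℕ) : Type := (Σ c : Fin (n + 2), Fin (2 * (n + 2 - c.1) - 1)) ⊕ (Σ c : Fin n, Fin (2 * (n - c.1)))

theorem card_Ix (n : ℕ) : Fintype.card (Ix n) = (n + 2) ^ 2 + (n ^ 2 + n) := by
  rw [Fintype.card_sum, Fintype.card_sigma, Fintype.card_sigma]
  simp only [Fintype.card_fin]
  rw [sum_odd, sum_even]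

/-- Monomials. -/
noncomputable def mon (n : ℕ) (s t ω : L) : Ix n → L
  | Sum.inl ⟨c, a⟩ => t ^ a.1 * s ^ c.1
  | Sum.inr ⟨c, a⟩ => ω * (t ^ a.1 * s ^ c.1)

theorem exists_bound (p : k[X][X]) : ∃ B : ℕ, ∀ c a, (p.coeff c).coeff a ≠ 0 → c < B ∧ a < B := by
  refine ⟨p.natDegree + 1 + ∑ c ∈ Finset.range (p.natDegree + 1), ((p.coeff c).natDegree + 1), fun c a h => ?_⟩
  have h1 : c ≤ p.natDegree := le_natDegree_of_ne_zero (fun h0 => h (by rw [h0, coeff_zero]))
  have h2 : a ≤ (p.coeff c).natDegree := le_natDegree_of_ne_zero h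
  have h3 : (p.coeff c).natDegree + 1 ≤ ∑ c ∈ Finset.range (p.natDegree + 1), ((p.coeff c).natDegree + 1) :=
    Finset.single_le_sum (f := fun c => (p.coeff c).natDegree + 1) (fun _ _ => Nat.zero_le _)
      (Finset.mem_range.2 (by omega))
  omega

theorem sum_mon (n : ℕ) (s t ω : L) (p q : k[X][X])
    (hp : ∀ c a, (p.coeff c).coeff a ≠ 0 → c < n + 2 ∧ a < 2 * (n + 2 - c) - 1)
    (hq : ∀ c a, (q.coeff c).coeff a ≠ 0 → c < n ∧ a < 2 * (n - c)) :
    ev k s t p + ω * ev k s t q = ∑ i : Ix n, (match i with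
      | Sum.inl ⟨c, a⟩ => (p.coeff c).coeff a
      | Sum.inr ⟨c, a⟩ => (q.coeff c).coeff a) • mon n s t ω i := by
  rw [Fintype.sum_sum_type, Fintype.sum_sigma, Fintype.sum_sigma, ev_eq_sum p hp, ev_eq_sum q hq, Finset.mul_sum]
  congr 1
  · rw [← Fin.sum_univ_eq_sum_range (fun c => ∑ a ∈ Finset.range (2 * (n + 2 - c) - 1), (p.coeff c).coeff a • (t ^ a * s ^ c))]
    refine Finset.sum_congr rfl fun c _ => ?_
    rw [← Fin.sum_univ_eq_sum_range (fun a => (p.coeff c).coeff a • (t ^ a * s ^ c.1))]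
    rfl
  · rw [← Fin.sum_univ_eq_sum_range (fun c => ω * ∑ a ∈ Finset.range (2 * (n - c)), (q.coeff c).coeff a • (t ^ a * s ^ c))]
    refine Finset.sum_congr rfl fun c _ => ?_
    rw [← Fin.sum_univ_eq_sum_range (fun a => (q.coeff c).coeff a • (t ^ a * s ^ c.1)), Finset.mul_sum]
    refine Finset.sum_congr rfl fun a _ => ?_
    rw [mul_smul_comm]
    rfl

include hy0 h1 hev hod

/-- Uniqueness of the normal form. -/
theorem inj (hdim : ∀ n : ℕ, 2 * finrank k (G.V n) = n * (n + 1) + 2) (p q : k[X][X])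
    (h : ev k (z / y ^ 2) (x / y) p + w / y ^ 3 * ev k (z / y ^ 2) (x / y) q = 0) : p = 0 ∧ q = 0 := by
  obtain ⟨B, hB⟩ := exists_bound p
  obtain ⟨B', hB'⟩ := exists_bound q
  obtain ⟨n, hn, hn'⟩ : ∃ n : ℕ, 2 * B ≤ n ∧ 2 * B' ≤ n := ⟨2 * B + 2 * B', by omega, by omega⟩
  let v : Ix n → L := fun i => y ^ (2 * n + 2) * mon n (z / y ^ 2) (x / y) (w / y ^ 3) i
  have hVS : G.V ((2 * n + 2 : ℕ) : ℤ) ≤ Submodule.span k (Set.range v) := by
    intro f hf
    obtain ⟨p, q, hp, hq, rfl⟩ := rep hy0 h1 hev hod (2 * n + 2) f hf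
    rw [sum_mon n _ _ _ p q (fun c a h => by have := hp c a h; push_cast at this; omega)
      (fun c a h => by have := hq c a h; push_cast at this; omega), Finset.mul_sum]
    refine Submodule.sum_mem _ fun i _ => ?_
    rw [mul_smul_comm]
    exact Submodule.smul_mem _ _ (Submodule.subset_span ⟨i, rfl⟩)
  have hli : LinearIndependent k v := by
    rw [linearIndependent_iff_card_eq_finrank_span]
    refine le_antisymm ?_ (finrank_range_le_card v)
    have : Module.Finite k (Submodule.span k (Set.range v)) := Module.Finite.span_of_finite k (Set.finite_range v)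
    have h2 := Submodule.finrank_mono hVS
    have h3 := hdim (2 * n + 2)
    rw [card_Ix]
    refine le_trans ?_ h2
    nlinarith
  rw [sum_mon n _ _ _ p q (fun c a h => by have := hB c a h; omega) (fun c a h => by have := hB' c a h; omega)] at h
  rw [Fintype.linearIndependent_iff] at hli
  have h4 := hli _ (by
    have h5 := congrArg (fun u => y ^ (2 * n + 2) * u) h
    simp only [Finset.mul_sum, mul_smul_comm, mul_zero] at h5
    exact h5)
  constructor
  · ext c a
    by_contra hne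
    have hne' : (p.coeff c).coeff a ≠ 0 := hne
    have h5 := hB c a hne'
    exact hne' (h4 (Sum.inl ⟨⟨c, by omega⟩, ⟨a, by simp only; omega⟩⟩))
  · ext c a
    by_contra hne
    have hne' : (q.coeff c).coeff a ≠ 0 := hne
    have h5 := hB' c a hne'
    exact hne' (h4 (Sum.inr ⟨⟨c, by omega⟩, ⟨a, by simp only; omega⟩⟩))

end Groth.Agent.Surf.K463.ZRep
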