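import Groth.Agent.Surf.K460.ZGeo
import Groth.Agent.Fdesc.LocGenPullback
import Groth.Agent.BlowUp.K484.CocPull

/-!
# Restriction of rational functions to a closed integral subscheme

* `rs i u`: the restriction to `Y` of a rational function `u` on `X` regular at the generic point of `Y`.
* `hasCoc_restrict`: the Cartier cocycle of a restricted invertible module.
-/

set_option autoImplicit false
universe u
open CategoryTheory CategoryTheory.Limits AlgebraicGeometry TopologicalSpace Opposite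

namespace Groth.Agent.Surf.K463.ZRes

open Groth.Agent.Fdesc.LocGen Groth.Agent.Lefpen.H725.CocDef Groth.Agent.Lefpen.H521.CartierCoc
open K801.Cousin

variable {X Y : Scheme.{u}} [IsIntegral X] [IsIntegral Y] (i : Y ⟶ X)

theorem mem_of_mem {y : Y} {U : X.Opens} (h : i y ∈ U) : i (genericPoint Y) ∈ U :=
  ((genericPoint_specializes y).map i.continuous).mem_open U.2 h

theorem regAt_gp {y : Y} {u : X.functionField} (h : RegAt (i y) u) : RegAt (i (genericPoint Y)) u := by
  obtain ⟨U, hy, hη, g, hg⟩ := h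
  exact ⟨U, mem_of_mem i hy, hη, g, hg⟩

theorem unitAt_gp {y : Y} {u : X.functionField} (h : UnitAt (i y) u) : UnitAt (i (genericPoint Y)) u := by
  obtain ⟨U, hy, hη, g, hg⟩ := h
  exact ⟨U, mem_of_mem i hy, hη, g, hg⟩

open Classical in
/-- Restriction to `Y` of a rational function regular at the generic point of `Y`. -/
noncomputable def rs (u : X.functionField) : Y.functionField :=
  if h : ∃ a : X.presheaf.stalk (i (genericPoint Y)), algebraMap _ X.functionField a = u then
    i.stalkMap (genericPoint Y) h.choose else 0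

theorem rs_algebraMap (a : X.presheaf.stalk (i (genericPoint Y))) :
    rs i (algebraMap _ X.functionField a) = i.stalkMap (genericPoint Y) a := by
  have h : ∃ b : X.presheaf.stalk (i (genericPoint Y)), algebraMap _ X.functionField b =
    algebraMap _ X.functionField a := ⟨a, rfl⟩
  rw [rs, dif_pos h]
  congr 1
  exact IsFractionRing.injective _ X.functionField h.choose_spec

theorem rs_ff (U : X.Opens) (hξ : i (genericPoint Y) ∈ U) (g : Γ(X, U)) :
    rs i (ff U (gen_mem hξ) g) = ff (i ⁻¹ᵁ U) hξ (i.app U g) := by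
  rw [← algebraMap_germ hξ (gen_mem hξ) g, rs_algebraMap]
  exact i.germ_stalkMap_apply U _ hξ g

theorem rs_ff' (U : X.Opens) (hξ : i (genericPoint Y) ∈ U) (hη : genericPoint X ∈ U)
    (hη' : genericPoint Y ∈ i ⁻¹ᵁ U) (g : Γ(X, U)) :
    rs i (ff U hη g) = ff (i ⁻¹ᵁ U) hη' (i.app U g) := rs_ff i U hξ g

theorem exists_stalk {x : X} {u : X.functionField} (hu : RegAt x u) :
    ∃ a : X.presheaf.stalk x, algebraMap _ X.functionField a = u := (regAt_iff _ _).1 hu

theorem rs_zero : rs i 0 = 0 := by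
  have := rs_algebraMap i 0
  rwa [map_zero, map_zero] at this

theorem rs_one : rs i 1 = 1 := by
  have := rs_algebraMap i 1
  rwa [map_one, map_one] at this

variable {i} {u v : X.functionField}

theorem rs_add (hu : RegAt (i (genericPoint Y)) u) (hv : RegAt (i (genericPoint Y)) v) :
    rs i (u + v) = rs i u + rs i v := by
  obtain ⟨a, rfl⟩ := exists_stalk hu
  obtain ⟨b, rfl⟩ := exists_stalk hv
  rw [← map_add, rs_algebraMap, rs_algebraMap, rs_algebraMap, map_add]

theorem rs_sub (hu : RegAt (i (genericPoint Y)) u) (hv : RegAt (i (genericPoint Y)) v) :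
    rs i (u - v) = rs i u - rs i v := by
  obtain ⟨a, rfl⟩ := exists_stalk hu
  obtain ⟨b, rfl⟩ := exists_stalk hv
  rw [← map_sub, rs_algebraMap, rs_algebraMap, rs_algebraMap, map_sub]

theorem rs_mul (hu : RegAt (i (genericPoint Y)) u) (hv : RegAt (i (genericPoint Y)) v) :
    rs i (u * v) = rs i u * rs i v := by
  obtain ⟨a, rfl⟩ := exists_stalk hu
  obtain ⟨b, rfl⟩ := exists_stalk hv
  rw [← map_mul, rs_algebraMap, rs_algebraMap, rs_algebraMap, map_mul]

theorem rs_pow (hu : RegAt (i (genericPoint Y)) u) (n : ℕ) : rs i (u ^ n) = rs i u ^ n := by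
  obtain ⟨a, rfl⟩ := exists_stalk hu
  rw [← map_pow, rs_algebraMap, rs_algebraMap, map_pow]

theorem regAt_rs {y : Y} (h : RegAt (i y) u) : RegAt y (rs i u) := by
  obtain ⟨U, hy, hη, g, rfl⟩ := h
  exact ⟨i ⁻¹ᵁ U, hy, mem_of_mem i hy, i.app U g, (rs_ff i U (mem_of_mem i hy) g).symm⟩

theorem unitAt_rs {y : Y} (h : UnitAt (i y) u) : UnitAt y (rs i u) := by
  obtain ⟨U, hy, hη, g, hg, rfl⟩ := h
  exact ⟨i ⁻¹ᵁ U, hy, mem_of_mem i hy, i.app U g, hg.map _, (rs_ff i U (mem_of_mem i hy) g).symm⟩

theorem rs_ne_zero (h : UnitAt (i (genericPoint Y)) u) : rs i u ≠ 0 := unitAt_ne_zero (unitAt_rs h)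

theorem rs_inv (h : UnitAt (i (genericPoint Y)) u) : rs i u⁻¹ = (rs i u)⁻¹ := by
  refine eq_inv_of_mul_eq_one_left ?_
  rw [← rs_mul (unitAt_regAt (unitAt_inv h)) (unitAt_regAt h), inv_mul_cancel₀ (unitAt_ne_zero h), rs_one]

theorem rs_div (hu : RegAt (i (genericPoint Y)) u) (h : UnitAt (i (genericPoint Y)) v) :
    rs i (u / v) = rs i u / rs i v := by
  rw [div_eq_mul_inv, rs_mul hu (unitAt_regAt (unitAt_inv h)), rs_inv h, ← div_eq_mul_inv]

theorem rs_zpow (h : UnitAt (i (genericPoint Y)) u) (n : ℤ) : rs i (u ^ n) = rs i u ^ n := by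
  obtain ⟨m, rfl | rfl⟩ := n.eq_nat_or_neg
  · rw [zpow_natCast, zpow_natCast, rs_pow (unitAt_regAt h)]
  · rw [zpow_neg, zpow_neg, zpow_natCast, zpow_natCast, ← rs_pow (unitAt_regAt h), rs_inv]
    induction m with
    | zero => rw [pow_zero]; exact K801.LEq.unitAt_one _
    | succ m ih => rw [pow_succ]; exact unitAt_mul ih h

/-- A regular function restricts to zero iff it is not a unit at the generic point. -/
theorem rs_eq_zero_iff (hu : RegAt (i (genericPoint Y)) u) : rs i u = 0 ↔ ¬ UnitAt (i (genericPoint Y)) u := by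
  constructor
  · intro h h'
    exact rs_ne_zero h' h
  · intro h
    obtain ⟨a, rfl⟩ := exists_stalk hu
    rw [rs_algebraMap]
    by_contra hne
    apply h
    have h1 : IsUnit (i.stalkMap (genericPoint Y) a) := IsUnit.mk0 _ hne
    have h2 : IsUnit a := isUnit_of_map_unit (i.stalkMap (genericPoint Y)).hom a h1
    exact K484.CocPull.unitAt_algebraMap h2.unit

/-- Every function regular at a point of `Y` is the restriction of a function regular there. -/
theorem exists_rs_eq [IsClosedImmersion i] {y : Y} {v : Y.functionField} (h : RegAt y v) :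
    ∃ u : X.functionField, RegAt (i y) u ∧ rs i u = v := by
  obtain ⟨b, rfl⟩ := exists_stalk h
  obtain ⟨a, ha⟩ := i.stalkMap_surjective y b
  obtain ⟨U, hy, g, rfl⟩ := X.presheaf.exists_germ_eq a
  refine ⟨ff U (gen_mem hy) g, ⟨U, hy, gen_mem hy, g, rfl⟩, ?_⟩
  rw [rs_ff i U (mem_of_mem i hy) g, ← ha]
  have h1 := i.germ_stalkMap_apply U y hy g
  rw [h1]
  exact (algebraMap_germ (x := y) hy _ _).symm

/-- The Cartier cocycle of a restriction. -/
theorem hasCoc_restrict {L : X.Modules} {c : X → X.functionField} (h : HasCoc L c) {e : X.functionField}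
    (he : ∀ y : Y, UnitAt (i (genericPoint Y)) (c (i y) / e)) :
    HasCoc ((Scheme.Modules.pullback i).obj L) (fun y => rs i (c (i y) / e)) := by
  obtain ⟨h0, U, hU, s, hs, h⟩ := h
  refine ⟨fun y => rs_ne_zero (he y), fun y => i ⁻¹ᵁ (U (i y)),
    fun y => hU (i y), fun y => pullSec i (s (i y)), fun y => (hs (i y)).pullSec i, fun y z => ?_⟩
  obtain ⟨g, hg, h1, h2⟩ := h (i y) (i z)
  have hg' : i (genericPoint Y) ∈ U (i y) ⊓ U (i z) := ⟨mem_of_mem i (hU _), mem_of_mem i (hU _)⟩
  refine ⟨i.app _ g, hg', ?_, ?_⟩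
  · have h3 := congrArg (pullSec i) h1
    rw [pullSec_smul, ← res_pullSec, ← res_pullSec] at h3
    exact h3
  · change rs i (c (i y) / e) = _ * rs i (c (i z) / e)
    rw [h2, mul_div_assoc, rs_mul ⟨_, hg', gen_mem hg', g, rfl⟩ (unitAt_regAt (he z)), rs_ff i _ hg' g]
    rfl

end Groth.Agent.Surf.K463.ZRes
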