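import Groth.Agent.Surf.K463.ZRes
import Groth.Agent.Surf.K443.Les
import Groth.Agent.Surf.K464.Cohom

/-!
# Restriction of anticanonical sections to a curve

* `exists_curve_eq`: an irreducible element of `V n` is the global equation of an integral curve.
* `surj`: `V n` maps onto the sections of `D^n` on a curve cut out by an element of `V m`.
-/

set_option autoImplicit false
universe u
open CategoryTheory CategoryTheory.Limits AlgebraicGeometry TopologicalSpace Opposite

namespace Groth.Agent.Surf.K463.ZSeq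

open Groth.Agent Groth.Agent.Fdesc.LocGen Groth.Agent.Lefpen.H725.CocDef Groth.Agent.Lefpen.H521.CartierCoc
open K801.Cousin K801.CousinH1 K801.LEq Groth.Agent.Grpsch.PicGrp K464.Curves K464.Base
open K460.SurfKit K460.DelPezzo K460.ZSec K460.ZCurve K460.PicZ K460.ZGeo ZRes

attribute [local instance] algK

section alg

variable (k : Type u) [Field k] {X : Scheme.{u}} [X.Over (Spec (CommRingCat.of k))] [IsIntegral X]
  (C : X.IdealSheafData) [IsIntegral C.subscheme]

theorem rs_algebraMap' (a : k) :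
    letI := overC k X C
    rs C.subschemeι (algebraMap k X.functionField a) = algebraMap k C.subscheme.functionField a := by
  letI := overC k X C
  change rs C.subschemeι (ff ⊤ trivial (Picfga.ChiCech.str k (⊤ : X.Opens) a)) =
    ff ⊤ trivial (Picfga.ChiCech.str k (⊤ : C.subscheme.Opens) a)
  rw [rs_ff C.subschemeι ⊤ trivial]
  have h : C.subschemeι.app ⊤ (Picfga.ChiCech.str k (⊤ : X.Opens) a) =
      Picfga.ChiCech.str k (⊤ : C.subscheme.Opens) a := by
    have h1 : Picfga.ChiCech.str k (⊤ : X.Opens) a = Coh.toGlobal (X ↘ Spec (CommRingCat.of k)) a :=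
      ConcreteCategory.congr_hom (X.presheaf.map_id (op (⊤ : X.Opens))) _
    have h2 : Picfga.ChiCech.str k (⊤ : C.subscheme.Opens) a =
      Coh.toGlobal (C.subscheme ↘ Spec (CommRingCat.of k)) a :=
      ConcreteCategory.congr_hom (C.subscheme.presheaf.map_id (op (⊤ : C.subscheme.Opens))) _
    rw [h1, h2]
    rfl
  rw [h]
  rfl

theorem rs_smul (a : k) {u : X.functionField} (hu : RegAt (C.subschemeι (genericPoint C.subscheme)) u) :
    letI := overC k X C
    rs C.subschemeι (a • u) = a • rs C.subschemeι u := by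
  letI := overC k X C
  rw [Algebra.smul_def, Algebra.smul_def, rs_mul (regAt_algebraMap k _ a) hu, rs_algebraMap']

end alg

variable {k : Type u} [Field k] [IsAlgClosed k] {X : Scheme.{u}} [X.Over (Spec (CommRingCat.of k))]
  [IsIntegral X] [IsProper (X ↘ Spec (CommRingCat.of k))] [Smooth (X ↘ Spec (CommRingCat.of k))]
  {W D : X.Modules} (P : DP k X W D) (hpic : ∀ c : Pic X, ∃ n : ℤ, c = mk W P.hWi ^ n)
  {δ : X → X.functionField} (hδ : HasCoc D δ)

include P hpic in
/-- An irreducible homogeneous element is a global equation of an integral curve. -/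
theorem exists_curve_eq {n : ℤ} {e : X.functionField} (hn : 0 < n)
    (he : e ∈ (gr P hpic hδ).V n) (he0 : e ≠ 0) (hirr : ∀ (i j : ℤ) (a b : X.functionField), 0 < i → 0 < j →
      i + j = n → a ∈ (gr P hpic hδ).V i → b ∈ (gr P hpic hδ).V j → e ≠ a * b) :
    ∃ (C : X.IdealSheafData) (_ : IsCurve C) (d : X → X.functionField), IsLEq C d ∧
      ∀ x, UnitAt x (e / δ x ^ n / d x) := by
  obtain ⟨C, hC, hξ⟩ := exists_curve_of P hn.ne' he he0 hδ
  obtain ⟨d, m, p, hd, hm, hp, hpd⟩ := exists_eq_curve P hpic hδ hC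
  have hδ0 := hδ.1
  have hq : e / p ∈ secs k (fun x => δ x ^ (n - m)) := by
    intro x
    have h1 := regAt_div hC hd (zpow_ne hδ.1 n) (zpow_loc P.hamp.1 hδ n) he hξ x
    have h2 := regAt_mul h1 (unitAt_regAt (unitAt_inv (hpd x)))
    have h3 : e / p / δ x ^ (n - m) = e / (δ x ^ n * d x) * (p / δ x ^ m / d x)⁻¹ := by
      have := hδ0 x
      have := hd.ne_zero x
      rw [zpow_sub₀ (hδ0 x)]
      field_simp
    change RegAt x (e / p / δ x ^ (n - m))
    rw [h3]
    exact h2
  have hpm : p ∈ secs k (fun x => δ x ^ m) := fun x => by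
    have h1 := regAt_mul (unitAt_regAt (hpd x)) (hd.regAt x)
    rwa [div_mul_cancel₀ _ (hd.ne_zero x)] at h1
  have hq0 : e / p ≠ 0 := div_ne_zero he0 hp
  have hnm : n - m = 0 := by
    rcases lt_trichotomy (n - m) 0 with h | h | h
    · exact absurd (V_neg P hδ h hq) hq0
    · exact h
    · exact absurd (by rw [mul_div_cancel₀ _ hp] : e = p * (e / p)) (hirr m (n - m) p (e / p) hm h (by ring) hpm hq)
  obtain rfl : m = n := by omega
  rw [sub_self] at hq
  obtain ⟨c, hc⟩ := V_zero P hδ hq
  have hc0 : c ≠ 0 := by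
    rintro rfl
    rw [map_zero] at hc
    exact hq0 hc
  have hep : e = algebraMap k X.functionField c * p := by rw [← hc, div_mul_cancel₀ _ hp]
  have hcu : ∀ x : X, UnitAt x (algebraMap k X.functionField c) := fun x =>
    unitAt_of_regAt (regAt_algebraMap k x c) (regAt_algebraMap k x c⁻¹) (by rw [← map_mul, mul_inv_cancel₀ hc0, map_one])
  refine ⟨C, hC, d, hd, fun x => ?_⟩
  have h1 := unitAt_mul (hcu x) (hpd x)
  rw [hep, mul_div_assoc, mul_div_assoc]
  exact h1

omit [IsAlgClosed k] [X.Over (Spec (CommRingCat.of k))] [IsProper (X ↘ Spec (CommRingCat.of k))]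
  [Smooth (X ↘ Spec (CommRingCat.of k))] in
theorem unitAt_zpow {x : X} {u : X.functionField} (h : UnitAt x u) (n : ℤ) : UnitAt x (u ^ n) := by
  have h2 : ∀ m : ℕ, UnitAt x (u ^ m) := fun m => by
    induction m with
    | zero => rw [pow_zero]; exact unitAt_one _
    | succ m ih => rw [pow_succ]; exact unitAt_mul ih h
  obtain ⟨m, rfl | rfl⟩ := n.eq_nat_or_neg
  · rw [zpow_natCast]
    exact h2 m
  · rw [zpow_neg, zpow_natCast]
    exact unitAt_inv (h2 m)

include hδ in
omit [IsAlgClosed k] [X.Over (Spec (CommRingCat.of k))] [IsProper (X ↘ Spec (CommRingCat.of k))]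
  [Smooth (X ↘ Spec (CommRingCat.of k))] in
/-- `δ` restricted to the curve, normalised by a section not vanishing on it. -/
theorem unit_div {C : X.IdealSheafData} (hC : IsCurve C) {y : X.functionField} (hy : UnitAt (gp hC) (y / δ (gp hC))) (b : C.subscheme) :
    UnitAt (gp hC) (δ (C.subschemeι b) / y) := by
  have := hC.integral
  obtain ⟨U, hbU, hU⟩ := hasCoc_loc hδ (C.subschemeι b)
  have h1 := hU (gp hC) (mem_of_mem C.subschemeι hbU)
  have h2 := unitAt_mul h1 (unitAt_inv hy)
  have h3 : δ (C.subschemeι b) / δ (gp hC) * (y / δ (gp hC))⁻¹ = δ (C.subschemeι b) / y := by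
    have h4 := unitAt_ne_zero hy
    have h5 := hδ.1 (gp hC)
    have h6 : y ≠ 0 := fun h => h4 (by rw [h, zero_div])
    field_simp
  rwa [h3] at h2

section curve

variable {C : X.IdealSheafData} (hC : IsCurve C) {d : X → X.functionField} (hd : IsLEq C d)
  {m : ℤ} {e : X.functionField} (he : ∀ x, UnitAt x (e / δ x ^ m / d x))

include hδ hd he

omit [IsAlgClosed k] [X.Over (Spec (CommRingCat.of k))] [IsProper (X ↘ Spec (CommRingCat.of k))]
  [Smooth (X ↘ Spec (CommRingCat.of k))] in
theorem e_ne_zero (x : X) : e ≠ 0 := by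
  have h := unitAt_ne_zero (he x)
  rintro rfl
  simp at h

include P in
omit [IsAlgClosed k] in
/-- The sections vanishing on the curve. -/
theorem div_mem {l : ℤ} {f : X.functionField} (hf : f ∈ secs k (fun x => δ x ^ l))
    (hfξ : ¬ UnitAt (gp hC) (f / δ (gp hC) ^ l)) : f / e ∈ secs k (fun x => δ x ^ (l - m)) := by
  intro x
  have h1 := regAt_div hC hd (zpow_ne hδ.1 l) (zpow_loc P.hamp.1 hδ l) hf hfξ x
  have h2 := regAt_mul h1 (unitAt_regAt (unitAt_inv (he x)))
  have h3 : f / e / δ x ^ (l - m) = f / (δ x ^ l * d x) * (e / δ x ^ m / d x)⁻¹ := by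
    have := hδ.1 x
    have := hd.ne_zero x
    have := e_ne_zero hδ hd he x
    rw [zpow_sub₀ (hδ.1 x)]
    field_simp
  change RegAt x (f / e / δ x ^ (l - m))
  rw [h3]
  exact h2

omit [IsAlgClosed k] [IsProper (X ↘ Spec (CommRingCat.of k))] [Smooth (X ↘ Spec (CommRingCat.of k))] in
theorem e_mem : e ∈ secs k (fun x => δ x ^ m) := fun x => by
  have h1 := regAt_mul (unitAt_regAt (he x)) (hd.regAt x)
  rwa [div_mul_cancel₀ _ (hd.ne_zero x)] at h1

include P in
omit [IsAlgClosed k] in
/-- The class of the curve. -/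
theorem ic_eq (hCe : BlowUp.IsEffCartierIdeal C) : ic C hCe = mk D P.hamp.1 ^ (-m) := by
  obtain ⟨L, hL, hc, hmk⟩ := coc_zpow P.hamp.1 hδ (-m)
  obtain ⟨φ⟩ := hasCoc_iso hc hd.hasCoc e (e_ne_zero hδ hd he (genericPoint X)) (fun x => by
    have h1 := he x
    rwa [show e * δ x ^ (-m) / d x = e / δ x ^ m / d x by rw [zpow_neg]; ring])
  rw [← hmk]
  exact ((mk_eq_iff hL (Dix.IdealModCartier.isInvertible_idealMod hCe)).2 ⟨φ⟩).symm

variable (hCe : BlowUp.IsEffCartierIdeal C) (hK : Kod k X)

include P he hK hCe in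
/-- `h⁰(D^n|_C) = h⁰(D^n) - h⁰(D^{n-m})`. -/
theorem finrank_curve (n : ℤ) {y : X.functionField} (hy : UnitAt (gp hC) (y / δ (gp hC))) :
    letI := overC k X C
    haveI := hC.integral
    Module.Finite k (secs k (fun b : C.subscheme => rs C.subschemeι (δ (C.subschemeι b) ^ n / y ^ n))) ∧
    Module.finrank k (secs k (fun b : C.subscheme => rs C.subschemeι (δ (C.subschemeι b) ^ n / y ^ n))) +
      h k X 0 (mk D P.hamp.1 ^ (n - m)) = h k X 0 (mk D P.hamp.1 ^ n) := by
  letI := overC k X C
  haveI := hC.integral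
  obtain ⟨L, hL, hc, hmk⟩ := coc_zpow P.hamp.1 hδ n
  have hu : ∀ b : C.subscheme, UnitAt (C.subschemeι (genericPoint C.subscheme)) (δ (C.subschemeι b) ^ n / y ^ n) := by
    intro b
    rw [← div_zpow]
    exact unitAt_zpow (unit_div hδ hC hy b) n
  have hfin : Module.Finite k (Coh.HH C.subscheme ((Scheme.Modules.pullback C.subschemeι).obj L) 0) := by
    have := K464.Cohom.finite_HH k (M := CohB1.tensorMod (ClSub.quotMod C) L) (isCoh_tensorMod X (isCoh_quotMod X C) hL) 0
    exact Module.Finite.equiv (K464.Cohom.hhSub k C hL 0)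
  refine ⟨finite_secs k (hasCoc_restrict hc hu), ?_⟩
  rw [finrank_secs k (hasCoc_restrict hc hu), ← (K464.Cohom.hhSub k C hL 0).finrank_eq]
  have hS := Fga.TwistCoh.shortExact_tensorBi hL _ (VarietyB.RestrSeq.idealSeq_shortExact C)
  have e2 : CohB1.tensorMod L (Coh.structureModule X) ≅ L :=
    Ega2.Tens.swap L (Coh.structureModule X) ≪≫ Ega2.Tens.lunit L
  have hf : Module.Finite k (Coh.HH X (CohB1.tensorMod L (Coh.structureModule X)) 0) := by
    have := Fga.HodgeSec.finite_HH k hL 0
    exact Module.Finite.equiv (Fga.PicMon.hmapEquiv k X e2 0).symm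
  have hic := ic_eq P hδ hd he hCe
  have hmk' : mk (CohB1.tensorMod L (ClSub.idealMod C)) (Fdesc.LocGen.isInvertible_tensorMod hL
      (Dix.IdealModCartier.isInvertible_idealMod hCe)) = mk D P.hamp.1 ^ (n - m) := by
    rw [← mk_mul_mk hL (Dix.IdealModCartier.isInvertible_idealMod hCe), hmk]
    change _ * ic C hCe = _
    rw [hic, ← zpow_add, sub_eq_add_neg]
  have h1 : Subsingleton (Coh.HH X (CohB1.tensorMod L (ClSub.idealMod C)) 1) := by
    have h0 := h1_zpow P hK (n - m)
    rw [← hmk'] at h0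
    exact subsingleton_of_h_eq_zero k X _ h0
  have hf' : Module.Finite k (Coh.HH X ((VarietyB.RestrSeq.idealSeq C).map (DCoh.tensorBi.obj L)).X₂ 0) := hf
  have h2 := K443.Les.h0_add k hS h1
  have h3 : h k X 0 (mk D P.hamp.1 ^ n) = Module.finrank k (Coh.HH X (CohB1.tensorMod L (Coh.structureModule X)) 0) := by
    rw [← hmk, h_mk]
    exact ((Fga.PicMon.hmapEquiv k X e2 0).finrank_eq).symm
  have h4 : h k X 0 (mk D P.hamp.1 ^ (n - m)) = Module.finrank k (Coh.HH X (CohB1.tensorMod L (ClSub.idealMod C)) 0) := by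
    rw [← hmk', h_mk]
  have h5 := K464.Cohom.finrank_congr k (Ega2.Tens.swap (ClSub.quotMod C) L) 0
  rw [h3, h4, h5]
  rw [add_comm]
  exact h2.symm

omit [IsAlgClosed k] [IsProper (X ↘ Spec (CommRingCat.of k))] [Smooth (X ↘ Spec (CommRingCat.of k))] hd he in
theorem regAt_sec {y : X.functionField} (hy : UnitAt (gp hC) (y / δ (gp hC))) {n : ℤ} {f : X.functionField}
    (hf : f ∈ secs k (fun x => δ x ^ n)) : RegAt (gp hC) (f / y ^ n) := by
  have h1 := hf (gp hC)
  have hδ0 := hδ.1 (gp hC)
  have hy0 : y / δ (gp hC) ≠ 0 := unitAt_ne_zero hy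
  have hy1 : y ≠ 0 := fun h => hy0 (by rw [h, zero_div])
  have h2 : UnitAt (gp hC) ((y / δ (gp hC)) ^ (-n)) := unitAt_zpow hy (-n)
  have h3 := regAt_mul h1 (unitAt_regAt h2)
  rwa [show f / δ (gp hC) ^ n * (y / δ (gp hC)) ^ (-n) = f / y ^ n by
    rw [div_zpow, zpow_neg, zpow_neg]
    have := zpow_ne_zero n hδ0
    have := zpow_ne_zero n hy1
    field_simp] at h3

omit [IsAlgClosed k] [IsProper (X ↘ Spec (CommRingCat.of k))] [Smooth (X ↘ Spec (CommRingCat.of k))] hd he in
/-- Restricted sections. -/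
theorem rs_mem {y : X.functionField} (hy : UnitAt (gp hC) (y / δ (gp hC))) {n : ℤ} {f : X.functionField}
    (hf : f ∈ secs k (fun x => δ x ^ n)) :
    letI := overC k X C
    haveI := hC.integral
    rs C.subschemeι (f / y ^ n) ∈
      secs k (fun b : C.subscheme => rs C.subschemeι (δ (C.subschemeι b) ^ n / y ^ n)) := by
  letI := overC k X C
  haveI := hC.integral
  intro b
  have h1 := regAt_rs (hf (C.subschemeι b))
  have h2 : UnitAt (C.subschemeι (genericPoint C.subscheme)) (δ (C.subschemeι b) ^ n / y ^ n) := by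
    rw [← div_zpow]
    exact unitAt_zpow (unit_div hδ hC hy b) n
  change RegAt b (rs C.subschemeι (f / y ^ n) / rs C.subschemeι (δ (C.subschemeι b) ^ n / y ^ n))
  rw [← rs_div (regAt_sec hδ hC hy hf) h2]
  have hδ0 := hδ.1 (C.subschemeι b)
  have hy0 : y / δ (gp hC) ≠ 0 := unitAt_ne_zero hy
  have hy1 : y ≠ 0 := fun h => hy0 (by rw [h, zero_div])
  rwa [show f / y ^ n / (δ (C.subschemeι b) ^ n / y ^ n) = f / δ (C.subschemeι b) ^ n by
    have := zpow_ne_zero n hδ0
    have := zpow_ne_zero n hy1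
    field_simp]

include P he hK hCe in
/-- `V n` maps onto the sections of `D^n|_C`. -/
theorem surj (n : ℤ) {y : X.functionField} (hy : UnitAt (gp hC) (y / δ (gp hC))) :
    letI := overC k X C
    haveI := hC.integral
    ∀ v ∈ secs k (fun b : C.subscheme => rs C.subschemeι (δ (C.subschemeι b) ^ n / y ^ n)),
      ∃ s ∈ secs k (fun x => δ x ^ n), rs C.subschemeι (s / y ^ n) = v := by
  letI := overC k X C
  haveI := hC.integral
  obtain ⟨hfin, hrk⟩ := finrank_curve P hδ hC hd he hCe hK n hy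
  have hf1 := finite_V P hδ n
  have hf2 := finite_V P hδ (n - m)
  let R : secs k (fun x => δ x ^ n) →ₗ[k]
      secs k (fun b : C.subscheme => rs C.subschemeι (δ (C.subschemeι b) ^ n / y ^ n)) :=
    { toFun := fun f => ⟨rs C.subschemeι (f.1 / y ^ n), rs_mem hδ hC hy f.2⟩
      map_add' := fun f g => by
        ext1
        change rs C.subschemeι ((f.1 + g.1) / y ^ n) = rs C.subschemeι (f.1 / y ^ n) + rs C.subschemeι (g.1 / y ^ n)
        rw [add_div, rs_add (regAt_sec hδ hC hy f.2) (regAt_sec hδ hC hy g.2)]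
      map_smul' := fun a f => by
        ext1
        change rs C.subschemeι ((a • f.1) / y ^ n) = a • rs C.subschemeι (f.1 / y ^ n)
        rw [Algebra.smul_def, mul_div_assoc, ← Algebra.smul_def]
        exact rs_smul k C a (regAt_sec hδ hC hy f.2) }
  have hker : Module.finrank k (LinearMap.ker R) ≤ Module.finrank k (secs k (fun x : X => δ x ^ (n - m))) := by
    have hmem : ∀ f : LinearMap.ker R, f.1.1 / e ∈ secs k (fun x : X => δ x ^ (n - m)) := by
      intro f
      refine div_mem P hδ hC hd he f.1.2 ?_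
      have h1 : rs C.subschemeι (f.1.1 / y ^ n) = 0 := congrArg Subtype.val (LinearMap.mem_ker.1 f.2)
      rw [rs_eq_zero_iff (regAt_sec hδ hC hy f.1.2)] at h1
      intro h2
      apply h1
      have hδ0 := hδ.1 (gp hC)
      have hy0 : y / δ (gp hC) ≠ 0 := unitAt_ne_zero hy
      have hy1 : y ≠ 0 := fun h => hy0 (by rw [h, zero_div])
      have h3 := unitAt_mul h2 (unitAt_zpow hy (-n))
      rwa [show f.1.1 / δ (gp hC) ^ n * (y / δ (gp hC)) ^ (-n) = f.1.1 / y ^ n by
        rw [div_zpow, zpow_neg, zpow_neg]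
        have := zpow_ne_zero n hδ0
        have := zpow_ne_zero n hy1
        field_simp] at h3
    have he0 := e_ne_zero hδ hd he (genericPoint X)
    let T : LinearMap.ker R →ₗ[k] secs k (fun x : X => δ x ^ (n - m)) :=
      { toFun := fun f => ⟨f.1.1 / e, hmem f⟩
        map_add' := fun f g => by
          ext1
          change (f.1.1 + g.1.1) / e = f.1.1 / e + g.1.1 / e
          rw [add_div]
        map_smul' := fun a f => by
          ext1
          change (a • f.1.1) / e = a • (f.1.1 / e)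
          rw [Algebra.smul_def, Algebra.smul_def, mul_div_assoc] }
    refine LinearMap.finrank_le_finrank_of_injective (f := T) ?_
    rw [injective_iff_map_eq_zero]
    intro f hf
    have h1 : f.1.1 / e = 0 := congrArg Subtype.val hf
    rw [div_eq_zero_iff] at h1
    exact Subtype.ext (Subtype.ext (h1.resolve_right he0))
  have h1 := LinearMap.finrank_range_add_finrank_ker R
  have h2 : LinearMap.range R = ⊤ := by
    refine Submodule.eq_top_of_finrank_eq (le_antisymm (Submodule.finrank_le _) ?_)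
    rw [finrank_V P hδ] at h1 hker
    omega
  intro v hv
  obtain ⟨f, hf⟩ := LinearMap.range_eq_top.1 h2 ⟨v, hv⟩
  exact ⟨f.1, f.2, congrArg Subtype.val hf⟩

end curve

end Groth.Agent.Surf.K463.ZSeq
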