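import Groth.Agent.Surf.K463.ZCrv
import Groth.Agent.Surf.K159.QuadZero
import Groth.Agent.Surf.K405.TorsTwo

/-!
# A section of degree four with even divisor on the branch curve

* `exists_even`: there are `l = l₀ t + l₁` and `b(t)` of degree at most four such that `b + l² ζ` restricted to the
  branch curve is `h² / g` where `g` is not a square but has even order everywhere.
-/

set_option autoImplicit false
universe u
open CategoryTheory CategoryTheory.Limits AlgebraicGeometry TopologicalSpace Opposite IsLocalRing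

namespace Groth.Agent.Surf.K463.ZTwo

open Groth.Agent Groth.Agent.Fdesc.LocGen Groth.Agent.Lefpen.H725.CocDef Groth.Agent.Lefpen.H521.CartierCoc
open K801.Cousin K801.CousinH1 K801.LEq Groth.Agent.Grpsch.PicGrp K464.Curves K464.Base Groth.Agent.Divis.CartierBasic
open K460.SurfKit K460.DelPezzo K460.ZSec K460.ZCurve K460.PicZ K460.PicZ.Gr K460.ZGeo ZRes ZSeq ZPt ZWei ZRep ZEq ZB ZCrv

attribute [local instance] algK

variable {k : Type u} [Field k] [IsAlgClosed k] [CharZero k] {X : Scheme.{u}} [X.Over (Spec (CommRingCat.of k))]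
  [IsIntegral X] [IsProper (X ↘ Spec (CommRingCat.of k))] [Smooth (X ↘ Spec (CommRingCat.of k))]
  {W D : X.Modules} {P : DP k X W D} {hpic : ∀ c : Pic X, ∃ n : ℤ, c = mk W P.hWi ^ n}
  {δ : X → X.functionField} {hδ : HasCoc D δ}
  {x y z w : X.functionField} {p : X} (g : Gen P hpic hδ x y z w p)
  (hK : Kod k X) (hd1 : dot k X (mk W P.hWi) (mk W P.hWi) = 1)

include g hK hd1

theorem exists_even {b₂ b₄ b₆ : Polynomial k} (h₂ : b₂.natDegree ≤ 2) (h₄ : b₄.natDegree ≤ 4) (h₆ : b₆.natDegree ≤ 6)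
    (hweq : (w / y ^ 3) ^ 2 = (z / y ^ 2) ^ 3 + Polynomial.aeval (x / y) b₂ * (z / y ^ 2) ^ 2 +
        Polynomial.aeval (x / y) b₄ * (z / y ^ 2) + Polynomial.aeval (x / y) b₆)
    {C : X.IdealSheafData} (hC : IsCurve C) {d : X → X.functionField} (hd : IsLEq C d)
    (he : ∀ x, UnitAt x (w / δ x ^ (3 : ℤ) / d x)) :
    haveI := hC.integral
    ∃ (l₀ l₁ : k) (b : Polynomial k) (ε : C.subscheme → C.subscheme.functionField) (γ h : C.subscheme.functionField),
      b.natDegree ≤ 4 ∧ (∀ q, ε q ≠ 0) ∧ γ ≠ 0 ∧ h ≠ 0 ∧ (∀ q, UnitAt q (ε q ^ 2 / γ)) ∧ (∀ m, γ ≠ m ^ 2) ∧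
      rs C.subschemeι (ev k (z / y ^ 2) (x / y)
        (Polynomial.C b + Polynomial.C ((Polynomial.C l₀ * Polynomial.X + Polynomial.C l₁) ^ 2) * Polynomial.X)) =
        h ^ 2 / γ := by
  letI := overC k X C
  have := isProper_sub k X C
  have := hC.integral
  have := smooth_curve g h₂ h₄ h₆ hweq hC hd he
  have hdim : topologicalKrullDim C.subscheme = 1 := (dim_sub X C).trans hC.dim
  have hCe := isEff_of_smooth k P.hdim hC
  have hy := hyξ g hC hd he
  have hy0 := g.hy0
  have hgen := genus_curve g hK hd1 hC hd he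
  obtain ⟨L, hL, hLc, hLm⟩ := coc_zpow P.hamp.1 hδ 2
  have hu : ∀ (n : ℤ) (q : C.subscheme), UnitAt (C.subschemeι (genericPoint C.subscheme))
      (δ (C.subschemeι q) ^ n / y ^ n) := by
    intro n q
    rw [← div_zpow]
    exact unitAt_zpow (unit_div hδ hC hy q) n
  have hM := hasCoc_restrict hLc (hu 2)
  have hMi := Fdesc.LocGen.isInvertible_pullback C.subschemeι hL
  have hdeg : Curv2.deg k C.subscheme ((Scheme.Modules.pullback C.subschemeι).obj L) 1 = 6 := by
    rw [← degOn_eq_deg k X C hL, hLm, deg_curve g hd1 hC hd he]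
    norm_num
  obtain ⟨ε, γ, hε, hγ, hεγ, hsq, hrk⟩ := K405.TorsTwo.exists_tors k hdim (by rw [hgen]; norm_num) hMi hM
  rw [hdeg, hgen] at hrk
  obtain ⟨η, hη⟩ := exists_linearIndependent_of_le_finrank (R := k)
    (M := secs k (fun q : C.subscheme => ε q * rs C.subschemeι (δ (C.subschemeι q) ^ (2 : ℤ) / y ^ (2 : ℤ)))) (n := 3)
    (by omega)
  -- regularity at the generic point of the curve
  have rt : RegAt (gp hC) (x / y) := by
    have := regAt_sec hδ hC hy g.hx
    rwa [zpow_one] at this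
  have rζ : RegAt (gp hC) (z / y ^ 2) := by
    have := regAt_sec hδ hC hy g.hz
    exact_mod_cast this
  obtain ⟨rω, hω0⟩ := rs_w g hC hd he
  have rev : ∀ q, RegAt (gp hC) (ev k (z / y ^ 2) (x / y) q) := fun q => regAt_ev rζ rt q
  have hA : ∀ q : C.subscheme, rs C.subschemeι (δ (C.subschemeι q) ^ (2 : ℤ) / y ^ (2 : ℤ)) ≠ 0 :=
    fun q => rs_ne_zero (hu 2 q)
  have hmem : ∀ i j, (η i).1 * (η j).1 / γ ∈
      secs k (fun q : C.subscheme => rs C.subschemeι (δ (C.subschemeι q) ^ (4 : ℤ) / y ^ (4 : ℤ))) := by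
    intro i j q
    change RegAt q ((η i).1 * (η j).1 / γ / rs C.subschemeι (δ (C.subschemeι q) ^ (4 : ℤ) / y ^ (4 : ℤ)))
    have e1 : δ (C.subschemeι q) ^ (4 : ℤ) / y ^ (4 : ℤ) = (δ (C.subschemeι q) ^ (2 : ℤ) / y ^ (2 : ℤ)) ^ 2 := by
      rw [div_pow]
      norm_cast
      rw [← pow_mul, ← pow_mul]
    rw [e1, rs_pow (unitAt_regAt (hu 2 q))]
    have e2 := regAt_mul (regAt_mul ((η i).2 q) ((η j).2 q)) (unitAt_regAt (hεγ q))
    have h1 := hA q
    have h2 := hε q
    convert e2 using 1
    simp only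
    field_simp
  have H : ∀ i j, ∃ q : Polynomial (Polynomial k), Wt 4 q ∧
      rs C.subschemeι (ev k (z / y ^ 2) (x / y) q) = (η i).1 * (η j).1 / γ := by
    intro i j
    obtain ⟨s, hs, hse⟩ := surj P hδ hC hd he hCe hK 4 hy _ (hmem i j)
    obtain ⟨q, q', hq, -, hsq⟩ := rep g 4 s hs
    refine ⟨q, by exact_mod_cast hq, ?_⟩
    rw [← hse, hsq]
    have e1 : y ^ 4 * (ev k (z / y ^ 2) (x / y) q + w / y ^ 3 * ev k (z / y ^ 2) (x / y) q') / y ^ (4 : ℤ) =
        ev k (z / y ^ 2) (x / y) q + w / y ^ 3 * ev k (z / y ^ 2) (x / y) q' := by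
      norm_cast
      field_simp
    rw [e1, rs_add (rev q) (regAt_mul rω (rev q')), rs_mul rω (rev q'), hω0, zero_mul, add_zero]
  choose pp hpw hpe using H
  obtain ⟨c, l₀, l₁, hc, hτ, hα, hβ, hγ'⟩ := K159.QuadZero.exists_zero (fun i j => ((pp i j).coeff 2).coeff 0)
    (fun i j => ((pp i j).coeff 1).coeff 2) (fun i j => ((pp i j).coeff 1).coeff 1) (fun i j => ((pp i j).coeff 1).coeff 0)
  set Q : Polynomial (Polynomial k) := ∑ i, ∑ j, Polynomial.C (Polynomial.C (c i * c j)) * pp i j with hQ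
  have hQw : Wt 4 Q := by
    refine Wt.sum _ fun i _ => Wt.sum _ fun j _ => ?_
    have h1 : Wt ((0 : ℕ) : ℤ) (Polynomial.C (Polynomial.C (c i * c j)) : Polynomial (Polynomial k)) :=
      Wt.C (by rw [Polynomial.natDegree_C])
    have := Wt.mul h1 (hpw i j)
    exact_mod_cast this
  have hcoef : ∀ a b, (Q.coeff a).coeff b = ∑ i, ∑ j, c i * c j * ((pp i j).coeff a).coeff b := by
    intro a b
    rw [hQ]
    simp only [Polynomial.finset_sum_coeff, Polynomial.coeff_C_mul]
  have hQe : Q = Polynomial.C (Q.coeff 0) +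
      Polynomial.C ((Polynomial.C l₀ * Polynomial.X + Polynomial.C l₁) ^ 2) * Polynomial.X := by
    have h1 : Q.coeff 1 = (Polynomial.C l₀ * Polynomial.X + Polynomial.C l₁) ^ 2 := by
      have e1 : (Polynomial.C l₀ * Polynomial.X + Polynomial.C l₁) ^ 2 = Polynomial.C (l₀ ^ 2) * Polynomial.X ^ 2 +
          Polynomial.C (2 * l₀ * l₁) * Polynomial.X + Polynomial.C (l₁ ^ 2) := by
        simp only [Polynomial.C_mul, Polynomial.C_pow, Polynomial.C_ofNat]
        ring
      rw [e1, ← hα, ← hβ, ← hγ', ← hcoef, ← hcoef, ← hcoef]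
      ext n
      rcases n with _ | _ | _ | n
      · simp
      · simp
      · simp [Polynomial.coeff_X, Polynomial.coeff_C]
      · have : (Q.coeff 1).coeff (n + 1 + 1 + 1) = 0 := by
          by_contra hne
          have := hQw _ _ hne
          push_cast at this
          omega
        rw [this]
        simp [Polynomial.coeff_X, Polynomial.coeff_C, Polynomial.coeff_X_pow]
    ext1 n
    rcases n with _ | _ | _ | n
    · simp
    · change Q.coeff 1 = (_ : Polynomial (Polynomial k)).coeff 1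
      rw [Polynomial.coeff_add, Polynomial.coeff_C_mul, Polynomial.coeff_X_one, mul_one,
        Polynomial.coeff_C_ne_zero one_ne_zero, zero_add]
      exact h1
    · have : Q.coeff (0 + 1 + 1) = 0 := by
        ext m
        rcases m with _ | m
        · change (Q.coeff 2).coeff 0 = _
          rw [hcoef, hτ, Polynomial.coeff_zero]
        · by_contra hne
          have := hQw _ _ hne
          push_cast at this
          omega
      rw [this]
      change 0 = (_ : Polynomial (Polynomial k)).coeff 2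
      rw [Polynomial.coeff_add, Polynomial.coeff_C_mul, Polynomial.coeff_X, Polynomial.coeff_C]
      simp
    · have : Q.coeff (n + 1 + 1 + 1) = 0 := by
        ext m
        by_contra hne
        have := hQw _ _ hne
        push_cast at this
        omega
      rw [this, Polynomial.coeff_add, Polynomial.coeff_C_mul, Polynomial.coeff_X, Polynomial.coeff_C]
      simp
  set h : C.subscheme.functionField := ∑ i, algebraMap k _ (c i) * (η i).1 with hh
  have hh0 : h ≠ 0 := by
    intro h0
    apply hc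
    rw [Fintype.linearIndependent_iff] at hη
    ext i
    refine hη c ?_ i
    apply Subtype.ext
    rw [Submodule.coe_sum, Submodule.coe_zero, ← h0, hh]
    refine Finset.sum_congr rfl fun i _ => ?_
    rw [Submodule.coe_smul, Algebra.smul_def]
  refine ⟨l₀, l₁, Q.coeff 0, ε, γ, h, ?_, hε, hγ, hh0, hεγ, hsq, ?_⟩
  · by_contra hne
    push Not at hne
    have h1 : (Q.coeff 0).coeff (Q.coeff 0).natDegree ≠ 0 := by
      rw [Polynomial.coeff_natDegree, Ne, Polynomial.leadingCoeff_eq_zero]
      intro h0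
      rw [h0] at hne
      simp at hne
    have := hQw _ _ h1
    push_cast at this
    omega
  · rw [← hQe, hQ]
    have rsum : ∀ (F : Fin 3 → X.functionField), (∀ i, RegAt (gp hC) (F i)) →
        RegAt (gp hC) (∑ i, F i) ∧ rs C.subschemeι (∑ i, F i) = ∑ i, rs C.subschemeι (F i) := by
      intro F hF
      rw [Fin.sum_univ_three, Fin.sum_univ_three]
      exact ⟨regAt_add (regAt_add (hF 0) (hF 1)) (hF 2), by
        rw [rs_add (regAt_add (hF 0) (hF 1)) (hF 2), rs_add (hF 0) (hF 1)]⟩
    have e1 : ev k (z / y ^ 2) (x / y) (∑ i, ∑ j, Polynomial.C (Polynomial.C (c i * c j)) * pp i j) =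
        ∑ i, ∑ j, (c i * c j) • ev k (z / y ^ 2) (x / y) (pp i j) := by
      simp only [map_sum, map_mul, ev_C, Polynomial.aeval_C, Algebra.smul_def]
    have r1 : ∀ i j, RegAt (gp hC) ((c i * c j) • ev k (z / y ^ 2) (x / y) (pp i j)) := fun i j => by
      rw [Algebra.smul_def]
      exact regAt_mul (regAt_algebraMap k _ _) (rev _)
    have e2 := fun i => rsum _ (r1 i)
    rw [e1, (rsum _ (fun i => (e2 i).1)).2]
    simp only [(e2 _).2]
    have e3 : ∀ i j, rs C.subschemeι ((c i * c j) • ev k (z / y ^ 2) (x / y) (pp i j)) =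
        algebraMap k _ (c i) * (η i).1 * (algebraMap k _ (c j) * (η j).1) / γ := by
      intro i j
      rw [rs_smul k C _ (rev _), hpe, Algebra.smul_def, map_mul]
      ring
    simp only [e3]
    rw [hh, sq, Finset.sum_mul_sum, Finset.sum_div]
    refine Finset.sum_congr rfl fun i _ => ?_
    rw [Finset.sum_div]

end Groth.Agent.Surf.K463.ZTwo
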