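import Groth.Agent.Surf.K463.ZPt
import Groth.Agent.Surf.K463.ZRep
import Groth.Agent.VarietyA.RegPoint

/-!
# Generators of the anticanonical ring of a del Pezzo surface of degree one

* `exists_gen`: `x, y ∈ V 1`, `z ∈ V 2`, `w ∈ V 3` such that the elements of `V n` have normal forms; base point.
-/

set_option autoImplicit false
universe u
open CategoryTheory CategoryTheory.Limits AlgebraicGeometry TopologicalSpace Opposite IsLocalRing

namespace Groth.Agent.Surf.K463.ZWei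

open Groth.Agent Groth.Agent.Fdesc.LocGen Groth.Agent.Lefpen.H725.CocDef Groth.Agent.Lefpen.H521.CartierCoc
open K801.Cousin K801.CousinH1 K801.LEq Groth.Agent.Grpsch.PicGrp K464.Curves K464.Base Groth.Agent.Divis.CartierBasic
open K460.SurfKit K460.DelPezzo K460.ZSec K460.ZCurve K460.PicZ K460.ZGeo ZRes ZSeq ZPt

attribute [local instance] algK

section val

variable {X : Scheme.{u}} [IsIntegral X]

theorem not_unitAt_iff {p : X} {u : X.functionField} (hu : RegAt p u) :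
    ¬ UnitAt p u ↔ ∃ a ∈ maximalIdeal (X.presheaf.stalk p), algebraMap _ X.functionField a = u := by
  obtain ⟨a, rfl⟩ := exists_stalk hu
  constructor
  · intro h
    refine ⟨a, ?_, rfl⟩
    rw [mem_maximalIdeal, mem_nonunits_iff]
    intro ha
    apply h
    have := K484.CocPull.unitAt_algebraMap ha.unit
    rwa [IsUnit.unit_spec] at this
  · rintro ⟨b, hb, hba⟩ h
    obtain ⟨c, hc⟩ := K484.CocTwist.unitAt_range h
    have h1 : b = (c : X.presheaf.stalk p) := IsFractionRing.injective _ X.functionField (by rw [hba, ← hc])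
    rw [mem_maximalIdeal, mem_nonunits_iff, h1] at hb
    exact hb c.isUnit

theorem not_unitAt_add {p : X} {u v : X.functionField} (hu : RegAt p u) (hv : RegAt p v) (hu' : ¬ UnitAt p u)
    (hv' : ¬ UnitAt p v) : ¬ UnitAt p (u + v) := by
  rw [not_unitAt_iff hu] at hu'
  rw [not_unitAt_iff hv] at hv'
  rw [not_unitAt_iff (regAt_add hu hv)]
  obtain ⟨a, ha, rfl⟩ := hu'
  obtain ⟨b, hb, rfl⟩ := hv'
  exact ⟨a + b, Ideal.add_mem _ ha hb, map_add _ _ _⟩

theorem not_unitAt_mul {p : X} {u v : X.functionField} (hu : RegAt p u) (hv : RegAt p v) (hu' : ¬ UnitAt p u) :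
    ¬ UnitAt p (u * v) := by
  rw [not_unitAt_iff hu] at hu'
  rw [not_unitAt_iff (regAt_mul hu hv)]
  obtain ⟨a, ha, rfl⟩ := hu'
  obtain ⟨b, rfl⟩ := exists_stalk hv
  exact ⟨a * b, Ideal.mul_mem_right _ _ ha, map_mul _ _ _⟩

variable (k : Type u) [Field k] [IsAlgClosed k] [X.Over (Spec (CommRingCat.of k))]
  [LocallyOfFiniteType (X ↘ Spec (CommRingCat.of k))]

/-- The value at a closed point. -/
theorem exists_val {p : X} (hp : IsClosed ({p} : Set X)) {u : X.functionField} (hu : RegAt p u) :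
    ∃ c : k, ¬ UnitAt p (u - algebraMap k X.functionField c) := by
  obtain ⟨a, rfl⟩ := exists_stalk hu
  obtain ⟨c, hc⟩ := VarietyA.RegPoint.exists_sub_mem_maximalIdeal k X hp a
  refine ⟨c, ?_⟩
  rw [not_unitAt_iff (regAt_sub hu (regAt_algebraMap k p c))]
  refine ⟨_, hc, ?_⟩
  rw [map_sub]
  congr 1
  exact algebraMap_germ (x := p) (U := ⊤) trivial trivial _ |>.trans (by
    rw [algebraMap_eq k (U := (⊤ : X.Opens)) trivial]
    congr 1
    exact (ConcreteCategory.congr_hom (X.presheaf.map_id (op (⊤ : X.Opens))) _).symm)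

end val

variable {k : Type u} [Field k] [IsAlgClosed k] {X : Scheme.{u}} [X.Over (Spec (CommRingCat.of k))]
  [IsIntegral X] [IsProper (X ↘ Spec (CommRingCat.of k))] [Smooth (X ↘ Spec (CommRingCat.of k))]
  {W D : X.Modules} (P : DP k X W D) (hpic : ∀ c : Pic X, ∃ n : ℤ, c = mk W P.hWi ^ n)
  {δ : X → X.functionField} (hδ : HasCoc D δ)

include hpic in
theorem dims (hK : Kod k X) (hd1 : dot k X (mk W P.hWi) (mk W P.hWi) = 1) (n : ℕ) :
    2 * Module.finrank k ((gr P hpic hδ).V n) = n * (n + 1) + 2 := by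
  have h := h0_zpow P hK (n := (n : ℤ)) (by positivity)
  rw [← finrank_gr P hpic hδ n, hd1] at h
  zify
  rw [h]
  ring

/-- Data of the anticanonical ring. -/
structure Gen (x y z w : X.functionField) (p : X) : Prop where
  hx : x ∈ (gr P hpic hδ).V 1
  hy : y ∈ (gr P hpic hδ).V 1
  hz : z ∈ (gr P hpic hδ).V 2
  hw : w ∈ (gr P hpic hδ).V 3
  hx0 : x ≠ 0
  hy0 : y ≠ 0
  h1 : ∀ f ∈ (gr P hpic hδ).V 1, ∃ a b : k, f = a • x + b • y
  hp : IsClosed ({p} : Set X)
  hxp : ¬ UnitAt p (x / δ p ^ (1 : ℤ))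
  hyp : ¬ UnitAt p (y / δ p ^ (1 : ℤ))
  huniq : ∀ q : X, ¬ UnitAt q (x / δ q ^ (1 : ℤ)) → ¬ UnitAt q (y / δ q ^ (1 : ℤ)) → q = p
  hzp : UnitAt p (z / δ p ^ (2 : ℤ))
  hwp : UnitAt p (w / δ p ^ (3 : ℤ))
  hker : ∀ (n : ℤ), ∀ s ∈ (gr P hpic hδ).V n, ¬ UnitAt p (s / δ p ^ n) →
        ∃ a ∈ (gr P hpic hδ).V (n - 1), ∃ b ∈ (gr P hpic hδ).V (n - 1), s = x * a + y * b
  hdim : ∀ n : ℕ, 2 * Module.finrank k ((gr P hpic hδ).V n) = n * (n + 1) + 2

theorem exists_gen (hK : Kod k X) (hd1 : dot k X (mk W P.hWi) (mk W P.hWi) = 1) :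
    ∃ x y z w p, Gen P hpic hδ x y z w p := by
  let G := gr P hpic hδ
  have hdim := dims P hpic hδ hK hd1
  have hd1 : Module.finrank k (G.V 1) = 2 := by
    have : 2 * Module.finrank k (G.V 1) = _ := hdim 1
    omega
  have hfin := G.fin
  let b := Module.finBasisOfFinrankEq k (G.V 1) hd1
  have hli : LinearIndependent k ![(b 0 : X.functionField), (b 1 : X.functionField)] := by
    have h1 : LinearIndependent k (fun i => (b i : X.functionField)) :=
      b.linearIndependent.map' (G.V 1).subtype (Submodule.ker_subtype _)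
    convert h1 using 1
    ext i
    fin_cases i <;> rfl
  obtain ⟨p, hp, hxp, hyp, huniq, hker⟩ := exists_base P hpic hδ hK (by assumption) (b 0).2 (b 1).2 hli
  have hx0 : (b 0 : X.functionField) ≠ 0 := hli.ne_zero 0
  have hy0 : (b 1 : X.functionField) ≠ 0 := hli.ne_zero 1
  have hne : ∀ n : ℕ, ∃ s ∈ G.V ((n + 2 : ℕ) : ℤ), UnitAt p (s / δ p ^ (((n + 2 : ℕ) : ℤ))) := by
    intro n
    by_contra hcon
    push Not at hcon
    let Φ : (G.V ((n + 1 : ℕ) : ℤ) × G.V ((n + 1 : ℕ) : ℤ)) →ₗ[k] X.functionField :=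
      (LinearMap.mulLeft k (b 0 : X.functionField)).comp ((Submodule.subtype _).comp (LinearMap.fst k _ _)) +
      (LinearMap.mulLeft k (b 1 : X.functionField)).comp ((Submodule.subtype _).comp (LinearMap.snd k _ _))
    have hΦ : ∀ u, Φ u = b 0 * u.1.1 + b 1 * u.2.1 := fun u => rfl
    have h1 : G.V ((n + 2 : ℕ) : ℤ) ≤ LinearMap.range Φ := by
      intro s hs
      obtain ⟨a, ha, c, hc, rfl⟩ := hker _ s hs (hcon s hs)
      have e : ((n + 2 : ℕ) : ℤ) - 1 = ((n + 1 : ℕ) : ℤ) := by push_cast; ring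
      rw [e] at ha hc
      exact ⟨(⟨a, ha⟩, ⟨c, hc⟩), rfl⟩
    let Ψ : G.V (n : ℤ) →ₗ[k] LinearMap.ker Φ :=
      { toFun := fun c => ⟨(⟨b 1 * c.1, Gr.mul_mem' (b 1).2 c.2 (by push_cast; ring)⟩,
          ⟨-(b 0 * c.1), Submodule.neg_mem _ (Gr.mul_mem' (b 0).2 c.2 (by push_cast; ring))⟩), by
            rw [LinearMap.mem_ker, hΦ]
            ring⟩
        map_add' := fun c d => by
          ext <;> simp [mul_add] <;> ring
        map_smul' := fun a c => by
          ext <;> simp }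
    have hΨ : Function.Injective Ψ := by
      rw [injective_iff_map_eq_zero]
      intro c hc
      have h2 : (b 1 : X.functionField) * c.1 = 0 := congrArg (fun u => (u.1.1 : G.V _).1) hc
      exact Subtype.ext ((mul_eq_zero.1 h2).resolve_left hy0)
    have h2 := LinearMap.finrank_le_finrank_of_injective hΨ
    have h3 := LinearMap.finrank_range_add_finrank_ker Φ
    rw [Module.finrank_prod] at h3
    have h4 := Submodule.finrank_mono h1
    have h5 := hdim n
    have h6 := hdim (n + 1)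
    have h7 := hdim (n + 2)
    have h5' : 2 * Module.finrank k (G.V (n : ℤ)) = n * (n + 1) + 2 := h5
    have h6' : 2 * Module.finrank k (G.V ((n + 1 : ℕ) : ℤ)) = (n + 1) * (n + 1 + 1) + 2 := h6
    have h7' : 2 * Module.finrank k (G.V ((n + 2 : ℕ) : ℤ)) = (n + 2) * (n + 2 + 1) + 2 := h7
    nlinarith
  obtain ⟨z, hz, hzp⟩ := hne 0
  obtain ⟨w, hw, hwp⟩ := hne 1
  refine ⟨b 0, b 1, z, w, p, (b 0).2, (b 1).2, by exact_mod_cast hz, by exact_mod_cast hw, hx0, hy0, ?_, hp, hxp, hyp, huniq,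
    by exact_mod_cast hzp, by exact_mod_cast hwp, hker, hdim⟩
  intro f hf
  have h1 := b.sum_repr ⟨f, hf⟩
  rw [Fin.sum_univ_two] at h1
  exact ⟨_, _, (congrArg Subtype.val h1).symm⟩

end Groth.Agent.Surf.K463.ZWei
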